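import Cfsg.Agent.JFourType.Perfect
import Cfsg.Agent.Coprime.Generation

/-!
# The centralizer and normalizer of `p`

The involution `z` is isolated in the centralizer of `p`, so that centralizer is `C` times an odd
core, which the four-group of conjugates of `z` in `C` shows to be inside `⟨p⟩`.
-/

set_option autoImplicit false
set_option linter.style.haveILetI false
set_option linter.unusedVariables false
set_option linter.unusedSimpArgs false
set_option linter.unusedSectionVars false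
set_option linter.overlappingInstances false

namespace CfsgLib.JFourType

open Cfsg CfsgLib.LargeExtraspecial Module

namespace Shape

variable {G : Type*} [Group G] [Finite G] {S : Shape G}

/-- An involution of `C` other than `z` is inner, outside `E`, and centralises its fixed space. -/
theorem involution_of_C {T : Shape G} (hc : T.z ∈ S.C) (hne : T.z ≠ S.z) :
    T.z ∉ S.E ∧ LamZero S T ∧
      finrank (ZMod 2) (S.vecs (S.cent T)) = 8 := by
  have hH := S.C_le_H hc
  have hnE : T.z ∉ S.E := fun he => by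
    rcases E_inf_C he hc with e | e
    · exact T.sub.ne_one e
    · exact hne e
  have hl : LamZero S T := fun e he hfix => comm_of_fix hc he hfix
  refine ⟨hnE, hl, ?_⟩
  rw [vecs_cent_eq_of_lamZero hH hl]
  exact finrank_ker_inner hH (inner_of_C hc) (by rw [T.z_mul_z]; exact one_mem _) hnE

/-- `z` has no other conjugate under `C_G(p)` commuting with it. -/
theorem isolated {y : G} (hy : y * S.p = S.p * y)
    (hc : y * S.z * y⁻¹ * S.z = S.z * (y * S.z * y⁻¹)) : y * S.z * y⁻¹ = S.z := by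
  by_contra hne
  set T := S.conj y with hT
  have hTp : T.p = S.p := by
    rw [hT, conj_p, hy, mul_inv_cancel_right]
  have hH : T.z ∈ S.H := S.mem_H.2 hc
  have hH' : S.z ∈ T.H := T.mem_H.2 hc.symm
  have hTC : T.z ∈ S.C := S.mem_C.2 ⟨hc, by
    have := T.p_comm
    rw [hTp] at this
    exact this.symm⟩
  have hzT : S.z ∈ T.C := T.mem_C.2 ⟨hc.symm, by rw [hTp]; exact S.p_comm.symm⟩
  obtain ⟨hnE, hl, h8⟩ := involution_of_C hTC hne
  have hzE : S.z ∉ T.E := fun he => by
    rcases E_inf_C he hzT with e | e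
    · exact S.sub.ne_one e
    · exact hne e.symm
  set X := S.cent T ⊓ T.innerH with hX
  have hXle : X ≤ S.E := fun x hx => hx.1.1
  have hcard : Nat.card (S.cent T) ≤ 2 * Nat.card X := by
    let f : ↥(S.cent T) →* MulAut M22g ⧸ Inn M22g :=
      (QuotientGroup.mk' (Inn M22g)).comp
        (MonoidHom.mk' (fun y : ↥(S.cent T) => T.piv y) fun a b => piv_mul a.2.2 b.2.2)
    have hk : f.ker ≤ X.subgroupOf (S.cent T) := fun x hx =>
      Subgroup.mem_subgroupOf.2 ⟨x.2, x.2.2, (QuotientGroup.eq_one_iff _).1 hx⟩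
    have h1 := f.ker.index_mul_card
    rw [Subgroup.index_ker] at h1
    rw [← h1]
    exact Nat.mul_le_mul ((Finite.card_subtype_le _).trans_eq inn_index)
      ((Subgroup.card_le_of_le hk).trans_eq
        (Nat.card_congr (Subgroup.subgroupOfEquivOfLe inf_le_left).toEquiv))
  have hR : finrank (ZMod 2) (S.vecs (S.meet T)) ≤ 4 := by
    have hle : S.vecs (S.meet T) ≤ LinearMap.range (nMap (S.cj T.z)) := by
      rw [← S.space.orth_orth (LinearMap.range (nMap (S.cj T.z))),
        (isIso_cj hH).orth_range (z_cj_sq hH), ← vecs_cent_eq_of_lamZero hH hl]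
      rintro _ ⟨r, hr, hrE, rfl⟩
      refine S.space.mem_orth'.2 ?_
      rintro _ ⟨x, hx, hxE, rfl⟩
      exact (space_B_eq_zero hrE hxE).2 (cent_comm_meet hzE hx hr).symm
    refine (Submodule.finrank_mono hle).trans_eq ?_
    exact rk_eq_four hH (inner_of_C hTC) (by rw [T.z_mul_z]; exact one_mem _) hnE
  have hmap : (S.vecs X).map (S.space.om.trans S.space.om).toLinearMap ≤ S.vecs (S.meet T) := by
    rintro _ ⟨_, ⟨x, hx, hxE, rfl⟩, rfl⟩
    have h1 : S.p * x * S.p⁻¹ * x⁻¹ ∈ S.E := mul_mem (S.conj_mem S.p_mem_H hxE) (inv_mem hxE)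
    have h2 : S.p * x * S.p⁻¹ * x⁻¹ ∈ T.E := by
      have hxT : x ∈ T.H := hx.1.2
      have hpT : S.p ∈ T.H := hTp ▸ T.p_mem_H
      refine mem_E_of_cj (mul_mem (mul_mem (mul_mem hpT hxT) (inv_mem hpT)) (inv_mem hxT)) fun v => ?_
      have hl' := lin_of_inner hxT hx.2.2
      have e1 : ∀ w, T.cj S.p w = T.space.om w := fun w => by rw [space_om, hTp]
      rw [T.cj_mul (mul_mem (mul_mem hpT hxT) (inv_mem hpT)) (inv_mem hxT),
        T.cj_mul (mul_mem hpT hxT) (inv_mem hpT), T.cj_mul hpT hxT, e1, ← hl', ← e1,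
        ← T.cj_mul hpT (inv_mem hpT), mul_inv_cancel, cj_one,
        ← T.cj_mul hxT (inv_mem hxT), mul_inv_cancel, cj_one]
    refine ⟨_, ⟨h1, h2⟩, h1, ?_⟩
    rw [pr_mul (S.conj_mem S.p_mem_H hxE) (inv_mem hxE), pr_inv hxE, ← S.cj_pr S.p_mem_H hxE,
      ← space_om]
    exact (S.space.om_om _).symm
  have hd := (Submodule.finrank_mono hmap).trans hR
  rw [LinearEquiv.finrank_map_eq] at hd
  have h2 := card_cent (S := S) (T := T) hH
  rw [h8] at h2
  have h3 : Nat.card X ≤ 32 := (card_le_of_vecs hXle).trans (by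
    calc 2 * 2 ^ _ ≤ 2 * 2 ^ 4 := Nat.mul_le_mul_left _ (Nat.pow_le_pow_right (by norm_num) hd)
      _ = 32 := by norm_num)
  omega

/-- An element normalising `⟨p⟩` carries `z` only to itself among the involutions commuting with
it. -/
theorem isolated_inv {y : G} (hy : y * S.p * y⁻¹ = S.p⁻¹)
    (hc : y * S.z * y⁻¹ * S.z = S.z * (y * S.z * y⁻¹)) : y * S.z * y⁻¹ = S.z := by
  obtain ⟨τ, hτz, hτ⟩ := S.invert
  have e : y * τ * S.z * (y * τ)⁻¹ = y * S.z * y⁻¹ := by
    rw [mul_assoc y τ S.z, hτz]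
    group
  have hyτ : y * τ * S.p = S.p * (y * τ) := by
    refine mul_inv_eq_iff_eq_mul.1 ?_
    calc y * τ * S.p * (y * τ)⁻¹ = y * (τ * S.p * τ⁻¹) * y⁻¹ := by group
      _ = y * S.p⁻¹ * y⁻¹ := by rw [hτ]
      _ = (y * S.p * y⁻¹)⁻¹ := by group
      _ = S.p := by rw [hy, inv_inv]
  rw [← e]
  exact isolated hyτ (e ▸ hc)

/-- A conjugate shape at another involution of `C` does not have `p` in its kernel. -/
theorem conj_piv_p_ne_one {c y : G} (hcC : c ∈ S.C) (hne : c ≠ S.z) (hTz : (S.conj y).z = c) :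
    (S.conj y).piv S.p ≠ 1 := by
  set T := S.conj y with hT
  have hpT : S.p ∈ T.H := T.mem_H.2 (by rw [hTz]; exact (S.mem_C.1 hcC).2.symm)
  intro h1
  obtain ⟨e, he, k, hk⟩ := (piv_eq_one hpT).1 h1
  rw [T.p_pow_mod] at hk
  have h3 : (e * T.p ^ (k % 3)) ^ 3 = 1 := hk ▸ S.p_pow_three
  have hk12 : k % 3 = 1 ∨ k % 3 = 2 := by
    rcases (by omega : k % 3 = 0 ∨ k % 3 = 1 ∨ k % 3 = 2) with h | h | h
    · exfalso
      rw [h, pow_zero, mul_one] at hk
      obtain ⟨n, hn⟩ := T.isPGroup_E ⟨e, he⟩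
      have hpow : S.p ^ 2 ^ n = 1 := hk ▸ (congrArg Subtype.val hn : e ^ 2 ^ n = 1)
      have hd := orderOf_dvd_of_pow_eq_one hpow
      rw [S.p3] at hd
      exact absurd (Nat.prime_three.dvd_of_dvd_pow hd) (by norm_num)
    · exact Or.inl h
    · exact Or.inr h
  obtain ⟨f, hf, hfp⟩ := exists_conj_pow he hk12 h3
  rw [← hk] at hfp
  have hfz : f⁻¹ * y * S.z * (f⁻¹ * y)⁻¹ = c := by
    rw [show f⁻¹ * y * S.z * (f⁻¹ * y)⁻¹ = f⁻¹ * (T.z * f) by rw [hT, conj_z]; group,
      ← T.sub.z_comm hf, inv_mul_cancel_left, hTz]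
  have hcomm : f⁻¹ * y * S.z * (f⁻¹ * y)⁻¹ * S.z = S.z * (f⁻¹ * y * S.z * (f⁻¹ * y)⁻¹) := by
    rw [hfz]; exact (S.mem_C.1 hcC).1
  have hTp : T.p = y * S.p * y⁻¹ := rfl
  have hcon : f⁻¹ * y * S.p * (f⁻¹ * y)⁻¹ = S.p ∨ f⁻¹ * y * S.p * (f⁻¹ * y)⁻¹ = S.p⁻¹ := by
    rcases hk12 with h | h <;> rw [h] at hfp
    · left
      calc f⁻¹ * y * S.p * (f⁻¹ * y)⁻¹ = f⁻¹ * (T.p ^ 1) * f := by rw [hTp, pow_one]; group
        _ = S.p := by rw [← hfp]; group
    · right
      calc f⁻¹ * y * S.p * (f⁻¹ * y)⁻¹ = (f⁻¹ * (T.p⁻¹) * f)⁻¹ := by rw [hTp]; group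
        _ = S.p⁻¹ := by rw [T.p_inv, ← hfp]; group
  have hfix : f⁻¹ * y * S.z * (f⁻¹ * y)⁻¹ = S.z := by
    rcases hcon with h | h
    · exact isolated (mul_inv_eq_iff_eq_mul.1 h) hcomm
    · exact isolated_inv h hcomm
  exact hne (hfz.symm.trans hfix)

/-- The part fixed by a conjugate of `z` of an odd subgroup normalised by `z` in `C_G(p)`. -/
theorem fixed_le_H {O : Subgroup G} (hOp : ∀ b ∈ O, b * S.p = S.p * b)
    (hOodd : Odd (Nat.card O)) (hzO : ∀ b ∈ O, S.z * b * S.z⁻¹ ∈ O) {c : G} (hcC : c ∈ S.C)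
    (hcp : S.Proper c) (hcz : IsConj S.z c) {b : G} (hb : b ∈ O) (hbc : b * c = c * b) :
    b ∈ S.H := by
  obtain ⟨y, hy⟩ := isConj_iff.1 hcz
  set T := S.conj y with hT
  have hTz : T.z = c := hy
  have hzc : S.z ∈ T.H := T.mem_H.2 (by rw [hTz]; exact (S.mem_C.1 hcC).1.symm)
  have hpT : S.p ∈ T.H := T.mem_H.2 (by rw [hTz]; exact (S.mem_C.1 hcC).2.symm)
  have hbT : b ∈ T.H := T.mem_H.2 (by rw [hTz]; exact hbc)
  have hbodd : Odd (orderOf b) := hOodd.of_dvd_nat (Subgroup.orderOf_dvd_natCard O hb)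
  have hzi : T.Inner S.z := inner_of_seven_le (hTz.symm ▸ S.C_le_H hcC)
    (by rw [(involution_of_C (T := T) (hTz.symm ▸ hcC) (hTz.symm ▸ hcp.2)).2.2]; norm_num)
  have hpi : T.Inner S.p := inner_of_odd hpT (by rw [S.p3]; decide)
  have hbi : T.Inner b := inner_of_odd hbT hbodd
  -- the image of `p` is not trivial
  have hp1 : T.bar S.p ≠ 1 := fun h1 =>
    conj_piv_p_ne_one hcC hcp.2 hTz ((bar_eq_one_iff hpi).1 h1)
  have : Fact (Nat.Prime 3) := ⟨Nat.prime_three⟩
  have hbar3 : orderOf (T.bar S.p) = 3 := by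
    refine orderOf_eq_prime ?_ hp1
    refine conj_injective_M22g ?_
    rw [map_pow, conj_bar hpi, ← piv_pow hpT, S.p_pow_three, piv_one, map_one]
  have hcomb : T.bar b * T.bar S.p = T.bar S.p * T.bar b := by
    rw [← bar_mul hbT hpT hbi hpi, hOp b hb, bar_mul hpT hbT hpi hbi]
  have hbodd' : Odd (orderOf (T.bar b)) := by
    refine hbodd.of_dvd_nat (orderOf_dvd_of_pow_eq_one (conj_injective_M22g ?_))
    rw [map_pow, conj_bar hbi, ← piv_pow hbT, pow_orderOf_eq_one, piv_one, map_one]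
  have hb3 := cube_of_commute hbar3 hbodd' hcomb
  have hmem : T.bar b ∈ Subgroup.zpowers (T.bar S.p) := by
    by_contra hno
    have hb3' : orderOf (T.bar b) = 3 := orderOf_eq_prime hb3 fun e => hno (e ▸ one_mem _)
    obtain ⟨e, he, m, hm, hpe⟩ := (inner_iff hpT).1 hpi
    obtain ⟨e', he', n, hn, hbe⟩ := (inner_iff hbT).1 hbi
    have hmb : T.bar m = T.bar S.p := by rw [hpe, bar_mul_E he (T.C_le_H hm) (inner_of_C hm)]
    have hnb : T.bar n = T.bar b := by rw [hbe, bar_mul_E he' (T.C_le_H hn) (inner_of_C hn)]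
    have hmH := T.C_le_H hm
    have hnH := T.C_le_H hn
    have hmn : T.cj (m * n) = T.cj (n * m) := LinearEquiv.ext fun v => by
      have e1 : T.cj (S.p * b) v = T.cj (b * S.p) v := by rw [hOp b hb]
      rw [T.cj_mul hpT hbT, T.cj_mul hbT hpT, hpe, hbe, cj_mul_E he hmH, cj_mul_E he' hnH] at e1
      rwa [T.cj_mul hmH hnH, T.cj_mul hnH hmH]
    have hk := inv_mul_mem_E_of_cj (mul_mem hnH hmH) (mul_mem hmH hnH) hmn.symm
    have hm2 : m * m * n = n * (m * m) := by
      rcases E_inf_C hk (mul_mem (inv_mem (mul_mem hn hm)) (mul_mem hm hn)) with r | r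
      · rw [inv_mul_eq_one] at r
        rw [mul_assoc, ← r, ← mul_assoc, ← r, mul_assoc]
      · rw [inv_mul_eq_iff_eq_mul] at r
        have hzm : T.z * m = m * T.z := ((T.mem_C.1 hm).1).symm
        calc m * m * n = m * (m * n) := mul_assoc _ _ _
          _ = m * (n * m * T.z) := by rw [r]
          _ = (m * n) * (m * T.z) := by group
          _ = (n * m * T.z) * (m * T.z) := by rw [r]
          _ = n * m * (T.z * m) * T.z := by group
          _ = n * m * (m * T.z) * T.z := by rw [hzm]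
          _ = n * (m * m) * (T.z * T.z) := by group
          _ = n * (m * m) := by rw [T.z_mul_z, mul_one]
    refine not_commute_of_three (mul_mem hm hm) hn ?_ (hnb ▸ hb3') ?_ hm2
    · rw [← pow_two, bar_pow hm, hmb, Nat.Coprime.orderOf_pow (by rw [hbar3]; norm_num), hbar3]
    · rw [← pow_two, bar_pow hm, hmb, hnb]
      exact fun h => hno (Subgroup.zpowers_le.2 (pow_mem (Subgroup.mem_zpowers _) 2) h)
  obtain ⟨i, hi⟩ := (isOfFinOrder_of_finite (T.bar S.p)).mem_powers_iff_mem_zpowers.2 hmem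
  simp only at hi
  -- the actions of `z` and `b` commute
  have hpiH := pow_mem hpT i
  have hker : T.piv ((S.p ^ i)⁻¹ * b) = 1 := by
    rw [piv_mul (inv_mem hpiH) hbT, piv_inv hpiH, piv_pow hpT, ← conj_bar hpi, ← map_pow, hi,
      conj_bar hbi, inv_mul_cancel]
  obtain ⟨e, he, j, hj⟩ := (piv_eq_one (mul_mem (inv_mem hpiH) hbT)).1 hker
  have hbcj : ∀ v, T.cj b v = T.cj (S.p ^ i) (T.cj (T.p ^ j) v) := fun v => by
    have e1 : b = S.p ^ i * (e * T.p ^ j) := by rw [← hj]; group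
    rw [e1, T.cj_mul hpiH (mul_mem (T.E_le_H he) (T.p_pow_mem j)), cj_mul_E he (T.p_pow_mem j)]
  have hzp : ∀ (n : ℕ) (v : T.Vec), T.cj S.z (T.cj (T.p ^ n) v) = T.cj (T.p ^ n) (T.cj S.z v) := by
    intro n
    induction n with
    | zero => simp
    | succ n ih =>
      intro v
      rw [pow_succ', T.cj_mul T.p_mem_H (T.p_pow_mem n), ← space_om, lin_of_inner hzc hzi, ih,
        T.cj_mul T.p_mem_H (T.p_pow_mem n), space_om]
  have hzb : ∀ v, T.cj S.z (T.cj b v) = T.cj b (T.cj S.z v) := fun v => by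
    rw [hbcj, hbcj, ← hzp, ← T.cj_mul hzc hpiH, ← T.cj_mul hpiH hzc,
      ((show Commute S.p S.z from S.p_comm).pow_left i).eq]
  have hE : S.z * b * S.z⁻¹ * b⁻¹ ∈ T.E :=
    mem_E_of_cj (mul_mem (mul_mem (mul_mem hzc hbT) (inv_mem hzc)) (inv_mem hbT)) fun v => by
      rw [T.cj_mul (mul_mem (mul_mem hzc hbT) (inv_mem hzc)) (inv_mem hbT),
        T.cj_mul (mul_mem hzc hbT) (inv_mem hzc), T.cj_mul hzc hbT, hzb,
        ← T.cj_mul hzc (inv_mem hzc), mul_inv_cancel, cj_one, ← T.cj_mul hbT (inv_mem hbT),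
        mul_inv_cancel, cj_one]
  have hO : S.z * b * S.z⁻¹ * b⁻¹ ∈ O := mul_mem (hzO b hb) (inv_mem hb)
  have h1 : S.z * b * S.z⁻¹ * b⁻¹ = 1 :=
    eq_one_of_two_of_odd T.isPGroup_E hOodd hE hO
  exact S.mem_H.2 (mul_inv_eq_iff_eq_mul.1 (mul_inv_eq_one.1 h1)).symm

/-- The centralizer of `p` lies in the centralizer of `z`. -/
theorem centralizer_p_le [IsSimpleGroup G] (hG : ¬ IsMulCommutative G) (S : Shape G) {k : G}
    (hk : k * S.p = S.p * k) : k * S.z = S.z * k := by
  set K := Subgroup.centralizer ({S.p} : Set G) with hK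
  have hzK : S.z ∈ K := Subgroup.mem_centralizer_singleton_iff.2 S.p_comm.symm
  have hiso : Cfsg.IsIsolatedInvolution (⟨S.z, hzK⟩ : ↥K) := by
    refine ⟨by rw [Subgroup.orderOf_mk, S.sub.two], fun x hx => Subtype.ext ?_⟩
    exact isolated (Subgroup.mem_centralizer_singleton_iff.1 x.2) (congrArg Subtype.val hx.eq).symm
  obtain ⟨N, hN, hodd, hcomm⟩ := ZStar.exists_oddNormal hiso
  set O := N.map K.subtype with hO
  have hOodd : Odd (Nat.card O) := by
    rw [hO, Subgroup.card_map_of_injective K.subtype_injective]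
    exact hodd
  have hOp : ∀ b ∈ O, b * S.p = S.p * b := by
    rintro _ ⟨b, hb, rfl⟩
    exact Subgroup.mem_centralizer_singleton_iff.1 b.2
  have hnorm : ∀ x ∈ K, ∀ b ∈ O, x * b * x⁻¹ ∈ O := by
    rintro x hx _ ⟨b, hb, rfl⟩
    exact ⟨⟨x, hx⟩ * b * ⟨x, hx⟩⁻¹, hN.conj_mem b hb _, rfl⟩
  obtain ⟨c, d, hc, hd, hcd, hc2, hd2, hcp, hdp, hcdp, hcz, hdz, hcdz⟩ := exists_four hG S
  set A := Subgroup.closure ({c, d} : Set G) with hA
  have hAC : A ≤ S.C := (Subgroup.closure_le _).2 (by rintro x (rfl | rfl) <;> assumption)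
  haveI : IsMulCommutative A := Subgroup.isMulCommutative_closure fun x hx y hy => by
    rcases hx with rfl | rfl <;> rcases hy with rfl | rfl <;>
      first | rfl | exact hcd | exact hcd.symm
  have hAmem : ∀ x ∈ A, x = 1 ∨ x = c ∨ x = d ∨ x = c * d := by
    intro x hx
    induction hx using Subgroup.closure_induction with
    | mem x hx => rcases hx with rfl | rfl <;> simp
    | one => simp
    | mul x y hx hy ex ey =>
      have cc : ∀ u : G, c * (c * u) = u := fun u => by rw [← mul_assoc, hc2, one_mul]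
      have dd : ∀ u : G, d * (d * u) = u := fun u => by rw [← mul_assoc, hd2, one_mul]
      have dc : ∀ u : G, d * (c * u) = c * (d * u) := fun u => by
        rw [← mul_assoc, ← hcd, mul_assoc]
      rcases ex with rfl | rfl | rfl | rfl <;> rcases ey with rfl | rfl | rfl | rfl <;>
        simp [mul_assoc, hc2, hd2, cc, dd, dc, hcd.symm]
    | inv x hx e =>
      rcases e with rfl | rfl | rfl | rfl
      · simp
      · rw [inv_eq_of_mul_eq_one_right hc2]; simp
      · rw [inv_eq_of_mul_eq_one_right hd2]; simp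
      · rw [mul_inv_rev, inv_eq_of_mul_eq_one_right hc2, inv_eq_of_mul_eq_one_right hd2, ← hcd]
        simp
  have hcdne : c ≠ d := fun e => hcdp.1 (e ▸ hd2)
  have hA4 : Nat.card A = 4 := by
    have h2 : A ≠ ⊥ := fun e =>
      hcp.1 (Subgroup.mem_bot.1 (e ▸ Subgroup.subset_closure (by simp) : c ∈ (⊥ : Subgroup G)))
    have hset : (A : Set G) = {1, c, d, c * d} := by
      ext x
      refine ⟨hAmem x, ?_⟩
      have mc : c ∈ A := Subgroup.subset_closure (by simp)
      have md : d ∈ A := Subgroup.subset_closure (by simp)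
      rintro (rfl | rfl | rfl | rfl)
      exacts [one_mem _, mc, md, mul_mem mc md]
    have h := Nat.card_coe_set_eq (A : Set G)
    rw [hset, Set.ncard_insert_of_notMem (by
        simp only [Set.mem_insert_iff, Set.mem_singleton_iff, not_or]
        exact ⟨Ne.symm hcp.1, Ne.symm hdp.1, Ne.symm hcdp.1⟩),
      Set.ncard_insert_of_notMem (by
        simp only [Set.mem_insert_iff, Set.mem_singleton_iff, not_or]
        exact ⟨hcdne, fun e => hdp.1 (left_eq_mul.1 e)⟩),
      Set.ncard_insert_of_notMem (by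
        simp only [Set.mem_singleton_iff]
        exact fun e => hcp.1 (right_eq_mul.1 e)), Set.ncard_singleton] at h
    rw [← hset] at h
    exact h
  have hcyc : ¬ IsCyclic A := by
    intro hcy
    obtain ⟨⟨x, hx⟩, hgen⟩ := hcy.exists_generator
    have h1 : orderOf (⟨x, hx⟩ : A) = 4 := by
      rw [orderOf_eq_card_of_forall_mem_zpowers hgen, hA4]
    rw [Subgroup.orderOf_mk] at h1
    have hx2 : x * x = 1 := by
      rcases hAmem x hx with rfl | rfl | rfl | rfl
      · simp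
      · exact hc2
      · exact hd2
      · calc c * d * (c * d) = c * (d * c) * d := by group
          _ = c * c * (d * d) := by rw [← hcd]; group
          _ = 1 := by rw [hc2, hd2, one_mul]
    have h2 := orderOf_dvd_of_pow_eq_one ((pow_two x).trans hx2)
    rw [h1] at h2
    norm_num at h2
  have hAK : A ≤ K := hAC.trans inf_le_right
  have hOC : O ≤ S.H := by
    refine CfsgLib.Coprime.le_of_forall_inf_centralizer_le hcyc (fun x hx => ?_) ?_ fun x hx hx1 => ?_
    · refine Subgroup.mem_normalizer_iff.2 fun b => ⟨hnorm x (hAK hx) b, fun hb => ?_⟩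
      simpa [mul_assoc] using hnorm x⁻¹ (inv_mem (hAK hx)) _ hb
    · rw [hA4]
      exact (Nat.coprime_two_left.2 hOodd).pow_left 2
    · rintro b ⟨hb, hbx⟩
      have hbc := Subgroup.mem_centralizer_singleton_iff.1 hbx
      have hz' := hnorm S.z hzK
      rcases hAmem x hx with rfl | rfl | rfl | rfl
      · exact absurd rfl hx1
      · exact fixed_le_H hOp hOodd hz' hc hcp hcz hb hbc
      · exact fixed_le_H hOp hOodd hz' hd hdp hdz hb hbc
      · exact fixed_le_H hOp hOodd hz' (mul_mem hc hd) hcdp hcdz hb hbc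
  -- the core has trivial image in `M22`
  have hker : ∀ b ∈ O, S.bar b = 1 := by
    intro b hb
    haveI := simple_M22g
    let M : Subgroup M22g := (O.subgroupOf S.C).map S.barC
    have hM : M.Normal := ⟨fun u hu q => by
      obtain ⟨x, hx, rfl⟩ := hu
      obtain ⟨r, rfl⟩ := barC_surj (S := S) q
      refine ⟨r * x * r⁻¹, ?_, by simp⟩
      exact hnorm r r.2.2 x hx⟩
    have hModd : Odd (Nat.card M) := by
      refine hOodd.of_dvd_nat (dvd_trans (Subgroup.card_map_dvd (H := O.subgroupOf S.C) _) ?_)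
      rw [Nat.card_congr (Subgroup.subgroupOfEquivOfLe (show O ≤ S.C from fun x hx =>
        S.mem_C.2 ⟨S.mem_H.1 (hOC hx), hOp x hx⟩)).toEquiv]
    rcases hM.eq_bot_or_eq_top with e | e
    · have hbC : b ∈ S.C := S.mem_C.2 ⟨S.mem_H.1 (hOC hb), hOp b hb⟩
      exact Subgroup.mem_bot.1 (e ▸ ⟨⟨b, hbC⟩, hb, rfl⟩ : S.bar b ∈ (⊥ : Subgroup M22g))
    · exfalso
      rw [e, Subgroup.card_top, Mathieu.card_SporM22] at hModd
      exact absurd hModd (by decide)
  have hkK : k ∈ K := Subgroup.mem_centralizer_singleton_iff.2 hk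
  have hu : S.z * k * S.z⁻¹ * k⁻¹ ∈ O := ⟨_, hcomm ⟨k, hkK⟩, rfl⟩
  set u := S.z * k * S.z⁻¹ * k⁻¹ with hudef
  have huC : u ∈ S.C := S.mem_C.2 ⟨S.mem_H.1 (hOC hu), hOp u hu⟩
  have huz : u * S.z = S.z * u := S.mem_H.1 (hOC hu)
  have hu2 : u * u = 1 := by
    have e : k * S.z * k⁻¹ = S.z * u := by
      rw [hudef, S.z_inv,
        show S.z * (S.z * k * S.z * k⁻¹) = S.z * S.z * k * S.z * k⁻¹ by group, S.z_mul_z, one_mul]
    have e2 : k * S.z * k⁻¹ * (k * S.z * k⁻¹) = 1 := by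
      rw [show k * S.z * k⁻¹ * (k * S.z * k⁻¹) = k * (S.z * S.z) * k⁻¹ by group, S.z_mul_z, mul_one,
        mul_inv_cancel]
    rw [e, mul_assoc S.z u, ← mul_assoc u S.z, huz, mul_assoc S.z u u, ← mul_assoc S.z S.z,
      S.z_mul_z, one_mul] at e2
    exact e2
  have hu1 : u = 1 := by
    have h1 := Subgroup.orderOf_dvd_natCard O hu
    have h2 := orderOf_dvd_of_pow_eq_one ((pow_two u).trans hu2)
    exact orderOf_eq_one_iff.1 (Nat.eq_one_of_dvd_coprimes (Nat.coprime_two_left.2 hOodd) h2 h1)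
  exact (mul_inv_eq_iff_eq_mul.1 (mul_inv_eq_one.1 (hudef ▸ hu1))).symm

/-- The normalizer of `⟨p⟩` lies in the centralizer of `z`. -/
theorem normalizer_le [IsSimpleGroup G] (hG : ¬ IsMulCommutative G) (S : Shape G) {g : G}
    (hg : g * S.p * g⁻¹ ∈ Subgroup.zpowers S.p) : g * S.z = S.z * g := by
  have hg' : Subgroup.zpowers (g * S.p * g⁻¹) = Subgroup.zpowers S.p := by
    refine Subgroup.eq_of_le_of_card_ge (Subgroup.zpowers_le.2 hg) ?_
    rw [Nat.card_zpowers, Nat.card_zpowers,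
      show g * S.p * g⁻¹ = MulAut.conj g S.p from rfl, MulEquiv.orderOf_eq]
  set w := g * S.z * g⁻¹ with hw
  have hwc : ∀ c ∈ S.C, w * c = c * w := by
    intro c hc
    have hcp : Commute (g⁻¹ * c * g) S.p := by
      have h1 : Commute c (g * S.p * g⁻¹) := by
        obtain ⟨n, hn⟩ := hg
        simp only at hn
        rw [← hn]
        exact (show Commute c S.p from (S.mem_C.1 hc).2).zpow_right n
      show g⁻¹ * c * g * S.p = S.p * (g⁻¹ * c * g)
      calc g⁻¹ * c * g * S.p = g⁻¹ * (c * (g * S.p * g⁻¹)) * g := by group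
        _ = g⁻¹ * (g * S.p * g⁻¹ * c) * g := by rw [h1.eq]
        _ = _ := by group
    have h2 := centralizer_p_le hG S hcp.eq
    calc w * c = g * (S.z * (g⁻¹ * c * g)) * g⁻¹ := by rw [hw]; group
      _ = g * ((g⁻¹ * c * g) * S.z) * g⁻¹ := by rw [h2]
      _ = c * w := by rw [hw]; group
  have hwp : w * S.p = S.p * w := hwc S.p S.p_mem_C
  have hwC : w ∈ S.C := S.mem_C.2 ⟨centralizer_p_le hG S hwp, hwp⟩
  have hb : S.bar w = 1 := eq_one_of_central fun b => by
    obtain ⟨d, hd⟩ := barC_surj (S := S) b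
    show S.barC ⟨w, hwC⟩ * b = b * S.barC ⟨w, hwC⟩
    rw [← hd, ← map_mul, ← map_mul]
    exact congrArg S.barC (Subtype.ext (hwc d d.2))
  have hw2 : w * w = 1 := by
    rw [hw, show g * S.z * g⁻¹ * (g * S.z * g⁻¹) = g * (S.z * S.z) * g⁻¹ by group, S.z_mul_z,
      mul_one, mul_inv_cancel]
  have := mem_E_of_piv (S.C_le_H hwC) (by rw [hw2]; exact one_mem _)
    ((bar_eq_one_iff (inner_of_C hwC)).1 hb)
  rcases E_inf_C this hwC with e | e
  · exact absurd (conj_eq_one_iff.1 e) S.sub.ne_one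
  · exact mul_inv_eq_iff_eq_mul.1 e

end Shape

end CfsgLib.JFourType
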