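import Cfsg.Agent.JFourType.M22Norm
import Cfsg.Agent.JFourType.Normaliser
import Cfsg.Agent.Solvable.Frattini

/-!
# The Sylow 3-subgroup of a group of Janko-four type

The Sylow 3-subgroup is extraspecial of order 27 and exponent 3 with centre `⟨p⟩`, so its
normalizer lies in `C(z)`; all elements of order three are conjugate.
-/

set_option autoImplicit false
set_option linter.style.haveILetI false
set_option linter.unusedVariables false
set_option linter.unusedSectionVars false

namespace CfsgLib.JFourType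

open Cfsg CfsgLib.LargeExtraspecial
open scoped Pointwise

theorem sylow_three_elementary (P : Sylow 3 M22g) {a : M22g} (ha : a ∈ (P : Subgroup M22g)) :
    a ^ 3 = 1 ∧ ∀ b ∈ (P : Subgroup M22g), a * b = b * a := by
  haveI : Fact (Nat.Prime 3) := ⟨Nat.prime_three⟩
  obtain ⟨c, hc⟩ := MulAction.exists_smul_eq M22g P threeSylowS
  have key : ∀ x ∈ (P : Subgroup M22g), MulAut.conj c x ∈ threeSylow := fun x hx => by
    rw [← coe_threeSylowS, ← hc, Sylow.coe_subgroup_smul]
    exact Subgroup.smul_mem_pointwise_smul x (MulAut.conj c) (P : Subgroup M22g) hx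
  obtain ⟨h3, hcomm⟩ := threeSylow_elementary (key a ha)
  refine ⟨(MulAut.conj c).injective (by rw [map_pow, h3, map_one]), fun b hb => ?_⟩
  exact (MulAut.conj c).injective (by rw [map_mul, map_mul, hcomm _ (key b hb)])

theorem card_sylow_three (P : Sylow 3 M22g) : Nat.card (P : Subgroup M22g) = 9 := by
  haveI : Fact (Nat.Prime 3) := ⟨Nat.prime_three⟩
  rw [P.card_eq_multiplicity, factorization_M22g]
  norm_num

theorem card_normalizer_sylow_three (P : Sylow 3 M22g) :
    Nat.card (Subgroup.normalizer ((P : Subgroup M22g) : Set M22g)) = 72 := by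
  haveI : Fact (Nat.Prime 3) := ⟨Nat.prime_three⟩
  have e1 : Nat.card (Sylow 3 M22g) =
      (Subgroup.normalizer ((P : Subgroup M22g) : Set M22g)).index := P.card_eq_index_normalizer
  have e2 : Nat.card (Sylow 3 M22g) = (Subgroup.normalizer (threeSylow : Set M22g)).index :=
    threeSylowS.card_eq_index_normalizer
  have h1 := (Subgroup.normalizer ((P : Subgroup M22g) : Set M22g)).index_mul_card
  have h2 := (Subgroup.normalizer (threeSylow : Set M22g)).index_mul_card
  rw [← e1] at h1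
  rw [← e2, card_normalizer_threeSylow] at h2
  exact Nat.eq_of_mul_eq_mul_left Nat.card_pos (h1.trans h2.symm)

theorem card_aut_M22g : Nat.card (MulAut M22g) = 887040 := by
  rw [← (Inn M22g).index_mul_card, inn_index,
    ← Nat.card_congr (MonoidHom.ofInjective conj_injective_M22g).toEquiv,
    show Nat.card M22g = 443520 from Mathieu.card_SporM22]

theorem conj_map_eq {G : Type*} [Group G] (a : G) (σ : MulAut G) (x : G) :
    MulAut.conj (σ x) = σ * MulAut.conj x * σ⁻¹ := by
  ext y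
  simp [MulAut.mul_apply]

theorem card_aut_normalizer (P : Sylow 3 M22g) :
    Nat.card (Subgroup.normalizer
      ((((P : Subgroup M22g).map (MulAut.conj : M22g →* MulAut M22g)) :
        Subgroup (MulAut M22g)) : Set (MulAut M22g))) = 144 := by
  haveI : Fact (Nat.Prime 3) := ⟨Nat.prime_three⟩
  haveI hnormal : (Inn M22g).Normal := inferInstance
  set Q := (P : Subgroup M22g) with hQ
  set N := Subgroup.normalizer ((Q.map (MulAut.conj : M22g →* MulAut M22g) :
    Subgroup (MulAut M22g)) : Set (MulAut M22g)) with hN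
  have hinf : N ⊓ Inn M22g =
      (Subgroup.normalizer (Q : Set M22g)).map (MulAut.conj : M22g →* MulAut M22g) := by
    ext x
    constructor
    · rintro ⟨hx, a, rfl⟩
      refine ⟨a, Subgroup.mem_normalizer_iff.2 fun b => ?_, rfl⟩
      have h := Subgroup.mem_normalizer_iff.1 hx (MulAut.conj b)
      rw [← map_mul, ← map_inv, ← map_mul, Subgroup.mem_map_iff_mem conj_injective_M22g,
        Subgroup.mem_map_iff_mem conj_injective_M22g] at h
      exact h
    · rintro ⟨a, ha, rfl⟩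
      refine ⟨Subgroup.mem_normalizer_iff.2 fun τ => ⟨?_, ?_⟩, a, rfl⟩
      · rintro ⟨b, hb, rfl⟩
        exact ⟨a * b * a⁻¹, (Subgroup.mem_normalizer_iff.1 ha b).1 hb, by simp⟩
      · rintro ⟨b, hb, e⟩
        refine ⟨a⁻¹ * b * a, (Subgroup.mem_normalizer_iff.1 ha _).2 (by simpa [mul_assoc] using hb), ?_⟩
        rw [map_mul, map_mul, e, map_inv]
        group
  have hsup : N ⊔ Inn M22g = ⊤ := by
    refine eq_top_iff.2 fun σ _ => ?_
    let P' : Sylow 3 M22g := Sylow.ofCard (Q.map σ.toMonoidHom) (by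
      rw [Subgroup.card_map_of_injective σ.injective]
      exact P.card_eq_multiplicity)
    obtain ⟨c, hc⟩ := MulAction.exists_smul_eq M22g P P'
    have hco : MulAut.conj c • Q = Q.map σ.toMonoidHom := congrArg Sylow.toSubgroup hc
    have hin : ∀ x ∈ Q, (MulAut.conj c)⁻¹ (σ x) ∈ Q := by
      intro x hx
      have h : σ x ∈ MulAut.conj c • Q := hco.symm ▸ Subgroup.mem_map_of_mem _ hx
      exact Subgroup.mem_pointwise_smul_iff_inv_smul_mem.1 h
    have hn : (MulAut.conj c)⁻¹ * σ ∈ N := by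
      refine Subgroup.mem_normalizer_fintype ?_
      rintro _ ⟨x, hx, rfl⟩
      refine ⟨_, hin x hx, ?_⟩
      exact (conj_map_eq c ((MulAut.conj c)⁻¹ * σ) x)
    have e : σ = MulAut.conj c * ((MulAut.conj c)⁻¹ * σ) := by group
    rw [e]
    exact mul_mem (Subgroup.mem_sup_right ⟨c, rfl⟩) (Subgroup.mem_sup_left hn)
  have hrel : (Inn M22g).relIndex N = 2 := by
    rw [← Subgroup.relIndex_sup_right (H := N), hsup, Subgroup.relIndex_top_right, inn_index]
  have hcard := ((Inn M22g).subgroupOf N).index_mul_card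
  rw [show ((Inn M22g).subgroupOf N).index = 2 from hrel,
    show Nat.card ((Inn M22g).subgroupOf N) = Nat.card (N ⊓ Inn M22g : Subgroup (MulAut M22g)) from by
      rw [inf_comm, ← Subgroup.inf_subgroupOf_right,
        Nat.card_congr (Subgroup.subgroupOfEquivOfLe inf_le_right).toEquiv],
    hinf, Subgroup.card_map_of_injective conj_injective_M22g, card_normalizer_sylow_three P] at hcard
  exact hcard.symm

namespace Shape

variable {G : Type*} [Group G] [Finite G] {S : Shape G}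

/-! ### The centralizer of the involution -/

theorem card_H : Nat.card S.H = 3 * 2 ^ 13 * 887040 := by
  have hk : Nat.card S.pivHom.ker = 3 * 2 ^ 13 := by
    let f : ↥S.E × Fin 3 → ↥S.pivHom.ker := fun x =>
      ⟨⟨x.1 * S.p ^ (x.2 : ℕ), mul_mem (S.E_le_H x.1.2) (S.p_pow_mem _)⟩,
        (piv_eq_one (mul_mem (S.E_le_H x.1.2) (S.p_pow_mem _))).2 ⟨x.1, x.1.2, x.2, rfl⟩⟩
    have hf : Function.Bijective f := by
      constructor
      · rintro ⟨e, i⟩ ⟨e', j⟩ h
        have h' : (e : G) * S.p ^ (i : ℕ) = (e' : G) * S.p ^ (j : ℕ) :=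
          congrArg (fun u : ↥S.pivHom.ker => ((u : ↥S.H) : G)) h
        have h3 : S.p ^ ((j : ℕ) + 2 * (i : ℕ)) = (e' : G)⁻¹ * e := by
          calc S.p ^ ((j : ℕ) + 2 * (i : ℕ))
              = (e' : G)⁻¹ * ((e' : G) * S.p ^ (j : ℕ)) * S.p ^ (2 * (i : ℕ)) := by
                rw [pow_add]; group
            _ = (e' : G)⁻¹ * ((e : G) * S.p ^ ((i : ℕ) + 2 * (i : ℕ))) := by
                rw [← h', pow_add]; group
            _ = (e' : G)⁻¹ * e := by
                rw [S.p_pow_mod, show ((i : ℕ) + 2 * (i : ℕ)) % 3 = 0 by omega, pow_zero, mul_one]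
        have h1 := S.p_pow_mem_E (h3 ▸ mul_mem (inv_mem e'.2) e.2)
        have h4 := orderOf_dvd_of_pow_eq_one h1
        rw [S.p3] at h4
        obtain rfl : i = j := Fin.ext (by omega)
        exact Prod.ext (Subtype.ext (mul_right_cancel h')) rfl
      · rintro ⟨⟨x, hx⟩, hk⟩
        obtain ⟨e, he, k, rfl⟩ := (piv_eq_one hx).1 hk
        exact ⟨(⟨e, he⟩, ⟨k % 3, Nat.mod_lt _ (by norm_num)⟩),
          Subtype.ext (Subtype.ext (by show e * S.p ^ (k % 3) = _; rw [← S.p_pow_mod]))⟩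
    rw [← Nat.card_eq_of_bijective f hf, Nat.card_prod, S.card_E, Nat.card_fin, mul_comm]
  have h := S.pivHom.ker.index_mul_card
  rw [Subgroup.index_ker, MonoidHom.range_eq_top.2 (fun σ => by
    obtain ⟨g, hg, e⟩ := piv_surj (S := S) σ
    exact ⟨⟨g, hg⟩, e⟩), Subgroup.card_top, card_aut_M22g, hk] at h
  rw [← h, mul_comm]

theorem card_three_le {R : Subgroup G} (hR : IsPGroup 3 R) (hle : R ≤ S.H) :
    Nat.card R ∣ 27 := by
  haveI : Fact (Nat.Prime 3) := ⟨Nat.prime_three⟩
  obtain ⟨n, hn⟩ := IsPGroup.iff_card.1 hR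
  have h := Subgroup.card_dvd_of_le hle
  rw [hn, card_H] at h
  rw [hn, show (27 : ℕ) = 3 ^ 3 by norm_num]
  refine pow_dvd_pow 3 ?_
  by_contra hlt
  exact absurd (dvd_trans (pow_dvd_pow 3 (by omega : 4 ≤ n)) h) (by norm_num)

/-- A subgroup of order 27 of `C(z)` containing `p`. -/
structure Full (S : Shape G) (R : Subgroup G) : Prop where
  le : R ≤ S.H
  mem : S.p ∈ R
  card : Nat.card R = 27

namespace Full

variable {R : Subgroup G}

theorem pgroup (h : Full S R) : IsPGroup 3 R :=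
  IsPGroup.of_card (n := 3) (by rw [h.card]; norm_num)

theorem pow_27 (h : Full S R) {x : G} (hx : x ∈ R) : x ^ 27 = 1 :=
  h.card ▸ orderOf_dvd_iff_pow_eq_one.1 (Subgroup.orderOf_dvd_natCard R hx)

theorem odd (h : Full S R) {x : G} (hx : x ∈ R) : Odd (orderOf x) :=
  Odd.of_dvd_nat (by rw [h.card]; decide) (Subgroup.orderOf_dvd_natCard R hx)

theorem inter_E (h : Full S R) {x : G} (hx : x ∈ R) (he : x ∈ S.E) : x = 1 := by
  obtain ⟨n, hn⟩ := S.isPGroup_E ⟨x, he⟩
  have h1 : x ^ 2 ^ n = 1 := congrArg Subtype.val hn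
  have hc : Nat.gcd (2 ^ n) 27 = 1 := Nat.Coprime.pow_left n (by norm_num : Nat.Coprime 2 27)
  simpa [hc] using pow_gcd_eq_one.2 ⟨h1, h.pow_27 hx⟩

theorem ker_eq (h : Full S R) {x : G} (hx : x ∈ R) (hp : S.piv x = 1) :
    ∃ k : ℕ, x = S.p ^ k := by
  obtain ⟨e, he, k, hk⟩ := (piv_eq_one (h.le hx)).1 hp
  refine ⟨k, ?_⟩
  have h1 : e = 1 := h.inter_E (by
    have := mul_mem hx (inv_mem (pow_mem h.mem k))
    rwa [hk, mul_inv_cancel_right] at this) he
  rw [hk, h1, one_mul]

theorem le_C (h : Full S R) : R ≤ S.C := by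
  intro r hr
  have hrH := h.le hr
  refine S.mem_C.2 ⟨S.mem_H.1 hrH, ?_⟩
  obtain ⟨k, hk⟩ := h.ker_eq (mul_mem (mul_mem hr h.mem) (inv_mem hr)) (by
    rw [piv_mul (mul_mem hrH S.p_mem_H) (inv_mem hrH), piv_mul hrH S.p_mem_H, piv_p, mul_one,
      piv_inv hrH, mul_inv_cancel])
  rw [S.p_pow_mod] at hk
  rcases (by omega : k % 3 = 0 ∨ k % 3 = 1 ∨ k % 3 = 2) with e | e | e <;> rw [e] at hk
  · rw [pow_zero, conj_eq_one_iff] at hk
    have := S.p3
    rw [hk, orderOf_one] at this
    omega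
  · rw [pow_one] at hk
    exact mul_inv_eq_iff_eq_mul.1 hk
  · rw [← S.p_inv] at hk
    exact absurd (inner_of_odd hrH (h.odd hr)) (not_inner_of_invert hrH hk)

/-- The image in `M22`. -/
noncomputable def toM22 (h : Full S R) : ↥R →* M22g :=
  S.barC.comp (Subgroup.inclusion h.le_C)

theorem toM22_apply (h : Full S R) (r : R) : h.toM22 r = S.bar r := rfl

theorem bar_eq_one (h : Full S R) {x : G} (hx : x ∈ R) (e : S.bar x = 1) :
    ∃ k : ℕ, x = S.p ^ k :=
  h.ker_eq hx ((bar_eq_one_iff (inner_of_C (h.le_C hx))).1 e)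

theorem card_ker (h : Full S R) : Nat.card h.toM22.ker = 3 := by
  have e : h.toM22.ker = Subgroup.zpowers (⟨S.p, h.mem⟩ : R) := by
    refine le_antisymm (fun r hr => ?_) (Subgroup.zpowers_le.2 ?_)
    · obtain ⟨k, hk⟩ := h.bar_eq_one r.2 hr
      rw [show r = (⟨S.p, h.mem⟩ : R) ^ k from Subtype.ext (by simpa using hk)]
      exact pow_mem (Subgroup.mem_zpowers _) k
    · exact (bar_eq_one_iff (inner_of_C S.p_mem_C)).2 piv_p
  rw [e, Nat.card_zpowers, Subgroup.orderOf_mk, S.p3]

theorem exists_sylow (h : Full S R) : ∃ P : Sylow 3 M22g, (P : Subgroup M22g) = h.toM22.range := by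
  haveI : Fact (Nat.Prime 3) := ⟨Nat.prime_three⟩
  refine ⟨Sylow.ofCard h.toM22.range ?_, rfl⟩
  have e := h.toM22.ker.index_mul_card
  rw [Subgroup.index_ker, h.card_ker, h.card] at e
  rw [factorization_M22g]
  omega

theorem bar_cube (h : Full S R) {x : G} (hx : x ∈ R) : S.bar x ^ 3 = 1 := by
  obtain ⟨P, hP⟩ := h.exists_sylow
  exact (sylow_three_elementary P (hP.symm ▸ ⟨⟨x, hx⟩, rfl⟩ : S.bar x ∈ (P : Subgroup M22g))).1

theorem bar_comm (h : Full S R) {x y : G} (hx : x ∈ R) (hy : y ∈ R) :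
    S.bar x * S.bar y = S.bar y * S.bar x := by
  obtain ⟨P, hP⟩ := h.exists_sylow
  exact (sylow_three_elementary P (hP.symm ▸ ⟨⟨x, hx⟩, rfl⟩ : S.bar x ∈ (P : Subgroup M22g))).2
    _ (hP.symm ▸ ⟨⟨y, hy⟩, rfl⟩)

theorem orderOf_bar (h : Full S R) {x : G} (hx : x ∈ R) (hne : S.bar x ≠ 1) :
    orderOf (S.bar x) = 3 := by
  haveI : Fact (Nat.Prime 3) := ⟨Nat.prime_three⟩
  exact orderOf_eq_prime (h.bar_cube hx) hne

theorem central_mem (h : Full S R) {x : G} (hx : x ∈ R) (hc : ∀ y ∈ R, x * y = y * x) :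
    ∃ k : ℕ, x = S.p ^ k := by
  refine h.bar_eq_one hx ?_
  by_contra hne
  obtain ⟨P, hP⟩ := h.exists_sylow
  have h3 := h.orderOf_bar hx hne
  obtain ⟨a, ha, hax⟩ : ∃ a ∈ (P : Subgroup M22g), a ∉ Subgroup.zpowers (S.bar x) := by
    by_contra hcon
    push Not at hcon
    have := Subgroup.card_le_of_le (show (P : Subgroup M22g) ≤ Subgroup.zpowers (S.bar x) from hcon)
    rw [card_sylow_three, Nat.card_zpowers, h3] at this
    omega
  rw [hP] at ha
  obtain ⟨⟨y, hy⟩, rfl⟩ := ha
  exact not_commute_of_three (h.le_C hx) (h.le_C hy) h3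
    (h.orderOf_bar hy fun e => hax (by rw [toM22_apply]; exact e ▸ one_mem _)) hax (hc y hy)

theorem pow_three (h : Full S R) {x : G} (hx : x ∈ R) : x ^ 3 = 1 := by
  have hxC := h.le_C hx
  by_cases h1 : S.bar x = 1
  · obtain ⟨k, rfl⟩ := h.bar_eq_one hx h1
    rw [← pow_mul, mul_comm, pow_mul, S.p_pow_three, one_pow]
  have h3 := h.orderOf_bar hx h1
  obtain ⟨m, hm⟩ := h.bar_eq_one (pow_mem hx 3) (by rw [bar_pow hxC, h.bar_cube hx])
  have h9 : x ^ 9 = 1 := by
    rw [show (9 : ℕ) = 3 * 3 by norm_num, pow_mul, hm, ← pow_mul, mul_comm, pow_mul, S.p_pow_three,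
      one_pow]
  obtain ⟨a, ha⟩ := isConj_iff.1 (isConj_three h3 (by rw [orderOf_inv, h3] :
    orderOf (S.bar x)⁻¹ = 3))
  obtain ⟨g, hg, rfl⟩ := exists_bar (S := S) a
  rw [← bar_conj hg hxC] at ha
  set u := g * x * g⁻¹ with hu
  have huC : u ∈ S.C := mul_mem (mul_mem hg hxC) (inv_mem hg)
  obtain ⟨k, hk3, hk⟩ := eq_of_piv_eq_one (mul_mem hxC huC) ((bar_eq_one_iff (inner_of_C
    (mul_mem hxC huC))).1 (by
      rw [bar_mul (S.C_le_H hxC) (S.C_le_H huC) (inner_of_C hxC) (inner_of_C huC), ha,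
        mul_inv_cancel]))
  have hxp : Commute x S.p := (S.mem_C.1 hxC).2
  have hxz : Commute x S.z := (S.mem_C.1 hxC).1
  have hu3 : u ^ 3 = x ^ 3 := by
    rw [hu, conj_pow, hm,
      mul_inv_eq_iff_eq_mul.2 ((show Commute g S.p from (S.mem_C.1 hg).2).pow_right m).eq]
  have hxu : Commute x u := by
    have e : u = x⁻¹ * (x * u) := by group
    rw [e]
    refine ((Commute.refl x).inv_right).mul_right ?_
    rcases hk with e | e <;> rw [e]
    · exact hxp.pow_right k
    · exact hxz.mul_right (hxp.pow_right k)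
  have h6 : x ^ 6 = 1 ∨ x ^ 6 = S.z := by
    have e : (x * u) ^ 3 = x ^ 6 := by rw [hxu.mul_pow, hu3, ← pow_add]
    have hzp : Commute S.z (S.p ^ k) := ((show Commute S.p S.z from S.p_comm).symm).pow_right k
    rcases hk with e' | e'
    · left
      rw [← e, e', ← pow_mul, mul_comm, pow_mul, S.p_pow_three, one_pow]
    · right
      rw [← e, e', hzp.mul_pow, ← pow_mul, mul_comm k 3, pow_mul S.p, S.p_pow_three, one_pow,
        mul_one, pow_succ, pow_two, S.z_mul_z, one_mul]
  rcases h6 with h6 | h6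
  · simpa using pow_gcd_eq_one.2 ⟨h6, h9⟩
  · exfalso
    have e : (x ^ 6) ^ 3 = 1 := by
      rw [← pow_mul, show 6 * 3 = 9 * 2 by norm_num, pow_mul, h9, one_pow]
    rw [h6, pow_succ, pow_two, S.z_mul_z, one_mul] at e
    exact S.sub.ne_one e

theorem orderOf_eq_three (h : Full S R) {x : G} (hx : x ∈ R) (hne : x ≠ 1) : orderOf x = 3 := by
  haveI : Fact (Nat.Prime 3) := ⟨Nat.prime_three⟩
  exact orderOf_eq_prime (h.pow_three hx) hne

theorem p_central (h : Full S R) {y : G} (hy : y ∈ R) : y * S.p = S.p * y :=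
  (S.mem_C.1 (h.le_C hy)).2

theorem center_eq (h : Full S R) :
    Subgroup.center R = Subgroup.zpowers (⟨S.p, h.mem⟩ : R) := by
  refine le_antisymm (fun x hx => ?_) (Subgroup.zpowers_le.2 ?_)
  · obtain ⟨k, hk⟩ := h.central_mem x.2 fun y hy =>
      (congrArg Subtype.val (Subgroup.mem_center_iff.1 hx ⟨y, hy⟩)).symm
    rw [show x = (⟨S.p, h.mem⟩ : R) ^ k from Subtype.ext (by simpa using hk)]
    exact pow_mem (Subgroup.mem_zpowers _) k
  · exact Subgroup.mem_center_iff.2 fun y => Subtype.ext (h.p_central y.2)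

theorem card_center (h : Full S R) : Nat.card (Subgroup.center R) = 3 := by
  rw [h.center_eq, Nat.card_zpowers, Subgroup.orderOf_mk, S.p3]

open scoped commutatorElement in
theorem extraspecial (h : Full S R) : Cfsg.IsExtraspecial 3 R := by
  haveI : Fact (Nat.Prime 3) := ⟨Nat.prime_three⟩
  have hle : commutator R ≤ Subgroup.center R := by
    rw [commutator_def, Subgroup.commutator_le]
    intro a _ b _
    have hk : h.toM22 ⁅a, b⁆ = 1 := by
      rw [map_commutatorElement, commutatorElement_eq_one_iff_mul_comm]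
      exact h.bar_comm a.2 b.2
    obtain ⟨k, e⟩ := h.bar_eq_one (⁅a, b⁆ : R).2 hk
    rw [h.center_eq, show (⁅a, b⁆ : R) = (⟨S.p, h.mem⟩ : R) ^ k from Subtype.ext (by simpa using e)]
    exact pow_mem (Subgroup.mem_zpowers _) k
  have heq : commutator R = Subgroup.center R := by
    refine (Subgroup.eq_of_le_of_card_ge hle ?_)
    rw [h.card_center]
    have hd := Subgroup.card_dvd_of_le hle
    rw [h.card_center] at hd
    rcases (Nat.dvd_prime Nat.prime_three).1 hd with e | e
    · exfalso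
      have hbot := Subgroup.card_eq_one.1 e
      have htop : Subgroup.center R = ⊤ := eq_top_iff.2 fun x _ => Subgroup.mem_center_iff.2
        fun y => by
          have : ⁅y, x⁆ ∈ commutator R :=
            Subgroup.commutator_mem_commutator (Subgroup.mem_top y) (Subgroup.mem_top x)
          rw [hbot, Subgroup.mem_bot] at this
          exact commutatorElement_eq_one_iff_mul_comm.1 this
      have := h.card_center
      rw [htop, Subgroup.card_top, h.card] at this
      omega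
    · rw [e]
  refine ⟨⟨h.pgroup, le_antisymm ?_ ?_, heq⟩, h.card_center⟩
  · exact CfsgLib.Solvable.frattini_le_of_elementary (p := 3) hle fun x => by
      rw [show x ^ 3 = 1 from Subtype.ext (h.pow_three x.2)]
      exact one_mem _
  · rw [← heq]
    exact CfsgLib.Solvable.commutator_le_frattini h.pgroup

theorem exponent_eq (h : Full S R) : Monoid.exponent R = 3 := by
  have hd : Monoid.exponent R ∣ 3 :=
    Monoid.exponent_dvd_of_forall_pow_eq_one fun x => Subtype.ext (h.pow_three x.2)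
  rcases (Nat.dvd_prime Nat.prime_three).1 hd with e | e
  · haveI := Monoid.exp_eq_one_iff.1 e
    have := h.card
    rw [Nat.card_unique] at this
    omega
  · exact e

theorem normalizer_le_H [IsSimpleGroup G] (hG : ¬ IsMulCommutative G) (h : Full S R) :
    Subgroup.normalizer (R : Set G) ≤ S.H := by
  intro n hn
  refine S.mem_H.2 (Shape.normalizer_le hG S ?_)
  have hm := (Subgroup.mem_normalizer_iff.1 hn S.p).1 h.mem
  obtain ⟨k, hk⟩ := h.central_mem hm fun y hy => by
    have hy' : n⁻¹ * y * n ∈ R :=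
      (Subgroup.mem_normalizer_iff.1 hn _).2 (by simpa [mul_assoc] using hy)
    calc n * S.p * n⁻¹ * y = n * (S.p * (n⁻¹ * y * n)) * n⁻¹ := by group
      _ = n * ((n⁻¹ * y * n) * S.p) * n⁻¹ := by rw [h.p_central hy']
      _ = y * (n * S.p * n⁻¹) := by group
  rw [hk]
  exact pow_mem (Subgroup.mem_zpowers _) k

theorem card_normalizer [IsSimpleGroup G] (hG : ¬ IsMulCommutative G) (h : Full S R) :
    Nat.card (Subgroup.normalizer (R : Set G)) = 864 := by
  haveI : Fact (Nat.Prime 3) := ⟨Nat.prime_three⟩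
  have hNH := h.normalizer_le_H hG
  obtain ⟨P, hP⟩ := h.exists_sylow
  set A := Subgroup.normalizer ((((P : Subgroup M22g).map (MulAut.conj : M22g →* MulAut M22g)) :
    Subgroup (MulAut M22g)) : Set (MulAut M22g)) with hA
  have memA : ∀ τ, τ ∈ (P : Subgroup M22g).map (MulAut.conj : M22g →* MulAut M22g) ↔
      ∃ r ∈ R, S.piv r = τ := by
    intro τ
    rw [hP]
    constructor
    · rintro ⟨_, ⟨r, rfl⟩, rfl⟩
      exact ⟨r, r.2, (conj_bar (inner_of_C (h.le_C r.2))).symm⟩
    · rintro ⟨r, hr, rfl⟩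
      exact ⟨_, ⟨⟨r, hr⟩, rfl⟩, conj_bar (inner_of_C (h.le_C hr))⟩
  let φ : ↥(Subgroup.normalizer (R : Set G)) →* MulAut M22g :=
    S.pivHom.comp (Subgroup.inclusion hNH)
  have hφ : ∀ n : ↥(Subgroup.normalizer (R : Set G)), φ n = S.piv n := fun n => rfl
  have hrange : φ.range = A := by
    refine le_antisymm ?_ fun σ hσ => ?_
    · rintro _ ⟨n, rfl⟩
      refine Subgroup.mem_normalizer_fintype fun τ hτ => ?_
      obtain ⟨r, hr, rfl⟩ := (memA τ).1 hτ
      refine (memA _).2 ⟨_, (Subgroup.mem_normalizer_iff.1 n.2 r).1 hr, ?_⟩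
      rw [hφ, piv_mul (mul_mem (hNH n.2) (h.le hr)) (inv_mem (hNH n.2)),
        piv_mul (hNH n.2) (h.le hr), piv_inv (hNH n.2)]
    · obtain ⟨g, hg, rfl⟩ := piv_surj (S := S) σ
      obtain ⟨e, he, m, hm, rfl, hmp⟩ := decompose hg
      rw [piv_mul (S.E_le_H he) hm, piv_E he, one_mul] at hσ ⊢
      refine ⟨⟨m, Subgroup.mem_normalizer_fintype fun r hr => ?_⟩, rfl⟩
      obtain ⟨s, hs, e'⟩ := (memA _).1
        ((Subgroup.mem_normalizer_iff.1 hσ (S.piv r)).1 ((memA _).2 ⟨r, hr, rfl⟩))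
      have hrC := h.le_C hr
      have hmrH : m * r * m⁻¹ ∈ S.H := mul_mem (mul_mem hm (h.le hr)) (inv_mem hm)
      have hmr : m * r * m⁻¹ ∈ S.C := by
        refine S.mem_C.2 ⟨S.mem_H.1 hmrH, ?_⟩
        have hc : Commute r (m⁻¹ * S.p * m) := by
          rcases hmp with e | e
          · rw [show m⁻¹ * S.p * m = S.p by rw [mul_assoc, ← e, inv_mul_cancel_left]]
            exact h.p_central hr
          · have e2 : m⁻¹ * S.p * m = S.p⁻¹ := by
              have e3 : m * S.p⁻¹ * m⁻¹ = S.p := by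
                rw [show m * S.p⁻¹ * m⁻¹ = (m * S.p * m⁻¹)⁻¹ by group, e, inv_inv]
              nth_rewrite 1 [← e3]
              group
            rw [e2]
            exact (show Commute r S.p from h.p_central hr).inv_right
        calc m * r * m⁻¹ * S.p = m * (r * (m⁻¹ * S.p * m)) * m⁻¹ := by group
          _ = m * ((m⁻¹ * S.p * m) * r) * m⁻¹ := by rw [hc.eq]
          _ = S.p * (m * r * m⁻¹) := by group
      have hsC := h.le_C hs
      obtain ⟨k, -, hk⟩ := eq_of_piv_eq_one (mul_mem (inv_mem hsC) hmr) (by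
        rw [piv_mul (inv_mem (h.le hs)) hmrH, piv_inv (h.le hs), piv_mul (mul_mem hm (h.le hr))
          (inv_mem hm), piv_mul hm (h.le hr), piv_inv hm, e', inv_mul_cancel])
      rcases hk with hk | hk <;> rw [inv_mul_eq_iff_eq_mul] at hk <;> rw [hk]
      · exact mul_mem hs (pow_mem h.mem k)
      · exfalso
        have h3 : (m * r * m⁻¹) ^ 3 = 1 := by rw [conj_pow, h.pow_three hr]; simp
        have hsz : Commute s S.z := (S.mem_C.1 hsC).1
        have hpz : Commute (S.p ^ k) S.z := (show Commute S.p S.z from S.p_comm).pow_left k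
        rw [hk, show s * (S.z * S.p ^ k) = s * S.p ^ k * S.z by rw [← hpz.eq, mul_assoc],
          (hsz.mul_left hpz).mul_pow, h.pow_three (mul_mem hs (pow_mem h.mem k)), one_mul,
          pow_succ, pow_two, S.z_mul_z, one_mul] at h3
        exact S.sub.ne_one h3
  have hzN : S.z * S.p ∈ Subgroup.normalizer (R : Set G) := by
    refine mul_mem ?_ (Subgroup.le_normalizer h.mem)
    refine Subgroup.mem_normalizer_fintype fun r hr => ?_
    rw [mul_inv_eq_iff_eq_mul.2 (S.mem_C.1 (h.le_C hr)).1.symm]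
    exact hr
  have hker : φ.ker = Subgroup.zpowers
      (⟨S.z * S.p, hzN⟩ : ↥(Subgroup.normalizer (R : Set G))) := by
    refine le_antisymm (fun n hn => ?_) (Subgroup.zpowers_le.2 ?_)
    · have hn1 : S.piv n = 1 := hn
      obtain ⟨e, he, k, hk⟩ := (piv_eq_one (hNH n.2)).1 hn1
      have heN : e ∈ Subgroup.normalizer (R : Set G) := by
        have := mul_mem n.2 (inv_mem (Subgroup.le_normalizer (pow_mem h.mem k)))
        rwa [hk, mul_inv_cancel_right] at this
      have hcomm : e * S.p * e⁻¹ * S.p⁻¹ = 1 := by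
        refine h.inter_E (mul_mem ((Subgroup.mem_normalizer_iff.1 heN S.p).1 h.mem)
          (inv_mem h.mem)) ?_
        rw [show e * S.p * e⁻¹ * S.p⁻¹ = e * (S.p * e⁻¹ * S.p⁻¹) by group]
        exact mul_mem he (S.conj_mem S.p_mem_H (inv_mem he))
      have hzp : (S.z * S.p) ^ 3 = S.z ∧ (S.z * S.p) ^ 4 = S.p := by
        constructor
        · rw [p_pow_mul_z_pow, S.p_pow_three, mul_one, pow_succ, pow_two, S.z_mul_z, one_mul]
        · rw [p_pow_mul_z_pow, S.p_pow_mod 4, show (4 : ℕ) = 2 + 2 by norm_num, pow_add S.z,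
            pow_two, S.z_mul_z, one_mul, one_mul]
          norm_num
      rcases S.fixp e he (mul_inv_eq_iff_eq_mul.1 (mul_inv_eq_one.1 hcomm)).symm with e1 | e1
      · rw [show n = (⟨S.z * S.p, hzN⟩ : ↥(Subgroup.normalizer (R : Set G))) ^ (4 * k) from
          Subtype.ext (by rw [SubmonoidClass.coe_pow, pow_mul, hzp.2, hk, e1, one_mul])]
        exact pow_mem (Subgroup.mem_zpowers _) _
      · rw [show n = (⟨S.z * S.p, hzN⟩ : ↥(Subgroup.normalizer (R : Set G))) ^ (3 + 4 * k) from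
          Subtype.ext (by rw [SubmonoidClass.coe_pow, pow_add, pow_mul, hzp.1, hzp.2, hk, e1])]
        exact pow_mem (Subgroup.mem_zpowers _) _
    · show S.piv (S.z * S.p) = 1
      rw [piv_mul S.z_mem_H S.p_mem_H, piv_z, piv_p, one_mul]
  have hc := φ.ker.index_mul_card
  rw [Subgroup.index_ker, hrange, hA, card_aut_normalizer P, hker, Nat.card_zpowers,
    Subgroup.orderOf_mk, orderOf_z_mul_p] at hc
  exact hc.symm

theorem not_dvd [IsSimpleGroup G] (hG : ¬ IsMulCommutative G) (h : Full S R) :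
    ¬ 3 ^ 4 ∣ Nat.card G := fun hd => by
  haveI : Fact (Nat.Prime 3) := ⟨Nat.prime_three⟩
  have h1 := Sylow.prime_pow_dvd_card_normalizer (n := 3) hd (H := R) (by rw [h.card]; norm_num)
  have h2 := dvd_trans h1 (Subgroup.card_dvd_of_le (h.normalizer_le_H hG))
  rw [card_H] at h2
  exact absurd h2 (by norm_num)

theorem factorization_G [IsSimpleGroup G] (hG : ¬ IsMulCommutative G) (h : Full S R) :
    (Nat.card G).factorization 3 = 3 := by
  have h1 : 3 ^ 3 ∣ Nat.card G := by
    have := Subgroup.card_subgroup_dvd_card R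
    rw [h.card] at this
    exact this
  have h2 := h.not_dvd hG
  rw [Nat.Prime.pow_dvd_iff_le_factorization Nat.prime_three Nat.card_pos.ne'] at h1 h2
  omega

/-- The elements of `R` outside the centre are conjugate. -/
theorem isConj_of_bar (h : Full S R) {x y : G} (hx : x ∈ R) (hy : y ∈ R) (hx1 : S.bar x ≠ 1)
    (hy1 : S.bar y ≠ 1) : IsConj x y := by
  have hxC := h.le_C hx
  have hyC := h.le_C hy
  have hx3 := h.pow_three hx
  have hy3 := h.pow_three hy
  -- lifts of one element which have cube one differ by a power of `p`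
  have key : ∀ u ∈ S.C, u ^ 3 = 1 → S.bar u = S.bar y → ∃ k : ℕ, u = y * S.p ^ k := by
    intro u hu hu3 e
    obtain ⟨k, -, hk⟩ := eq_of_piv_eq_one (mul_mem (inv_mem hyC) hu) ((bar_eq_one_iff
      (inner_of_C (mul_mem (inv_mem hyC) hu))).1 (by
        rw [bar_mul (S.C_le_H (inv_mem hyC)) (S.C_le_H hu) (inner_of_C (inv_mem hyC))
          (inner_of_C hu), bar_inv hyC, e, inv_mul_cancel]))
    refine ⟨k, ?_⟩
    rcases hk with hk | hk <;> rw [inv_mul_eq_iff_eq_mul] at hk
    · exact hk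
    · exfalso
      have hyz : Commute y S.z := (S.mem_C.1 hyC).1
      have hpz : Commute (S.p ^ k) S.z := (show Commute S.p S.z from S.p_comm).pow_left k
      rw [hk, show y * (S.z * S.p ^ k) = y * S.p ^ k * S.z by rw [← hpz.eq, mul_assoc],
        (hyz.mul_left hpz).mul_pow, h.pow_three (mul_mem hy (pow_mem h.mem k)), one_mul,
        pow_succ, pow_two, S.z_mul_z, one_mul] at hu3
      exact S.sub.ne_one hu3
  obtain ⟨a, ha⟩ := isConj_iff.1 (isConj_three (h.orderOf_bar hx hx1) (h.orderOf_bar hy hy1))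
  obtain ⟨c, hc, rfl⟩ := exists_bar (S := S) a
  rw [← bar_conj hc hxC] at ha
  obtain ⟨k, hk⟩ := key _ (mul_mem (mul_mem hc hxC) (inv_mem hc))
    (by rw [conj_pow, hx3]; simp) ha
  have hstep : ∀ k : ℕ, IsConj y (y * S.p ^ k) := by
    obtain ⟨g, hg, i, hi, hgy⟩ := exists_conj_mul_p hyC (h.orderOf_bar hy hy1)
    have hgy' : g * y * g⁻¹ = y * S.p ^ i := by
      refine hgy.resolve_right fun e => ?_
      have h3 : (g * y * g⁻¹) ^ 3 = 1 := by rw [conj_pow, hy3]; simp
      have hyz : Commute y S.z := (S.mem_C.1 hyC).1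
      have hpz : Commute (S.p ^ i) S.z := (show Commute S.p S.z from S.p_comm).pow_left i
      rw [e, ((hyz.mul_left hpz).symm).mul_pow, h.pow_three (mul_mem hy (pow_mem h.mem i)),
        mul_one, pow_succ, pow_two, S.z_mul_z, one_mul] at h3
      exact S.sub.ne_one h3
    have hgp : Commute g S.p := (S.mem_C.1 hg).2
    have hn : ∀ n : ℕ, g ^ n * y * (g ^ n)⁻¹ = y * S.p ^ (i * n) := by
      intro n
      induction n with
      | zero => simp
      | succ n ih =>
        calc g ^ (n + 1) * y * (g ^ (n + 1))⁻¹ = g * (g ^ n * y * (g ^ n)⁻¹) * g⁻¹ := by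
              rw [pow_succ']; group
          _ = g * (y * S.p ^ (i * n)) * g⁻¹ := by rw [ih]
          _ = g * y * (g⁻¹ * g) * S.p ^ (i * n) * g⁻¹ := by group
          _ = g * y * g⁻¹ * (g * S.p ^ (i * n) * g⁻¹) := by group
          _ = y * S.p ^ (i * (n + 1)) := by
            rw [hgy', mul_inv_eq_iff_eq_mul.2 (hgp.pow_right _).eq, mul_assoc, ← pow_add]
            ring_nf
    intro k
    refine isConj_iff.2 ⟨g ^ (i * k), ?_⟩
    rw [hn, S.p_pow_mod (i * (i * k)), S.p_pow_mod k]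
    congr 2
    rcases hi with rfl | rfl <;> omega
  exact (isConj_iff.2 ⟨c, hk⟩).trans (hstep k).symm

/-- An element of `R` in the centre is conjugate to `p`. -/
theorem isConj_p (h : Full S R) {x : G} (hx : x ∈ R) (h1 : S.bar x = 1) (hne : x ≠ 1) :
    IsConj S.p x := by
  obtain ⟨k, rfl⟩ := h.bar_eq_one hx h1
  rw [S.p_pow_mod] at hne ⊢
  rcases (by omega : k % 3 = 0 ∨ k % 3 = 1 ∨ k % 3 = 2) with e | e | e <;> rw [e] at hne ⊢
  · exact absurd (pow_zero _) hne
  · rw [pow_one]
  · obtain ⟨τ, -, hτ⟩ := S.invert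
    rw [← S.p_inv]
    exact isConj_iff.2 ⟨τ, hτ⟩

end Full

/-- A three-subgroup of order 27 of `C(z)` contains some choice of `p`. -/
theorem exists_full {R : Subgroup G} (hle : R ≤ S.H) (hcard : Nat.card R = 27) :
    ∃ S' : Shape G, S'.z = S.z ∧ Full S' R := by
  let f : ↥R →* MulAut M22g := S.pivHom.comp (Subgroup.inclusion hle)
  obtain ⟨⟨x, hx⟩, hxk, hx1⟩ : ∃ x ∈ f.ker, x ≠ 1 := by
    by_contra hcon
    push Not at hcon
    have hbot := (Subgroup.eq_bot_iff_forall _).2 hcon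
    have h := Subgroup.card_subgroup_dvd_card f.range
    rw [card_aut_M22g, ← Subgroup.index_ker, hbot, Subgroup.index_bot, hcard] at h
    norm_num at h
  obtain ⟨e, he, k, hk⟩ := (piv_eq_one (hle hx)).1 hxk
  rw [S.p_pow_mod] at hk
  have hx27 : x ^ 27 = 1 :=
    hcard ▸ orderOf_dvd_iff_pow_eq_one.1 (Subgroup.orderOf_dvd_natCard R hx)
  have hE : ∀ u ∈ S.E, u ^ 27 = 1 → u = 1 := by
    intro u hu h27
    obtain ⟨n, hn⟩ := S.isPGroup_E ⟨u, hu⟩
    have h1 : u ^ 2 ^ n = 1 := congrArg Subtype.val hn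
    have hc : Nat.gcd (2 ^ n) 27 = 1 := Nat.Coprime.pow_left n (by norm_num : Nat.Coprime 2 27)
    simpa [hc] using pow_gcd_eq_one.2 ⟨h1, h27⟩
  have hk12 : k % 3 = 1 ∨ k % 3 = 2 := by
    rcases (by omega : k % 3 = 0 ∨ k % 3 = 1 ∨ k % 3 = 2) with h | h | h
    · exfalso
      rw [h, pow_zero, mul_one] at hk
      exact hx1 (Subtype.ext (hE x (hk ▸ he) hx27))
    · exact Or.inl h
    · exact Or.inr h
  have hx3 : x ^ 3 = 1 := by
    refine hE _ ?_ (by rw [← pow_mul, mul_comm, pow_mul, hx27, one_pow])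
    have hp := S.p_pow_mem (k % 3)
    have e1 : x ^ 3 = e * ((S.p ^ (k % 3)) * e * (S.p ^ (k % 3))⁻¹) *
        ((S.p ^ (k % 3)) ^ 2 * e * ((S.p ^ (k % 3)) ^ 2)⁻¹) * (S.p ^ (k % 3)) ^ 3 := by
      rw [hk]
      generalize S.p ^ (k % 3) = q
      simp only [pow_succ, pow_zero, one_mul]
      group
    rw [e1, show (S.p ^ (k % 3)) ^ 3 = 1 by
      rw [← pow_mul, mul_comm, pow_mul, S.p_pow_three, one_pow], mul_one]
    exact mul_mem (mul_mem he (S.conj_mem hp he)) (S.conj_mem (pow_mem hp 2) he)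
  obtain ⟨u, hu, hup⟩ := exists_conj_pow he hk12 (hk ▸ hx3)
  rw [← hk] at hup
  have huH : u⁻¹ ∈ S.H := inv_mem (S.E_le_H hu)
  have hz := conj_z_eq_of_mem S huH
  refine ⟨S.conj u⁻¹, hz, ⟨?_, ?_, hcard⟩⟩
  · intro r hr
    rw [mem_H, hz]
    exact S.mem_H.1 (hle hr)
  · have hxp : x = (S.conj u⁻¹).p ^ (k % 3) := by
      rw [conj_p, conj_pow, ← hup]
      group
    rcases hk12 with h | h <;> rw [h] at hxp
    · rw [pow_one] at hxp
      exact hxp ▸ hx
    · rw [← p_inv] at hxp
      simpa [hxp] using inv_mem hx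

/-- Some subgroup of order 27 of `C(z)` contains `p`. -/
theorem exists_full_self (S : Shape G) : ∃ R : Subgroup G, Full S R := by
  haveI : Fact (Nat.Prime 3) := ⟨Nat.prime_three⟩
  have hp : IsPGroup 3 (Subgroup.zpowers (⟨S.p, S.p_mem_H⟩ : S.H)) := by
    refine IsPGroup.of_card (n := 1) ?_
    rw [Nat.card_zpowers, Subgroup.orderOf_mk, S.p3, pow_one]
  obtain ⟨R, hR⟩ := hp.exists_le_sylow
  refine ⟨(R : Subgroup S.H).map S.H.subtype, Subgroup.map_subtype_le _,
    ⟨_, hR (Subgroup.mem_zpowers _), rfl⟩, ?_⟩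
  rw [Subgroup.card_map_of_injective S.H.subtype_injective, R.card_eq_multiplicity, card_H]
  have h27 : (3 * 2 ^ 13 * 887040 : ℕ).factorization 3 = 3 := by
    rw [show (3 * 2 ^ 13 * 887040 : ℕ) = 3 ^ 3 * 807403520 by norm_num,
      Nat.factorization_mul (by norm_num) (by norm_num), Finsupp.add_apply,
      Nat.Prime.factorization_pow Nat.prime_three, Finsupp.single_eq_same,
      Nat.factorization_eq_zero_of_not_dvd (by norm_num)]
  rw [h27]
  norm_num

theorem card_sylow_three_G [IsSimpleGroup G] (hG : ¬ IsMulCommutative G) (S : Shape G)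
    (R : Sylow 3 G) : Nat.card (R : Subgroup G) = 27 := by
  haveI : Fact (Nat.Prime 3) := ⟨Nat.prime_three⟩
  obtain ⟨R0, h⟩ := exists_full_self S
  rw [R.card_eq_multiplicity, h.factorization_G hG]
  norm_num

/-- All elements of order three are conjugate. -/
theorem one_class_three [IsSimpleGroup G] (hG : ¬ IsMulCommutative G) (S : Shape G) {x y : G}
    (hx : orderOf x = 3) (hy : orderOf y = 3) : IsConj x y := by
  haveI : Fact (Nat.Prime 3) := ⟨Nat.prime_three⟩
  obtain ⟨c, -, hc, -, -, -, -, hcp, -, -, hcz, -, -⟩ := exists_four hG S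
  obtain ⟨v, hv⟩ := isConj_iff.1 hcz
  set T := S.conj v with hT
  have hpT : S.p ∈ T.H := T.mem_H.2 (by
    rw [show T.z = c from hv]; exact (S.mem_C.1 hc).2.symm)
  have hpiv : T.piv S.p ≠ 1 := conj_piv_p_ne_one hc hcp.2 hv
  obtain ⟨R, h⟩ := exists_full_self T
  let P : Sylow 3 G := Sylow.ofCard R (by rw [h.card, h.factorization_G hG]; norm_num)
  let PH : Sylow 3 T.H := P.subtype h.le
  -- conjugate `S.p` inside `T.H` into `R`
  have hp : IsPGroup 3 (Subgroup.zpowers (⟨S.p, hpT⟩ : T.H)) := by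
    refine IsPGroup.of_card (n := 1) ?_
    rw [Nat.card_zpowers, Subgroup.orderOf_mk, S.p3, pow_one]
  obtain ⟨P1, hP1⟩ := hp.exists_le_sylow
  obtain ⟨g, hg⟩ := MulAction.exists_smul_eq T.H P1 PH
  set u := (g : G) * S.p * (g : G)⁻¹ with hu
  have huR : u ∈ R := by
    have h1 : MulAut.conj g (⟨S.p, hpT⟩ : T.H) ∈ (PH : Subgroup T.H) := by
      rw [← hg, Sylow.coe_subgroup_smul]
      exact Subgroup.smul_mem_pointwise_smul _ (MulAut.conj g) (P1 : Subgroup T.H)
        (hP1 (Subgroup.mem_zpowers _))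
    exact h1
  have hu1 : T.bar u ≠ 1 := by
    intro e
    have h1 := (bar_eq_one_iff (inner_of_C (h.le_C huR))).1 e
    rw [hu, piv_mul (mul_mem g.2 hpT) (inv_mem g.2), piv_mul g.2 hpT, piv_inv g.2,
      conj_eq_one_iff] at h1
    exact hpiv h1
  have hpu : IsConj T.p u :=
    (isConj_iff.2 ⟨v, rfl⟩ : IsConj S.p T.p).symm.trans (isConj_iff.2 ⟨g, rfl⟩)
  have key : ∀ w : G, orderOf w = 3 → IsConj T.p w := by
    intro w hw
    have hwp : IsPGroup 3 (Subgroup.zpowers w) := by
      refine IsPGroup.of_card (n := 1) ?_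
      rw [Nat.card_zpowers, hw, pow_one]
    obtain ⟨Q, hQ⟩ := hwp.exists_le_sylow
    obtain ⟨a, ha⟩ := MulAction.exists_smul_eq G Q P
    have hwR : a * w * a⁻¹ ∈ R := by
      have h1 : MulAut.conj a w ∈ (P : Subgroup G) := by
        rw [← ha, Sylow.coe_subgroup_smul]
        exact Subgroup.smul_mem_pointwise_smul _ (MulAut.conj a) (Q : Subgroup G)
          (hQ (Subgroup.mem_zpowers _))
      exact h1
    have hwa : IsConj (a * w * a⁻¹) w := (isConj_iff.2 ⟨a, rfl⟩ : IsConj w (a * w * a⁻¹)).symm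
    by_cases e : T.bar (a * w * a⁻¹) = 1
    · refine (h.isConj_p hwR e fun e1 => ?_).trans hwa
      rw [conj_eq_one_iff.1 e1, orderOf_one] at hw
      omega
    · exact (hpu.trans (h.isConj_of_bar huR hwR hu1 e)).trans hwa
  exact (key x hx).symm.trans (key y hy)

end Shape

end CfsgLib.JFourType
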