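import Cfsg.Agent.JFourType.Kappa

/-!
# The centralizer of `p` in `C(z)` is perfect and has a four-group of conjugates of `z`
-/

set_option autoImplicit false
set_option linter.style.haveILetI false
set_option linter.unusedVariables false
set_option linter.unusedSectionVars false
set_option linter.overlappingInstances false

namespace CfsgLib.JFourType

open Cfsg CfsgLib.LargeExtraspecial Module
open scoped commutatorElement

theorem commutator_M22g : commutator M22g = ⊤ := by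
  haveI := simple_M22g
  refine ((inferInstance : (commutator M22g).Normal).eq_bot_or_eq_top).resolve_left fun h => ?_
  refine not_comm_M22g fun a b => ?_
  have h1 : ⁅a, b⁆ ∈ commutator M22g :=
    Subgroup.commutator_mem_commutator (Subgroup.mem_top a) (Subgroup.mem_top b)
  rw [h, Subgroup.mem_bot] at h1
  exact commutatorElement_eq_one_iff_mul_comm.1 h1

theorem eq_one_of_central {a : M22g} (h : ∀ b, a * b = b * a) : a = 1 := by
  haveI := simple_M22g
  have ha : a ∈ Subgroup.center M22g := Subgroup.mem_center_iff.2 fun b => (h b).symm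
  rcases (inferInstance : (Subgroup.center M22g).Normal).eq_bot_or_eq_top with e | e
  · rwa [e, Subgroup.mem_bot] at ha
  · exact absurd (fun x y => (Subgroup.mem_center_iff.1 (e ▸ Subgroup.mem_top y :
      y ∈ Subgroup.center M22g) x)) not_comm_M22g

namespace Shape

variable {G : Type*} [Group G] [Finite G] {S T : Shape G}

/-- Some conjugate of the shape forms a normalised twin with it. -/
theorem exists_twin [IsSimpleGroup G] (hG : ¬ IsMulCommutative G) (S : Shape G) :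
    ∃ g : G, Twin S (S.conj g) ∧ Normed S (S.conj g) := by
  obtain ⟨g, hg, hne⟩ := exists_conj_mem_E hG S
  have hcard : 9 ≤ Nat.card S.E := by rw [S.card_E]; norm_num
  have mk : ∀ x : G, x * S.z * x⁻¹ ∈ S.E → x * S.z * x⁻¹ ≠ S.z → Twin S (S.conj x) :=
    fun x hx hxne => ⟨hx, S.sub.mem_of_conj_mem hcard hx hxne, hxne⟩
  have h := mk g hg hne
  set t := (S.conj g).z with ht
  set t1 := S.p * t * S.p⁻¹ with ht1
  set t2 := S.p ^ 2 * t * (S.p ^ 2)⁻¹ with ht2
  have h1 : t1 ∈ S.E := S.conj_mem S.p_mem_H h.mem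
  have h2 : t2 ∈ S.E := S.conj_mem (S.p_pow_mem 2) h.mem
  have hsum : t * t1 * t2 = 1 ∨ t * t1 * t2 = S.z := by
    rw [← pr_eq_zero (mul_mem (mul_mem h.mem h1) h2), pr_mul (mul_mem h.mem h1) h2,
      pr_mul h.mem h1, ht1, ht2, ← S.cj_pr S.p_mem_H h.mem, ← S.cj_pr (S.p_pow_mem 2) h.mem,
      pow_two, S.cj_mul S.p_mem_H S.p_mem_H, ← space_om, ← space_om,
      ← S.space.om_sum (S.pr t)]
    abel
  rcases hsum with e | e
  · exact ⟨g, h, e⟩
  obtain ⟨q, hq, hqs⟩ := S.sub.exists_not_commute (s := t) (Ne.symm (fun e1 => by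
    exact (S.conj g).sub.ne_one e1.symm)) h.ne
  have hqt := S.sub.conj_of_not_commute hq h.mem hqs
  have e' : (S.conj (q * g)).z = S.z * t := by
    rw [← hqt]
    show q * g * S.z * (q * g)⁻¹ = q * (g * S.z * g⁻¹) * q⁻¹
    group
  refine ⟨q * g, mk _ (by
    show (S.conj (q * g)).z ∈ S.E
    rw [e']
    exact mul_mem S.sub.z_mem h.mem) ?_, ?_⟩
  · show (S.conj (q * g)).z ≠ S.z
    rw [e']
    intro e1
    exact (S.conj g).sub.ne_one (mul_eq_left.1 e1)
  · show _ * (S.p * _ * S.p⁻¹) * (S.p ^ 2 * _ * (S.p ^ 2)⁻¹) = 1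
    rw [e']
    have ez : ∀ k : ℕ, S.p ^ k * (S.z * t) * (S.p ^ k)⁻¹ = S.z * (S.p ^ k * t * (S.p ^ k)⁻¹) :=
      fun k => by
        rw [← mul_assoc (S.p ^ k), ((show Commute S.p S.z from S.p_comm).pow_left k).eq]
        group
    have ez1 := ez 1
    rw [pow_one] at ez1
    rw [ez1, ez 2, ← ht1, ← ht2]
    calc S.z * t * (S.z * t1) * (S.z * t2) = S.z * (t * S.z) * (t1 * S.z) * t2 := by group
      _ = S.z * (S.z * t) * (S.z * t1) * t2 := by rw [S.sub.z_comm h.mem, S.sub.z_comm h1]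
      _ = t * (S.z * t1) * t2 := by rw [← mul_assoc S.z S.z, S.z_mul_z, one_mul]
      _ = t * S.z * t1 * t2 := by group
      _ = S.z * t * t1 * t2 := by rw [S.sub.z_comm h.mem]
      _ = S.z * (t * t1 * t2) := by group
      _ = 1 := by rw [e, S.z_mul_z]

theorem exists_derived_bar (a : M22g) : ∃ d ∈ ⁅S.C, S.C⁆, S.bar d = a := by
  have h1 : (commutator ↥S.C).map S.barC = ⊤ := by
    rw [commutator_def, Subgroup.map_commutator, ← MonoidHom.range_eq_map,
      MonoidHom.range_eq_top.2 barC_surj, ← commutator_def, commutator_M22g]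
  obtain ⟨d, hd, e⟩ := (h1 ▸ Subgroup.mem_top a : a ∈ (commutator ↥S.C).map S.barC)
  exact ⟨d, Subgroup.map_subtype_commutator S.C ▸ ⟨d, hd, rfl⟩, e⟩

theorem derived_le : ⁅S.C, S.C⁆ ≤ S.C := by
  rw [← Subgroup.map_subtype_commutator]
  exact Subgroup.map_subtype_le _

theorem derived_or {c : G} (hc : c ∈ S.C) : c ∈ ⁅S.C, S.C⁆ ∨ c * S.z ∈ ⁅S.C, S.C⁆ := by
  obtain ⟨d, hd, e⟩ := exists_derived_bar (S := S) (S.bar c)
  have hdC := derived_le hd
  have h1 : S.piv (d⁻¹ * c) = 1 := by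
    rw [← bar_eq_one_iff (inner_of_C (mul_mem (inv_mem hdC) hc)),
      bar_mul (S.C_le_H (inv_mem hdC)) (S.C_le_H hc) (inner_of_C (inv_mem hdC)) (inner_of_C hc),
      bar_inv hdC, e, inv_mul_cancel]
  have hp : S.p ∈ ⁅S.C, S.C⁆ := S.derived
  obtain ⟨k, -, hk | hk⟩ := eq_of_piv_eq_one (mul_mem (inv_mem hdC) hc) h1
  · exact Or.inl ((inv_mul_eq_iff_eq_mul.1 hk) ▸ mul_mem hd (pow_mem hp k))
  · refine Or.inr ?_
    have e2 : c * S.z = d * S.p ^ k := by
      rw [inv_mul_eq_iff_eq_mul.1 hk, mul_assoc d, mul_assoc S.z,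
        ((show Commute S.p S.z from S.p_comm).pow_left k).eq, ← mul_assoc S.z S.z, S.z_mul_z,
        one_mul]
    rw [e2]
    exact mul_mem hd (pow_mem hp k)

theorem derived_conj {k c : G} (hk : k ∈ S.C) (hc : c ∈ ⁅S.C, S.C⁆) :
    k * c * k⁻¹ ∈ ⁅S.C, S.C⁆ := by
  rw [← Subgroup.map_subtype_commutator] at hc ⊢
  obtain ⟨d, hd, rfl⟩ := hc
  exact ⟨⟨k, hk⟩ * d * ⟨k, hk⟩⁻¹, (inferInstance : (commutator ↥S.C).Normal).conj_mem d hd _, rfl⟩

theorem z_mem_derived [IsSimpleGroup G] (hG : ¬ IsMulCommutative G) (S : Shape G) :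
    S.z ∈ ⁅S.C, S.C⁆ := by
  by_contra hz
  obtain ⟨g, h, hn⟩ := exists_twin hG S
  obtain ⟨a, K⟩ := h.exists_carrier hn
  refine K.no_complement (lifts h ⊓ ⁅S.C, S.C⁆) inf_le_left (fun hh => hz hh.2)
    (fun c hc => (derived_or hc.1).imp (fun e => ⟨hc, e⟩) fun e =>
      ⟨mul_mem hc (z_mem_lifts h), e⟩) fun k hk c hc => ⟨hk.2.2.2 c hc.1, derived_conj hk.1 hc.2⟩

theorem perfect_C [IsSimpleGroup G] (hG : ¬ IsMulCommutative G) (S : Shape G) :
    ⁅S.C, S.C⁆ = S.C := by
  refine le_antisymm derived_le fun c hc => ?_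
  rcases derived_or hc with e | e
  · exact e
  · have := mul_mem e (z_mem_derived hG S)
    rwa [mul_assoc, S.z_mul_z, mul_one] at this

/-! ### The centre -/

theorem p_pow_mul_z_pow (k : ℕ) : (S.z * S.p) ^ k = S.z ^ k * S.p ^ k :=
  (show Commute S.p S.z from S.p_comm).symm.mul_pow k

theorem center_eq :
    Subgroup.center ↥S.C = Subgroup.zpowers (⟨S.z * S.p, mul_mem S.z_mem_C S.p_mem_C⟩ : ↥S.C) := by
  refine le_antisymm (fun c hc => ?_) (Subgroup.zpowers_le.2 (Subgroup.mem_center_iff.2 fun d => ?_))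
  · have hb : S.bar (c : G) = 1 := eq_one_of_central fun b => by
      obtain ⟨d, hd⟩ := barC_surj (S := S) b
      show S.barC c * b = b * S.barC c
      rw [← hd, ← map_mul, ← map_mul, Subgroup.mem_center_iff.1 hc d]
    obtain ⟨k, hk3, hk⟩ := eq_of_piv_eq_one c.2 ((bar_eq_one_iff (inner_of_C c.2)).1 hb)
    have key : ∀ n : ℕ, (c : G) = (S.z * S.p) ^ n → c ∈ Subgroup.zpowers
        (⟨S.z * S.p, mul_mem S.z_mem_C S.p_mem_C⟩ : ↥S.C) := fun n e =>
      (show c = ⟨S.z * S.p, mul_mem S.z_mem_C S.p_mem_C⟩ ^ n from Subtype.ext (by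
        simpa using e)) ▸ pow_mem (Subgroup.mem_zpowers _) n
    rcases hk with e | e
    · refine key (4 * k) ?_
      rw [e, p_pow_mul_z_pow, show 4 * k = 2 * (2 * k) by ring, pow_mul S.z, pow_two S.z, S.z_mul_z,
        one_pow, one_mul, S.p_pow_mod (2 * (2 * k)), show 2 * (2 * k) % 3 = k by omega]
    · refine key (4 * k + 3) ?_
      rw [e, p_pow_mul_z_pow, show 4 * k + 3 = 2 * (2 * k + 1) + 1 by ring, pow_succ S.z,
        pow_mul S.z, pow_two S.z, S.z_mul_z, one_pow, one_mul,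
        S.p_pow_mod (2 * (2 * k + 1) + 1), show (2 * (2 * k + 1) + 1) % 3 = k by omega]
  · obtain ⟨h1, h2⟩ := S.mem_C.1 d.2
    exact Subtype.ext ((show Commute (d : G) S.z from h1).mul_right h2).eq

theorem orderOf_z_mul_p : orderOf (S.z * S.p) = 6 := by
  rw [((show Commute S.p S.z from S.p_comm).symm).orderOf_mul_eq_mul_orderOf_of_coprime
    (by rw [S.sub.two, S.p3]; norm_num), S.sub.two, S.p3]

theorem center_cyclic : IsCyclic ↥(Subgroup.center ↥S.C) := by
  rw [center_eq]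
  infer_instance

theorem card_center : Nat.card ↥(Subgroup.center ↥S.C) = 6 := by
  rw [center_eq, Nat.card_zpowers, Subgroup.orderOf_mk, orderOf_z_mul_p]

theorem isoM22_quotient : Cfsg.Spor.IsoM22 (↥S.C ⧸ Subgroup.center ↥S.C) := by
  have hk : S.barC.ker = Subgroup.center ↥S.C := by
    ext c
    rw [MonoidHom.mem_ker]
    constructor
    · intro hc
      obtain ⟨k, -, e | e⟩ := eq_of_piv_eq_one c.2 ((bar_eq_one_iff (inner_of_C c.2)).1 hc) <;>
        refine Subgroup.mem_center_iff.2 fun d => Subtype.ext ?_ <;>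
        obtain ⟨h1, h2⟩ := S.mem_C.1 d.2
      · show (d : G) * c = c * d
        rw [e]
        exact ((show Commute (d : G) S.p from h2).pow_right k).eq
      · show (d : G) * c = c * d
        rw [e]
        exact ((show Commute (d : G) S.z from h1).mul_right
          ((show Commute (d : G) S.p from h2).pow_right k)).eq
    · intro hc
      refine eq_one_of_central fun b => ?_
      obtain ⟨d, hd⟩ := barC_surj (S := S) b
      rw [← hd, ← map_mul, ← map_mul, Subgroup.mem_center_iff.1 hc d]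
  exact ⟨(QuotientGroup.quotientMulEquivOfEq hk.symm).trans
    (QuotientGroup.quotientKerEquivOfSurjective S.barC barC_surj)⟩

/-! ### Conjugates of the involution among the lifts -/

/-- A conjugate of `z` in `E ∩ E_t` off the line of `t`. -/
theorem Twin.exists_conj_off_line {g : G} (h : Twin S (S.conj g)) :
    ∃ x ∈ S.meet (S.conj g), S.pr x ∉ h.frame.L ∧ IsConj S.z x := by
  obtain ⟨B, hB, hBmem⟩ := h.exists_pentad
  obtain ⟨a, e, heB, he1, haeB, b, hbB, habB⟩ := hB.exists_meet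
  obtain ⟨k, hk, hka⟩ := exists_bar (S := S) a
  have hkH := S.C_le_H hk
  obtain ⟨ce, hce, hceb⟩ := (bar_lifts_iff h e).1 ((hBmem e).1 heB)
  obtain ⟨cb, hcb, hcbb⟩ := (bar_lifts_iff h b).1 ((hBmem b).1 hbB)
  obtain ⟨d, hd, hdb⟩ := (bar_lifts_iff h _).1 ((hBmem _).1 haeB)
  have hu : k * ce * k⁻¹ ∈ lifts h := by
    refine lifts_bar_eq h (mul_mem (mul_mem hk hce.1) (inv_mem hk)) ?_ ⟨d, hd, ?_⟩
    · rw [show k * ce * k⁻¹ * (k * ce * k⁻¹) = k * (ce * ce) * k⁻¹ by group]
      exact S.conj_mem hkH (lifts_sq h hce)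
    · rw [hdb, bar_conj hk hce.1, hka, hceb]
  set F := h.frame with hF
  have hlk := lin_of_C hk
  have hik := isIso_cj (S := S) hkH
  have ht1E : k * (S.conj g).z * k⁻¹ ∈ S.E := S.conj_mem hkH h.mem
  have ht1v : S.pr (k * (S.conj g).z * k⁻¹) = S.cj k F.t := (S.cj_pr hkH h.mem).symm
  have hnot : S.cj k F.t ∉ F.L := by
    intro hin
    have hLk : ∀ y ∈ F.L, S.cj k y ∈ F.L := by
      intro y hy
      rcases span_pair_eq hy with rfl | rfl | rfl | rfl
      · rw [map_zero]; exact zero_mem _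
      · exact hin
      · rw [hlk]; exact S.space.stable_line _ _ hin
      · rw [map_add, hlk]; exact add_mem hin (S.space.stable_line _ _ hin)
    have hLk' : ∀ y ∈ F.L, ∃ y' ∈ F.L, S.cj k y' = y := fun y hy => by
      obtain ⟨y', hy'⟩ := Finite.surjective_of_injective
        (f := fun y : F.L => (⟨_, hLk y y.2⟩ : F.L))
        (fun u w e => Subtype.ext ((S.cj k).injective (congrArg Subtype.val e))) ⟨y, hy⟩
      exact ⟨y', y'.2, congrArg Subtype.val hy'⟩
    have hDk : ∀ y ∈ F.D, (S.cj k).symm y ∈ F.D := by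
      intro y hy
      refine S.space.mem_orth'.2 fun w hw => ?_
      rw [← hik.B, LinearEquiv.apply_symm_apply]
      exact S.space.mem_orth'.1 hy _ (hLk w hw)
    set b' := k * cb * k⁻¹ with hb'
    have hb'C : b' ∈ S.C := mul_mem (mul_mem hk hcb.1) (inv_mem hk)
    have hb'H := S.C_le_H hb'C
    have hcjb : ∀ v, S.cj b' v = S.cj k (S.cj cb ((S.cj k).symm v)) := fun v => by
      rw [hb', S.cj_mul (mul_mem hkH (S.C_le_H hcb.1)) (inv_mem hkH),
        S.cj_mul hkH (S.C_le_H hcb.1), S.cj_inv_eq_symm]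
    have hb'L : ∀ y ∈ F.L, S.cj b' y = y := fun y hy => by
      obtain ⟨y', hy', rfl⟩ := hLk' y hy
      rw [hcjb, LinearEquiv.symm_apply_apply, F.fix_L hcb.2 hy']
    have hb'D : ∀ y ∈ F.D, S.cj b' y + y ∈ F.L := fun y hy => by
      have h1 := hLk _ (F.move_D hcb.2 (hDk y hy))
      rw [nMap_apply, map_add, ← hcjb, LinearEquiv.apply_symm_apply] at h1
      exact h1
    have hLD : F.L ≤ F.D := F.L_le_M.trans F.M_le_D
    have hcomm : ∀ c ∈ lifts h, S.bar b' * S.bar c = S.bar c * S.bar b' := by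
      intro c hc
      have hcH := S.C_le_H hc.1
      set w := (c * b')⁻¹ * (b' * c) with hw
      have hwC : w ∈ S.C := mul_mem (inv_mem (mul_mem hc.1 hb'C)) (mul_mem hb'C hc.1)
      have hwH := S.C_le_H hwC
      have hfix : ∀ y ∈ F.D, S.cj w y = y := by
        intro y hy
        have hbc : S.cj (b' * c) y = S.cj (c * b') y := by
          rw [S.cj_mul hb'H hcH, S.cj_mul hcH hb'H]
          have l1 : S.cj c y + y ∈ F.L := F.move_D hc.2 hy
          have l2 := hb'D y hy
          have e1 : S.cj c y = y + (S.cj c y + y) := by rw [add_comm (S.cj c y), v_add_cancel]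
          have e2 : S.cj b' y = y + (S.cj b' y + y) := by rw [add_comm (S.cj b' y), v_add_cancel]
          conv_lhs => rw [e1, map_add, hb'L _ l1]
          conv_rhs => rw [e2, map_add, F.fix_L hc.2 l2]
          abel
        rw [hw, S.cj_mul (inv_mem (mul_mem hcH hb'H)) (mul_mem hb'H hcH), hbc, S.cj_inv]
      have hr := (isIso_cj hwH).range_le_orth (W := F.D) hfix
      rw [Space.Frame.D, S.space.orth_orth] at hr
      have hsq : w * w ∈ S.E := mem_E_of_cj (mul_mem hwH hwH) fun v => by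
        rw [S.cj_mul hwH hwH]
        have l1 : S.cj w v + v ∈ F.L := hr ⟨v, rfl⟩
        have e1 : S.cj w v = v + (S.cj w v + v) := by rw [add_comm (S.cj w v), v_add_cancel]
        conv_lhs => rw [e1, map_add, hfix _ (hLD l1)]
        rw [add_comm (S.cj w v) (S.cj w v + v), add_comm (S.cj w v) v, add_assoc, v_add_self,
          add_zero]
      have hwE : w ∈ S.E := by
        by_contra hne
        have h4 := rk_eq_four hwH (inner_of_C hwC) hsq hne
        have h2 := Submodule.finrank_mono hr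
        rw [Space.Frame.L, S.space.finrank_line F.t0] at h2
        have : S.rk w ≤ 2 := h2
        omega
      have := bar_E hwE
      rw [hw, bar_mul (inv_mem (mul_mem hcH hb'H)) (mul_mem hb'H hcH)
        (inner_of_C (inv_mem (mul_mem hc.1 hb'C))) (inner_of_C (mul_mem hb'C hc.1)),
        bar_inv (mul_mem hc.1 hb'C), inv_mul_eq_one, bar_mul hcH hb'H (inner_of_C hc.1)
        (inner_of_C hb'C), bar_mul hb'H hcH (inner_of_C hb'C) (inner_of_C hc.1)] at this
      exact this.symm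
    set x := S.bar b' with hx
    have hxB : x ∉ B := by
      rw [hx, hb', bar_conj hk hcb.1, hka, hcbb]
      exact habB
    have hx2 : x * x = 1 := by
      rw [hx, ← bar_mul hb'H hb'H (inner_of_C hb'C) (inner_of_C hb'C)]
      refine bar_E ?_
      rw [hb', show k * cb * k⁻¹ * (k * cb * k⁻¹) = k * (cb * cb) * k⁻¹ by group]
      exact S.conj_mem hkH (lifts_sq h hcb)
    have hxc : ∀ y ∈ B, x * y = y * x := fun y hy => by
      obtain ⟨c, hc, rfl⟩ := (bar_lifts_iff h y).1 ((hBmem y).1 hy)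
      exact hcomm c hc
    have hB2 : ∀ y ∈ B, ∀ w ∈ B, y * w = w * y := fun y hy w hw => by
      have hi : ∀ u ∈ B, u⁻¹ = u := fun u hu => inv_eq_of_mul_eq_one_right (hB.1 u hu)
      rw [← hi _ (mul_mem hy hw), mul_inv_rev, hi y hy, hi w hw]
    let B' : Subgroup M22g := Subgroup.closure ((B : Set M22g) ∪ {x})
    haveI : IsMulCommutative B' := Subgroup.isMulCommutative_closure fun u hu w hw => by
      rcases hu with hu | rfl <;> rcases hw with hw | rfl
      · exact hB2 u hu w hw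
      · exact (hxc u hu).symm
      · exact hxc w hw
      · rfl
    have hel : ∀ y ∈ B', y * y = 1 := by
      intro y hy
      induction hy using Subgroup.closure_induction with
      | mem y hy =>
        rcases hy with hy | rfl
        · exact hB.1 y hy
        · exact hx2
      | one => simp
      | mul y w hy hw ey ew =>
        have hyw : y * w = w * y := congrArg Subtype.val (mul_comm' (⟨y, hy⟩ : B') ⟨w, hw⟩)
        calc y * w * (y * w) = y * (w * y) * w := by group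
          _ = y * y * (w * w) := by rw [← hyw]; group
          _ = 1 := by rw [ey, ew, one_mul]
      | inv y hy e => rw [← mul_inv_rev, e, inv_one]
    have hlt : B < B' := lt_of_le_of_ne (fun y hy => Subgroup.subset_closure (Or.inl hy))
      fun e => hxB (e ▸ Subgroup.subset_closure (Or.inr rfl))
    have h16 := card_elementary_le hel
    rw [← hB.2.1] at h16
    exact hlt.ne (Subgroup.eq_of_le_of_card_ge hlt.le h16)
  have hce1 : S.cj ce ≠ 1 := fun e' => he1 (hceb ▸ bar_E (mem_E_of_cj (S.C_le_H hce.1)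
    fun v => LinearEquiv.congr_fun e' v))
  obtain ⟨y, hy⟩ := F.L_le_range hce.2 hce1 F.t_mem_L
  have hr : S.cj k F.t ∈ LinearMap.range (nMap (S.cj (k * ce * k⁻¹))) := by
    refine ⟨S.cj k y, ?_⟩
    rw [← hy, nMap_apply, nMap_apply, map_add,
      S.cj_mul (mul_mem hkH (S.C_le_H hce.1)) (inv_mem hkH), S.cj_inv,
      S.cj_mul hkH (S.C_le_H hce.1)]
  obtain ⟨l, hl, w, hw, hlw⟩ := Submodule.mem_sup.1 (F.range_le hu.2 hr)
  have hm : F.m (S.cj (k * ce * k⁻¹)) ∈ F.M := F.mm_mem hu.2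
  have hmL : F.m (S.cj (k * ce * k⁻¹)) ∉ F.L := by
    intro hh
    refine hnot (hlw ▸ add_mem hl ?_)
    exact Submodule.span_le.2 (by
      rintro z (rfl | rfl)
      exacts [hh, S.space.stable_line _ _ hh]) hw
  have key : ∀ i : ℕ, S.cj (S.p ^ i) w = F.m (S.cj (k * ce * k⁻¹)) →
      ∃ x ∈ S.meet (S.conj g), S.pr x ∉ F.L ∧ IsConj S.z x := by
    intro i hi
    have hx : S.pr (S.p ^ i * (k * (S.conj g).z * k⁻¹) * (S.p ^ i)⁻¹) =
        S.cj (S.p ^ i) l + F.m (S.cj (k * ce * k⁻¹)) := by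
      rw [← S.cj_pr (S.p_pow_mem i) ht1E, ht1v, ← hlw, map_add, hi]
    have hpl : S.cj (S.p ^ i) l ∈ F.L := by
      clear hx hi
      induction i with
      | zero => rw [pow_zero, cj_one]; exact hl
      | succ i ih =>
        rw [pow_succ', S.cj_mul S.p_mem_H (S.p_pow_mem i), ← space_om]
        exact S.space.stable_line _ _ ih
    refine ⟨_, h.mem_meet_of_pr (S.conj_mem (S.p_pow_mem i) ht1E) ?_, ?_,
      isConj_iff.2 ⟨S.p ^ i * (k * g), ?_⟩⟩
    · rw [hx]
      exact add_mem (F.L_le_M hpl) hm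
    · rw [hx]
      intro hh
      exact hmL (by simpa [← add_assoc, v_add_self] using add_mem hpl hh)
    · rw [conj_z]; group
  rcases span_pair_eq hw with e' | e' | e' | e'
  · rw [e', add_zero] at hlw
    exact absurd (hlw ▸ hl) hnot
  · exact key 0 (by rw [pow_zero, cj_one, e'])
  · refine key 2 ?_
    rw [e', pow_two, S.cj_mul S.p_mem_H S.p_mem_H, ← space_om, ← space_om, S.space.om_cube]
  · refine key 1 ?_
    rw [e', pow_one, ← space_om, map_add, S.space.om_om, v_add_cancel]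

/-- Nontrivial modulo `⟨z⟩`. -/
def Proper (S : Shape G) (c : G) : Prop := c ≠ 1 ∧ c ≠ S.z

theorem Carrier.exists_lift_conj {g : G} {h : Twin S (S.conj g)} {a : G} (K : Carrier h a) :
    ∃ c ∈ lifts h, S.Proper c ∧ IsConj S.z c := by
  obtain ⟨x, hx, hxL, hxz⟩ := h.exists_conj_off_line
  set T := S.conj g with hT
  obtain ⟨c, hc, hcv⟩ := K.surj (mem_vecs_of_mem hx hx.1)
  have hL1 : Submodule.span (ZMod 2) ({S.pr T.z} : Set S.Vec) ≤ h.frame.L :=
    (Submodule.span_singleton_le_iff_mem _ _).2 h.frame.t_mem_L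
  have hne : ∀ u, S.pr u ∈ h.frame.L → S.pr x + S.pr u ∉ h.frame.L := fun u hu hh => hxL (by
    have := add_mem hh hu
    rwa [add_assoc, v_add_self, add_zero] at this)
  refine ⟨c, hc, ⟨?_, ?_⟩, ?_⟩
  · rintro rfl
    rw [mul_one, inv_mul_cancel, pr_one, zero_add] at hcv
    exact hxL (hL1 hcv)
  · rintro rfl
    have h2 := hL1 (add_mem hcv K.z_image)
    rw [show S.pr (a⁻¹ * S.z * a) + S.pr x + (S.pr (a⁻¹ * S.z * a) + S.space.om (S.pr T.z)) =
      (S.pr (a⁻¹ * S.z * a) + S.pr (a⁻¹ * S.z * a)) + (S.pr x + S.space.om (S.pr T.z)) by abel,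
      v_add_self, zero_add] at h2
    refine hxL ?_
    have := add_mem h2 (S.space.stable_line _ _ h.frame.t_mem_L)
    rwa [Twin.frame_t, add_assoc, v_add_self, add_zero] at this
  · have hT1 : ∀ u ∈ S.meet T, S.pr u ∉ h.frame.L → IsConj S.z u →
        IsConj S.z (S.z * u) ∧ IsConj S.z (T.z * u) := by
      intro u hu huL huz
      constructor
      · obtain ⟨q, hq, hqs⟩ := S.sub.exists_not_commute (s := u)
          (fun e => huL (by rw [e, pr_one]; exact zero_mem _))
          (fun e => huL (by rw [e, pr_z]; exact zero_mem _))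
        exact huz.trans (isConj_iff.2 ⟨q, S.sub.conj_of_not_commute hq hu.1 hqs⟩)
      · obtain ⟨q, hq, hqs⟩ := T.sub.exists_not_commute (s := u)
          (fun e => huL (by rw [e, pr_one]; exact zero_mem _))
          (fun e => huL (by rw [e]; exact h.frame.t_mem_L))
        exact huz.trans (isConj_iff.2 ⟨q, T.sub.conj_of_not_commute hq hu.2 hqs⟩)
    have hr : IsConj c (a⁻¹ * c * a) := isConj_iff.2 ⟨a⁻¹, by group⟩
    refine IsConj.trans ?_ hr.symm
    have hrm := K.maps c hc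
    obtain ⟨hzx, htx⟩ := hT1 x hx hxL hxz
    rcases Space.span_singleton_cases hcv with e | e
    · rcases (pr_eq_iff hrm.1 hx.1).1 (v_eq_of_add_eq_zero e) with e | e <;> rw [e]
      · exact hxz
      · exact hzx
    · have e1 : S.pr (a⁻¹ * c * a) = S.pr (T.z * x) := by
        rw [pr_mul h.mem hx.1, ← e, add_assoc, v_add_self, add_zero]
      have htxm : T.z * x ∈ S.meet T := mul_mem h.t_mem_meet hx
      have htxL : S.pr (T.z * x) ∉ h.frame.L := by
        rw [pr_mul h.mem hx.1, add_comm]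
        exact hne _ h.frame.t_mem_L
      rcases (pr_eq_iff hrm.1 htxm.1).1 e1 with e | e <;> rw [e]
      · exact htx
      · exact (hT1 _ htxm htxL htx).1

theorem proper_mul_z {c : G} (hc : c ∈ S.H) (h : S.Proper c) : S.Proper (c * S.z) :=
  ⟨fun e => h.2 (by rw [mul_eq_one_iff_eq_inv, S.z_inv] at e; exact e),
    fun e => h.1 (mul_eq_right.1 e)⟩

/-- Three commuting conjugates of `z` in `C` whose product is trivial. -/
theorem exists_four [IsSimpleGroup G] (hG : ¬ IsMulCommutative G) (S : Shape G) :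
    ∃ c d : G, c ∈ S.C ∧ d ∈ S.C ∧ c * d = d * c ∧ c * c = 1 ∧ d * d = 1 ∧
      S.Proper c ∧ S.Proper d ∧ S.Proper (c * d) ∧
      IsConj S.z c ∧ IsConj S.z d ∧ IsConj S.z (c * d) := by
  obtain ⟨g, h, hn⟩ := exists_twin hG S
  obtain ⟨a, K⟩ := h.exists_carrier hn
  have hzC := z_mem_lifts h
  have hcjz : ∀ c ∈ lifts h, S.cj (c * S.z) = S.cj c := fun c hc => LinearEquiv.ext fun v => by
    rw [S.cj_mul (S.C_le_H hc.1) S.z_mem_H, S.cj_z]
  have hproper : ∀ c ∈ lifts h, S.Proper c ↔ S.cj c ≠ 1 := fun c hc => by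
    constructor
    · intro hp e
      rcases lifts_eq_of_cj h (one_mem _) hc ((LinearEquiv.ext S.cj_one : S.cj 1 = 1).trans e.symm)
        with r | r
      · exact hp.1 r
      · exact hp.2 (by rwa [one_mul] at r)
    · intro hne
      exact ⟨fun e => hne (e ▸ LinearEquiv.ext S.cj_one), fun e => hne (e ▸ LinearEquiv.ext S.cj_z)⟩
  have hconj : ∀ k ∈ mover h, ∀ c ∈ lifts h, S.cj (k * c * k⁻¹) = S.cj k * S.cj c * (S.cj k)⁻¹ :=
    fun k hk c hc => LinearEquiv.ext fun v => by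
      rw [S.cj_mul (mul_mem (S.C_le_H hk.1) (S.C_le_H hc.1)) (inv_mem (S.C_le_H hk.1)),
        S.cj_mul (S.C_le_H hk.1) (S.C_le_H hc.1)]
      rfl
  have hzk : ∀ k ∈ mover h, k * S.z * k⁻¹ = S.z := fun k hk =>
    mul_inv_eq_iff_eq_mul.2 (S.mem_C.1 hk.1).1
  have hpk : ∀ k ∈ mover h, ∀ c, S.Proper c → S.Proper (k * c * k⁻¹) := fun k hk c hc =>
    ⟨fun e => hc.1 (conj_eq_one_iff.1 e), fun e => hc.2 (by
      rw [← hzk k hk] at e
      exact mul_left_cancel (mul_right_cancel e))⟩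
  have hZk : ∀ k c : G, IsConj S.z c → IsConj S.z (k * c * k⁻¹) := fun k c hc =>
    hc.trans (isConj_iff.2 ⟨k, rfl⟩)
  have hall : ∀ v ∈ h.frame.A, v ≠ 1 → ∃ c ∈ lifts h, S.Proper c ∧ IsConj S.z c ∧ S.cj c = v := by
    intro v hv hv1
    refine mover_trans h {v | ∃ c ∈ lifts h, S.Proper c ∧ IsConj S.z c ∧ S.cj c = v} ?_ ?_ ?_ v hv hv1
    · obtain ⟨c, hc, hp, hz⟩ := K.exists_lift_conj
      exact ⟨_, c, hc, hp, hz, rfl⟩
    · rintro _ ⟨c, hc, hp, -, rfl⟩
      exact ⟨hc.2, (hproper c hc).1 hp⟩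
    · rintro _ ⟨k, hk, rfl⟩ _ ⟨c, hc, hp, hz, rfl⟩
      exact ⟨_, hk.2.2.2 c hc, hpk k hk c hp, hZk k c hz, hconj k hk c hc⟩
  have hevery : ∀ c ∈ lifts h, S.Proper c → IsConj S.z c ∨ IsConj S.z (c * S.z) := by
    intro c hc hp
    obtain ⟨d, hd, -, hdz, e⟩ := hall _ hc.2 ((hproper c hc).1 hp)
    rcases lifts_eq_of_cj h hc hd e.symm with r | r
    · exact Or.inl (r ▸ hdz)
    · exact Or.inr (r ▸ hdz)
  by_cases hboth : ∃ c ∈ lifts h, S.Proper c ∧ IsConj S.z c ∧ IsConj S.z (c * S.z)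
  · have hboth' : ∀ c ∈ lifts h, S.Proper c → IsConj S.z c := by
      intro c hc hp
      obtain ⟨d, hd, -, hd1, hd2, e⟩ := mover_trans h
        {v | ∃ c ∈ lifts h, S.Proper c ∧ IsConj S.z c ∧ IsConj S.z (c * S.z) ∧ S.cj c = v}
        (let ⟨c, hc, h1, h2, h3⟩ := hboth; ⟨_, c, hc, h1, h2, h3, rfl⟩)
        (by rintro _ ⟨c, hc, hp, -, -, rfl⟩; exact ⟨hc.2, (hproper c hc).1 hp⟩)
        (by
          rintro _ ⟨k, hk, rfl⟩ _ ⟨c, hc, hp, h1, h2, rfl⟩
          refine ⟨_, hk.2.2.2 c hc, hpk k hk c hp, hZk k c h1, ?_, hconj k hk c hc⟩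
          have e : k * c * k⁻¹ * S.z = k * (c * S.z) * k⁻¹ := by
            conv_lhs => rw [← hzk k hk]
            group
          rw [e]
          exact hZk k _ h2) _ hc.2 ((hproper c hc).1 hp)
      rcases lifts_eq_of_cj h hd hc e with r | r <;> rw [r]
      · exact hd1
      · exact hd2
    obtain ⟨v, hv, hv1⟩ := h.frame.exists_ne_one
    obtain ⟨c, hc, hcp, hcz, rfl⟩ := hall v hv hv1
    obtain ⟨w, hw, hwne⟩ : ∃ w ∈ lifts h, w ∉ ({1, S.z, c, c * S.z} : Set G) := by
      by_contra hcon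
      push Not at hcon
      have h1 := card_lifts h
      have h2 : Nat.card (lifts h) ≤ 4 := by
        refine le_trans (le_of_eq (Nat.card_coe_set_eq (lifts h : Set G))) ?_
        refine le_trans (Set.ncard_le_ncard (t := ({1, S.z, c, c * S.z} : Set G))
          (fun u hu => hcon u hu) (Set.toFinite _)) ?_
        refine le_trans (Set.ncard_insert_le _ _) ?_
        refine le_trans (Nat.add_le_add_right (Set.ncard_insert_le _ _) 1) ?_
        refine le_trans (Nat.add_le_add_right (Nat.add_le_add_right (Set.ncard_insert_le _ _) 1) 1) ?_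
        rw [Set.ncard_singleton]
      omega
    simp only [Set.mem_insert_iff, Set.mem_singleton_iff, not_or] at hwne
    obtain ⟨hw1, hw2, hw3, hw4⟩ := hwne
    have hwp : S.Proper w := ⟨hw1, hw2⟩
    have hcwp : S.Proper (c * w) := by
      refine ⟨fun e => hw3 ?_, fun e => hw4 ?_⟩
      · exact (mul_left_cancel ((lifts_mul_self h hn hc).trans e.symm)).symm
      · rw [← e, ← mul_assoc, lifts_mul_self h hn hc, one_mul]
    exact ⟨c, w, hc.1, hw.1, lifts_comm h hn hc hw, lifts_mul_self h hn hc, lifts_mul_self h hn hw,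
      hcp, hwp, hcwp, hcz, hboth' w hw hwp, hboth' _ (mul_mem hc hw) hcwp⟩
  push Not at hboth
  by_contra hcon
  refine K.no_complement
    { carrier := {c | c ∈ lifts h ∧ (c = 1 ∨ (S.Proper c ∧ ¬ IsConj S.z c))}
      one_mem' := ⟨one_mem _, Or.inl rfl⟩
      mul_mem' := ?_
      inv_mem' := ?_ } (fun c hc => hc.1) ?_ ?_ ?_
  · rintro c d ⟨hc, hc'⟩ ⟨hd, hd'⟩
    refine ⟨mul_mem hc hd, ?_⟩
    rcases hc' with rfl | ⟨hcp, hcn⟩
    · rw [one_mul]; exact hd'
    rcases hd' with rfl | ⟨hdp, hdn⟩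
    · rw [mul_one]; exact Or.inr ⟨hcp, hcn⟩
    by_cases hcd : c * d = 1
    · exact Or.inl hcd
    have hcz := (hevery c hc hcp).resolve_left hcn
    have hdz := (hevery d hd hdp).resolve_left hdn
    have hzc : c * S.z ∈ lifts h := mul_mem hc hzC
    have hzd : d * S.z ∈ lifts h := mul_mem hd hzC
    have hcd2 : c * d ≠ S.z := fun e => by
      have e' : d = c * S.z := by rw [← e, ← mul_assoc, lifts_mul_self h hn hc, one_mul]
      exact hdn (e' ▸ hcz)
    refine Or.inr ⟨⟨hcd, hcd2⟩, fun hz => hcon ?_⟩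
    have e : c * S.z * (d * S.z) = c * d := by
      calc c * S.z * (d * S.z) = c * (S.z * d) * S.z := by group
        _ = c * (d * S.z) * S.z := by rw [lifts_comm h hn hzC hd]
        _ = c * d * (S.z * S.z) := by group
        _ = c * d := by rw [S.z_mul_z, mul_one]
    exact ⟨c * S.z, d * S.z, hzc.1, hzd.1, lifts_comm h hn hzc hzd, lifts_mul_self h hn hzc,
      lifts_mul_self h hn hzd, proper_mul_z (S.C_le_H hc.1) hcp, proper_mul_z (S.C_le_H hd.1) hdp,
      e.symm ▸ ⟨hcd, hcd2⟩, hcz, hdz, e.symm ▸ hz⟩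
  · rintro c ⟨hc, hc'⟩
    rw [inv_eq_of_mul_eq_one_right (lifts_mul_self h hn hc)]
    exact ⟨hc, hc'⟩
  · rintro ⟨-, e | ⟨hp, -⟩⟩
    · exact S.sub.ne_one e
    · exact hp.2 rfl
  · intro c hc
    by_cases hp : S.Proper c
    · by_cases hz : IsConj S.z c
      · exact Or.inr ⟨mul_mem hc hzC, Or.inr ⟨proper_mul_z (S.C_le_H hc.1) hp,
          hboth c hc hp hz⟩⟩
      · exact Or.inl ⟨hc, Or.inr ⟨hp, hz⟩⟩
    · by_cases h1 : c = 1
      · exact Or.inl ⟨hc, Or.inl h1⟩
      · have h2 : c = S.z := by by_contra h2; exact hp ⟨h1, h2⟩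
        exact Or.inr ⟨mul_mem hc hzC, Or.inl (by rw [h2, S.z_mul_z])⟩
  · rintro k hk c ⟨hc, hc'⟩
    refine ⟨hk.2.2.2 c hc, ?_⟩
    rcases hc' with rfl | ⟨hp, hnz⟩
    · exact Or.inl (by rw [mul_one, mul_inv_cancel])
    · exact Or.inr ⟨hpk k hk c hp, fun e => hnz (e.trans (isConj_iff.2 ⟨k⁻¹, by group⟩))⟩

end Shape

end CfsgLib.JFourType
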