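import Cfsg.Agent.JFourType.BridgeCore
import Cfsg.Agent.LargeExtraspecial.Simplicity
import Cfsg.Prelude.Def_MonsterType
import Cfsg.Agent.Components.FStar

/-!
# Centralizer hypotheses that give the Janko-four type

* `isOfJankoFourTypeAt_of_map`: the general bridge.
* `isOfJankoFourTypeAt_of_section`: from `Q ≤ N ≤ M` as in S1646 and S1670.
* `isOfJankoFourTypeAt_of_nonsplit`: from the hypotheses of S5585.
-/

set_option autoImplicit false
set_option linter.style.haveILetI false
set_option linter.unusedSectionVars false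

namespace CfsgLib.JFourBridge

open Cfsg CfsgLib.LargeExtraspecial CfsgLib.JFourType
open scoped commutatorElement

variable {G : Type*} [Group G] [Finite G] {z : G}

theorem isPGroup_pCore_two (H : Type*) [Group H] : IsPGroup 2 (Cfsg.pCore 2 H) :=
  haveI : Fact (Nat.Prime 2) := ⟨Nat.prime_two⟩
  LargeExtraspecial.isPGroup_pCore 2 H

/-- The bridge. -/
theorem isOfJankoFourTypeAt_of_map (hz : orderOf z = 2)
    (Q : Subgroup (Subgroup.centralizer ({z} : Set G))) [Q.Normal]
    (hQ : Cfsg.IsExtraspecial 2 Q) (hcard : Nat.card Q = 2 ^ 13)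
    (h2c : Subgroup.centralizer (Q : Set (Subgroup.centralizer ({z} : Set G))) ≤ Q)
    (π : ↥(Subgroup.centralizer ({z} : Set G)) →* MulAut M22g) (hsurj : Function.Surjective π)
    (hle : Q ≤ π.ker) (hker : Nat.card π.ker = 3 * 2 ^ 13)
    (hperf : (Inn M22g).comap π ≤ ⁅(Inn M22g).comap π, (Inn M22g).comap π⁆ ⊔ Q) :
    Cfsg.IsOfJankoFourTypeAt z := by
  haveI : Fact (Nat.Prime 2) := ⟨Nat.prime_two⟩
  haveI : Fact (Nat.Prime 3) := ⟨Nat.prime_three⟩
  let H : Subgroup G := Subgroup.centralizer ({z} : Set G)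
  let z' : H := ⟨z, Subgroup.mem_centralizer_singleton_iff.2 rfl⟩
  have hz'c : ∀ k : H, k * z' = z' * k := fun k =>
    Subtype.ext (Subgroup.mem_centralizer_singleton_iff.1 k.2)
  have hz'Q : z' ∈ Q := h2c (Subgroup.mem_centralizer_iff.2 fun x _ => hz'c x)
  have hz'2 : orderOf z' = 2 := by rw [Subgroup.orderOf_mk, hz]
  have hcenter : (Subgroup.center Q).map Q.subtype = Subgroup.zpowers z' := by
    have hmem : z' ∈ (Subgroup.center Q).map Q.subtype :=
      ⟨⟨z', hz'Q⟩, Subgroup.mem_center_iff.2 fun x => Subtype.ext (hz'c x), rfl⟩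
    refine (Subgroup.eq_of_le_of_card_ge (Subgroup.zpowers_le.2 hmem) ?_).symm
    rw [Subgroup.card_map_of_injective Q.subtype_injective, hQ.2, Nat.card_zpowers, hz'2]
  have hsub : IsZSub Q z' := by
    refine ⟨hQ, le_antisymm (fun c hc => ?_) ?_, ?_, hcenter, hz'2⟩
    · exact ⟨⟨c, h2c hc⟩, Subgroup.mem_center_iff.2 fun x =>
        Subtype.ext (Subgroup.mem_centralizer_iff.1 hc x x.2), rfl⟩
    · rintro _ ⟨c, hc, rfl⟩
      exact Subgroup.mem_centralizer_iff.2 fun x hx =>
        congrArg Subtype.val (Subgroup.mem_center_iff.1 hc ⟨x, hx⟩)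
    · rw [Subgroup.normalizer_eq_top]
      exact le_top
  let D : Pre H :=
    { z := z', E := Q, sub := hsub, z_central := hz'c, card_E := hcard, π := π, π_surj := hsurj
      E_le := hle, card_ker := hker, perf := hperf }
  obtain ⟨p, hp, hp3, hspan⟩ := Pre.exists_p D
  let T : Pre.Three D := ⟨p, hp, hp3, hspan⟩
  haveI : D.E.Normal := ‹Q.Normal›
  have hE : Cfsg.twoCoreOfCentralizer z = Q.map H.subtype := by
    show (Cfsg.pCore 2 H).map H.subtype = _
    congr 1
    refine le_antisymm (Pre.le_E_of_normal (D := D) (LargeExtraspecial.pCore_normal' 2 H)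
      (isPGroup_pCore_two H)) ?_
    exact le_sSup ⟨‹Q.Normal›, hQ.1.1⟩
  have hzQ : ∀ x : H, (x : G) ∈ Q.map H.subtype ↔ x ∈ Q := fun x =>
    Subgroup.mem_map_iff_mem H.subtype_injective
  refine ⟨(Subgroup.zpowers p).map H.subtype, hz, ?_, ?_, ?_, ⟨π.ker.map H.subtype, ?_, ?_, ?_, ?_,
    ?_, ?_⟩, ?_, ?_, ?_, ?_⟩
  · rw [hE]
    exact LargeExtraspecial.isExtraspecial_of_mulEquiv
      (Q.equivMapOfInjective H.subtype H.subtype_injective) hQ
  · rw [hE, Subgroup.card_map_of_injective H.subtype_injective, hcard]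
  · rw [hE]
    rintro x ⟨hxH, hxc⟩
    refine (hzQ ⟨x, hxH⟩).2 (h2c (Subgroup.mem_centralizer_iff.2 fun q hq => Subtype.ext ?_))
    exact Subgroup.mem_centralizer_iff.1 hxc q ((hzQ q).2 hq)
  · rw [hE]
    exact Subgroup.map_mono hle
  · exact Subgroup.map_subtype_le _
  · intro h hh
    refine Subgroup.mem_normalizer_iff.2 fun x => ⟨?_, fun hx => ?_⟩
    · rintro ⟨y, hy, rfl⟩
      exact ⟨⟨h, hh⟩ * y * ⟨h, hh⟩⁻¹, π.normal_ker.conj_mem _ hy _, rfl⟩
    · obtain ⟨y, hy, e⟩ := hx
      refine ⟨⟨h, hh⟩⁻¹ * y * ⟨h, hh⟩, ?_, ?_⟩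
      · simpa using π.normal_ker.conj_mem _ hy (⟨h, hh⟩⁻¹)
      · show h⁻¹ * (y : G) * h = x
        rw [show (y : G) = h * x * h⁻¹ from e]
        group
  · rw [hE, Subgroup.card_map_of_injective H.subtype_injective,
      Subgroup.card_map_of_injective H.subtype_injective, hker, hcard]
  · have e : (π.ker.map H.subtype).subgroupOf H = π.ker :=
      Subgroup.comap_map_eq_self_of_injective H.subtype_injective _
    have hn : ((π.ker.map H.subtype).subgroupOf H).Normal := e.symm ▸ π.normal_ker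
    exact ⟨hn, ⟨(QuotientGroup.quotientMulEquivOfEq e).trans
      (QuotientGroup.quotientKerEquivOfSurjective π hsurj)⟩⟩
  · exact Subgroup.map_mono (Subgroup.zpowers_le.2 hp)
  · rw [Subgroup.card_map_of_injective H.subtype_injective, Nat.card_zpowers, hp3]
  · rw [hE]
    refine le_antisymm ?_ (Subgroup.zpowers_le.2 ⟨(hzQ z').2 hz'Q, ?_⟩)
    · rintro _ ⟨⟨e, he, rfl⟩, hec⟩
      have hcomm : p * e = e * p :=
        Subtype.ext (Subgroup.mem_centralizer_iff.1 hec _ ⟨p, Subgroup.mem_zpowers p, rfl⟩)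
      rcases T.fixp he hcomm with e1 | e1
      · rw [e1]; exact one_mem _
      · rw [e1]; exact Subgroup.mem_zpowers z
    · refine Subgroup.mem_centralizer_iff.2 ?_
      rintro _ ⟨y, _, rfl⟩
      exact congrArg Subtype.val (hz'c y)
  · obtain ⟨g, hg⟩ := T.exists_invert
    intro heq
    have hmem : (g : G) ∈ H ⊓ Subgroup.normalizer (((Subgroup.zpowers p).map H.subtype :
        Subgroup G) : Set G) := by
      refine ⟨g.2, Subgroup.mem_normalizer_fintype ?_⟩
      rintro _ ⟨y, hy, rfl⟩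
      obtain ⟨k, rfl⟩ := Subgroup.mem_zpowers_iff.1 hy
      refine ⟨g * p ^ k * g⁻¹, ?_, rfl⟩
      rw [← conj_zpow, hg]
      exact zpow_mem (inv_mem (Subgroup.mem_zpowers p)) k
    rw [heq] at hmem
    have hc : g * p = p * g := Subtype.ext
      (Subgroup.mem_centralizer_iff.1 hmem.2 _ ⟨p, Subgroup.mem_zpowers p, rfl⟩).symm
    rw [mul_inv_eq_iff_eq_mul.2 hc] at hg
    exact T.mk_inv_ne (by rw [← QuotientGroup.mk_inv, ← hg])
  · rw [Subgroup.map_le_iff_le_comap, Subgroup.zpowers_le]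
    refine Subgroup.mem_comap.2 ?_
    have h := Subgroup.mem_map_of_mem H.subtype T.derived
    rw [Subgroup.map_commutator] at h
    refine Subgroup.commutator_mono ?_ ?_ h <;>
    · rintro _ ⟨c, hc, rfl⟩
      refine ⟨c.2, Subgroup.mem_centralizer_iff.2 ?_⟩
      rintro _ ⟨y, hy, rfl⟩
      obtain ⟨k, rfl⟩ := Subgroup.mem_zpowers_iff.1 hy
      exact congrArg Subtype.val
        ((show Commute c p from Subgroup.mem_centralizer_singleton_iff.1 hc).zpow_right k).eq.symm

/-- From the hypotheses of S1646 and S1670. -/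
theorem isOfJankoFourTypeAt_of_section (ht : orderOf z = 2)
    (Q N M : Subgroup (Subgroup.centralizer ({z} : Set G))) [Q.Normal] [N.Normal] [M.Normal]
    (hQN : Q ≤ N) (hNM : N ≤ M) (hM : M.index = 2) (hQ : Cfsg.IsExtraspecial 2 Q)
    (hcard : Nat.card Q = 2 ^ 13) (hN : Nat.card N = 3 * Nat.card Q)
    (hperf : M ≤ ⁅M, M⁆ ⊔ Q)
    (h2c : Subgroup.centralizer (Q : Set (Subgroup.centralizer ({z} : Set G))) ≤ Q)
    (hout : ∀ c : Subgroup.centralizer ({z} : Set G), (∀ m ∈ M, c * m * c⁻¹ * m⁻¹ ∈ N) → c ∈ M)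
    (hM22 : Cfsg.Spor.IsoM22 (M ⧸ N.subgroupOf M)) :
    Cfsg.IsOfJankoFourTypeAt z := by
  let H : Subgroup G := Subgroup.centralizer ({z} : Set G)
  obtain ⟨e⟩ := hM22
  haveI := simple_M22g
  let ρ : H →* H ⧸ N := QuotientGroup.mk' N
  let M' : Subgroup (H ⧸ N) := M.map ρ
  haveI : M'.Normal := Subgroup.Normal.map inferInstance ρ (QuotientGroup.mk'_surjective N)
  -- `M / N` as a subgroup of the quotient
  let f : ↥M →* ↥M' := (ρ.comp M.subtype).codRestrict M' fun m => Subgroup.mem_map_of_mem ρ m.2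
  have hf : Function.Surjective f := by
    rintro ⟨_, m, hm, rfl⟩
    exact ⟨⟨m, hm⟩, rfl⟩
  have hfker : f.ker = N.subgroupOf M := by
    ext m
    rw [MonoidHom.mem_ker, Subgroup.mem_subgroupOf, ← QuotientGroup.eq_one_iff]
    exact ⟨fun h => congrArg Subtype.val h, fun h => Subtype.ext h⟩
  let ε : ↥M' ≃* M22g :=
    ((QuotientGroup.quotientKerEquivOfSurjective f hf).symm.trans
      (QuotientGroup.quotientMulEquivOfEq hfker)).trans e
  let π : H →* MulAut M22g :=
    (MulAut.congr ε).toMonoidHom.comp ((MulAut.conjNormal (H := M')).comp ρ)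
  have hπapply : ∀ (h : H) (a : M22g),
      π h a = ε (MulAut.conjNormal (ρ h) (ε.symm a)) := fun h a => rfl
  have hπM : ∀ m : H, (hm : m ∈ M) → π m = MulAut.conj (ε (f ⟨m, hm⟩)) := by
    intro m hm
    ext a : 1
    rw [hπapply, MulAut.conj_apply]
    have e1 : MulAut.conjNormal (ρ m) (ε.symm a) = f ⟨m, hm⟩ * ε.symm a * (f ⟨m, hm⟩)⁻¹ :=
      Subtype.ext (MulAut.conjNormal_apply _ _)
    rw [e1, map_mul, map_mul, map_inv, MulEquiv.apply_symm_apply]
  have hkerM : π.ker ≤ M := by
    intro c hc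
    refine hout c fun m hm => ?_
    have h := DFunLike.congr_fun (MonoidHom.mem_ker.1 hc) (ε (f ⟨m, hm⟩))
    rw [hπapply, MulEquiv.symm_apply_apply, MulAut.one_apply] at h
    have h' := congrArg Subtype.val (ε.injective h)
    rw [MulAut.conjNormal_apply] at h'
    have h'' : ρ (c * m * c⁻¹ * m⁻¹) = 1 := by
      rw [map_mul, map_mul, map_mul, map_inv, map_inv]
      exact mul_inv_eq_one.2 h'
    exact (QuotientGroup.eq_one_iff _).1 h''
  have hker : π.ker = N := by
    ext c
    refine ⟨fun hc => ?_, fun hc => ?_⟩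
    · have h := hπM c (hkerM hc)
      rw [MonoidHom.mem_ker.1 hc] at h
      have h1 := conj_injective_M22g ((map_one _).trans h)
      have h2 : f ⟨c, hkerM hc⟩ = 1 := ε.injective (by rw [← h1, map_one])
      exact Subgroup.mem_subgroupOf.1 (hfker ▸ MonoidHom.mem_ker.2 h2)
    · rw [MonoidHom.mem_ker, hπM c (hNM hc)]
      have h2 : f ⟨c, hNM hc⟩ = 1 := MonoidHom.mem_ker.1 (hfker.symm ▸ Subgroup.mem_subgroupOf.2 hc)
      rw [h2, map_one, map_one]
  have hInn : ∀ a : M22g, ∃ m ∈ M, π m = MulAut.conj a := by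
    intro a
    obtain ⟨⟨m, hm⟩, hfm⟩ := hf (ε.symm a)
    exact ⟨m, hm, by rw [hπM m hm, hfm, MulEquiv.apply_symm_apply]⟩
  have hpre : ∀ c : H, π c ∈ Inn M22g → c ∈ M := by
    rintro c ⟨a, ha⟩
    obtain ⟨m, hm, hma⟩ := hInn a
    have : m⁻¹ * c ∈ π.ker := by rw [MonoidHom.mem_ker, map_mul, map_inv, hma, ha, inv_mul_cancel]
    have := mul_mem hm (hkerM this)
    rwa [mul_inv_cancel_left] at this
  have hsurj : Function.Surjective π := by
    intro σ
    by_cases hσ : σ ∈ Inn M22g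
    · obtain ⟨a, rfl⟩ := hσ
      obtain ⟨m, -, hma⟩ := hInn a
      exact ⟨m, hma⟩
    · obtain ⟨c, hc⟩ : ∃ c, c ∉ M := by
        by_contra hcon
        push Not at hcon
        rw [(Subgroup.eq_top_iff' M).2 hcon, Subgroup.index_top] at hM
        norm_num at hM
      have h2 : σ * (π c)⁻¹ ∈ Inn M22g := by
        rw [Subgroup.mul_mem_iff_of_index_two inn_index, inv_mem_iff]
        exact iff_of_false hσ fun h => hc (hpre c h)
      obtain ⟨a, ha⟩ := h2
      obtain ⟨m, -, hma⟩ := hInn a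
      exact ⟨m * c, by rw [map_mul, hma, ha, inv_mul_cancel_right]⟩
  have hcomap : (Inn M22g).comap π = M :=
    le_antisymm (fun c hc => hpre c hc) fun m hm => ⟨_, (hπM m hm).symm⟩
  refine isOfJankoFourTypeAt_of_map ht Q hQ hcard h2c π hsurj (hker.symm ▸ hQN) ?_ ?_
  · rw [hker, hN, hcard]
  · rw [hcomap]
    exact hperf

/-- From the hypotheses of S5585. -/
theorem isOfJankoFourTypeAt_of_nonsplit
    (Q N : Subgroup ↥(Subgroup.centralizer ({z} : Set G))) [Q.Normal] [N.Normal]
    (hS : Cfsg.IsExtraspecialCentralizerSetting z Q 6) (hQN : Q ≤ N)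
    (hN3 : Nat.card ↥N = 3 * Nat.card ↥Q)
    (hns : ∀ K : Subgroup ↥(Subgroup.centralizer ({z} : Set G)), K ⊓ N = Q → K ⊔ N = ⊤ → False)
    (hAut : Nonempty (↥(Subgroup.centralizer ({z} : Set G)) ⧸ N ≃* MulAut ↥Cfsg.Spor.M22)) :
    Cfsg.IsOfJankoFourTypeAt z := by
  obtain ⟨hz, hF, hQ, hcard', -⟩ := hS
  have hcard : Nat.card Q = 2 ^ 13 := hcard'
  let H : Subgroup G := Subgroup.centralizer ({z} : Set G)
  obtain ⟨φ⟩ := hAut
  haveI := simple_M22g
  let π : H →* MulAut M22g := φ.toMonoidHom.comp (QuotientGroup.mk' N)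
  have hker : π.ker = N := by
    ext c
    rw [MonoidHom.mem_ker]
    show φ _ = 1 ↔ _
    rw [map_eq_one_iff _ φ.injective]
    exact QuotientGroup.eq_one_iff c
  have hsurj : Function.Surjective π := φ.surjective.comp (QuotientGroup.mk'_surjective N)
  have h2c : Subgroup.centralizer (Q : Set H) ≤ Q := by
    rw [← hF]
    exact CfsgLib.Components.centralizer_generalizedFitting_le_self
  refine isOfJankoFourTypeAt_of_map hz Q hQ hcard h2c π hsurj (hker.symm ▸ hQN)
    (by rw [hker, hN3, hcard]) ?_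
  set M := (Inn M22g).comap π with hMdef
  haveI : M.Normal := (inferInstance : (Inn M22g).Normal).comap π
  haveI : ⁅M, M⁆.Normal := Subgroup.commutator_normal M M
  set D := ⁅M, M⁆ ⊔ Q with hD
  haveI : D.Normal := Subgroup.sup_normal _ _
  have hQM : Q ≤ M := fun x hx => by
    show π x ∈ Inn M22g
    rw [MonoidHom.mem_ker.1 (hker.symm ▸ hQN hx : x ∈ π.ker)]
    exact one_mem _
  have hNM : N ≤ M := fun x hx => by
    show π x ∈ Inn M22g
    rw [MonoidHom.mem_ker.1 (hker.symm ▸ hx : x ∈ π.ker)]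
    exact one_mem _
  have hDM : D ≤ M := sup_le (Subgroup.commutator_le.2 fun a ha b hb => by
    rw [commutatorElement_def]
    exact mul_mem (mul_mem (mul_mem ha hb) (inv_mem ha)) (inv_mem hb)) hQM
  have hMD : M ≤ D ⊔ N := by
    intro m hm
    obtain ⟨a, ha⟩ : π m ∈ Inn M22g := hm
    have hI : (Inn M22g) ≤ ⁅M, M⁆.map π := by
      rw [Subgroup.map_commutator, Subgroup.map_comap_eq_self_of_surjective hsurj]
      have e : (commutator M22g).map (MulAut.conj : M22g →* MulAut M22g) = Inn M22g := by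
        have htop : commutator M22g = ⊤ := by
          refine ((inferInstance : (commutator M22g).Normal).eq_bot_or_eq_top).resolve_left fun h => ?_
          refine not_comm_M22g fun x y => ?_
          have h1 : ⁅x, y⁆ ∈ commutator M22g :=
            Subgroup.commutator_mem_commutator (Subgroup.mem_top x) (Subgroup.mem_top y)
          rw [h, Subgroup.mem_bot] at h1
          exact commutatorElement_eq_one_iff_mul_comm.1 h1
        rw [htop, ← MonoidHom.range_eq_map]
      rw [commutator_def, Subgroup.map_commutator, ← MonoidHom.range_eq_map] at e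
      exact e.ge
    obtain ⟨d, hd, hdm⟩ := hI ⟨a, ha⟩
    have h1 : d⁻¹ * m ∈ N := by
      rw [← hker, MonoidHom.mem_ker, map_mul, map_inv, hdm, inv_mul_cancel]
    have := mul_mem (Subgroup.mem_sup_left (Subgroup.mem_sup_left hd) : d ∈ D ⊔ N)
      (Subgroup.mem_sup_right h1)
    rwa [mul_inv_cancel_left] at this
  -- `D ⊓ N` is `Q` or `N`
  have hQle : Q ≤ D ⊓ N := le_inf le_sup_right hQN
  obtain ⟨k, hk⟩ := Subgroup.card_dvd_of_le hQle
  have hd := Subgroup.card_dvd_of_le (inf_le_right : D ⊓ N ≤ N)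
  rw [hN3, hk, mul_comm 3] at hd
  rcases (Nat.dvd_prime Nat.prime_three).1 (Nat.dvd_of_mul_dvd_mul_left Nat.card_pos hd) with h | h
  · exfalso
    have hDN : D ⊓ N = Q :=
      (Subgroup.eq_of_le_of_card_ge hQle (by rw [hk, h, mul_one])).symm
    obtain ⟨c, hc⟩ : ∃ c, c ∉ M := by
      by_contra hcon
      push Not at hcon
      have : M = ⊤ := (Subgroup.eq_top_iff' M).2 hcon
      have h2 : M.index = 2 := by
        rw [hMdef, Subgroup.index_comap, MonoidHom.range_eq_top.2 hsurj, Subgroup.relIndex_top_right,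
          inn_index]
      rw [this, Subgroup.index_top] at h2
      norm_num at h2
    have hM2 : M.index = 2 := by
      rw [hMdef, Subgroup.index_comap, MonoidHom.range_eq_top.2 hsurj, Subgroup.relIndex_top_right,
        inn_index]
    -- an element outside `M` with `c * c ∈ D`
    obtain ⟨x, hx, hxx⟩ : ∃ x, x ∉ M ∧ x * x ∈ D := by
      refine ⟨c ^ 3, fun h3 => hc ?_, ?_⟩
      · have e : c = c ^ 3 * (c ^ 2)⁻¹ := by rw [show (3 : ℕ) = 2 + 1 from rfl, pow_succ']; group
        rw [e]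
        exact mul_mem h3 (inv_mem (M.sq_mem_of_index_two hM2 c))
      · obtain ⟨d, hd', n, hn, hdn⟩ :=
          Subgroup.mem_sup_of_normal_right.1 (hMD (M.sq_mem_of_index_two hM2 c))
        have hn3 : n ^ 3 ∈ Q := by
          have hidx : (Q.subgroupOf N).index = 3 := by
            have h1 := (Q.subgroupOf N).index_mul_card
            rw [Nat.card_congr (Subgroup.subgroupOfEquivOfLe hQN).toEquiv, hN3] at h1
            exact Nat.eq_of_mul_eq_mul_right Nat.card_pos h1
          have h2 := Subgroup.pow_index_mem (Q.subgroupOf N) (⟨n, hn⟩ : N)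
          rw [hidx] at h2
          exact Subgroup.mem_subgroupOf.1 h2
        rw [show c ^ 3 * c ^ 3 = (c ^ 2) ^ 3 by rw [← pow_add, ← pow_mul], ← hdn,
          ← QuotientGroup.eq_one_iff (N := D), QuotientGroup.mk_pow, QuotientGroup.mk_mul,
          (QuotientGroup.eq_one_iff d).2 hd', one_mul, ← QuotientGroup.mk_pow,
          QuotientGroup.eq_one_iff]
        exact Subgroup.mem_sup_right hn3
    refine hns (D ⊔ Subgroup.zpowers x) (le_antisymm ?_ (le_inf ?_ hQN)) ?_
    · rintro y ⟨hy, hyN⟩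
      obtain ⟨d, hd', w, hw, rfl⟩ := Subgroup.mem_sup_of_normal_left.1 hy
      obtain ⟨j, rfl⟩ := (isOfFinOrder_of_finite x).mem_powers_iff_mem_zpowers.2 hw
      rw [← hDN]
      refine ⟨mul_mem hd' ?_, hyN⟩
      have hjM : x ^ j ∈ M := by
        have := mul_mem (inv_mem (hDM hd')) (hNM hyN)
        rwa [inv_mul_cancel_left] at this
      rcases Nat.even_or_odd' j with ⟨i, rfl | rfl⟩
      · show x ^ (2 * i) ∈ D
        rw [pow_mul, pow_two]
        exact pow_mem hxx i
      · exfalso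
        rw [pow_succ, pow_mul] at hjM
        exact hx ((Subgroup.mul_mem_cancel_left M (pow_mem (M.sq_mem_of_index_two hM2 x) i)).1 hjM)
    · exact le_trans le_sup_right le_sup_left
    · refine eq_top_iff.2 fun y _ => ?_
      have hle : M ≤ D ⊔ Subgroup.zpowers x ⊔ N := hMD.trans (sup_le_sup_right le_sup_left _)
      by_cases hy : y ∈ M
      · exact hle hy
      · have h' : x⁻¹ * y ∈ M :=
          (Subgroup.mul_mem_iff_of_index_two hM2).2 (iff_of_false (fun h => hx (inv_mem_iff.1 h)) hy)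
        have hxmem : x ∈ D ⊔ Subgroup.zpowers x ⊔ N :=
          Subgroup.mem_sup_left (Subgroup.mem_sup_right (Subgroup.mem_zpowers x))
        have := mul_mem hxmem (hle h')
        rwa [mul_inv_cancel_left] at this
  · have hND : N ≤ D :=
      (Subgroup.eq_of_le_of_card_ge (inf_le_right : D ⊓ N ≤ N) (by rw [hk, h, hN3, mul_comm])) ▸
        inf_le_left
    exact hMD.trans (sup_le le_rfl hND)

end CfsgLib.JFourBridge
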