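import Cfsg.Agent.JFourType.M22Sylow

/-!
# Pentad subgroups and elements of order three of `M22`
-/

set_option autoImplicit false
set_option maxRecDepth 10000

namespace CfsgLib.JFourType

open Cfsg CfsgLib.Mathieu CfsgLib.Schur.Pc CfsgLib.SporadicOut CfsgLib.TwoBlockMathieu

/-- An elementary abelian subgroup of order sixteen centralised by an outer automorphism. -/
def IsPentad (A : Subgroup M22g) : Prop :=
  (∀ a ∈ A, a * a = 1) ∧ Nat.card A = 16 ∧ ∃ σ : MulAut M22g, σ ∉ Inn M22g ∧ ∀ a ∈ A, σ a = a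

theorem conj_outer_fix {A : Subgroup M22g} {σ : MulAut M22g} (hfix : ∀ a ∈ A, σ a = a)
    (hσ : σ ∉ Inn M22g) (c : M22g) :
    ∃ τ : MulAut M22g, τ ∉ Inn M22g ∧ ∀ b ∈ A.map (MulAut.conj c).toMonoidHom, τ b = b := by
  refine ⟨MulAut.conj c * σ * (MulAut.conj c)⁻¹, fun h => hσ ?_, ?_⟩
  · have e : σ = (MulAut.conj c)⁻¹ * (MulAut.conj c * σ * (MulAut.conj c)⁻¹) * MulAut.conj c := by group
    rw [e]
    exact mul_mem (mul_mem (inv_mem ⟨c, rfl⟩) h) ⟨c, rfl⟩
  · rintro _ ⟨a, ha, rfl⟩
    show (MulAut.conj c * σ * (MulAut.conj c : MulAut M22g)⁻¹) (MulAut.conj c a) = MulAut.conj c a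
    rw [← MulAut.mul_apply, inv_mul_cancel_right, MulAut.mul_apply, hfix a ha]

/-- A pentad subgroup is conjugate to the standard one. -/
theorem IsPentad.exists_conj {A : Subgroup M22g} (h : IsPentad A) :
    ∃ c : M22g, A.map (MulAut.conj c).toMonoidHom = pentadGroup := by
  obtain ⟨h2, hc, σ, hσ, hfix⟩ := h
  obtain ⟨c, hH | hP⟩ := exists_conj_eq h2 hc
  · obtain ⟨τ, hτ, hτfix⟩ := conj_outer_fix hfix hσ c
    obtain ⟨a, ha, hne⟩ := hexad_no_outer hτ
    exact absurd (hτfix a (hH.symm ▸ ha)) hne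
  · exact ⟨c, hP⟩

/-- The checks on the pentad subgroup. -/
def pentadOK : Bool :=
  Data.oddGens.all (fun g => inM22 g && powId g 15 &&
    Data.pentad.all fun t => Data.pentad.any fun s => prodEq g t s g) &&
  Data.orb.all inM22 &&
  (List.range 14).all (fun k => Nat.blt (Data.orbEdges.getD k (0, 0)).1 (k + 1) &&
    Nat.blt (Data.orbEdges.getD k (0, 0)).2 2 &&
    prodEq (Data.oddGens.getD (Data.orbEdges.getD k (0, 0)).2 0)
      (Data.orb.getD (Data.orbEdges.getD k (0, 0)).1 0) (Data.orb.getD (k + 1) 0)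
      (Data.oddGens.getD (Data.orbEdges.getD k (0, 0)).2 0)) &&
  Data.pentad.all (fun t => powId t 1 || Data.orb.contains t) &&
  inM22 Data.mover && Data.pentad.contains Data.invOne && !powId Data.invOne 1 &&
  Data.pentad.any (fun s => prodEq Data.mover Data.invOne s Data.mover) &&
  Data.pentad.any (fun t => Data.pentad.all fun s => !prodEq Data.mover t s Data.mover)

theorem pentadOK_holds : pentadOK = true := by decide +kernel

theorem orb_length : Data.orb.length = 15 := by decide +kernel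

theorem oddGens_length : Data.oddGens.length = 2 := by decide +kernel

/-- The elements of odd order normalising a pentad subgroup are transitive on its involutions. -/
theorem IsPentad.trans {A : Subgroup M22g} (h : IsPentad A) (T : Set M22g) (hne : T.Nonempty)
    (hTA : ∀ a ∈ T, a ∈ A ∧ a ≠ 1)
    (hinv : ∀ g : M22g, Odd (orderOf g) → (∀ a ∈ A, g * a * g⁻¹ ∈ A) → ∀ a ∈ T, g * a * g⁻¹ ∈ T)
    {a : M22g} (ha : a ∈ A) (h1 : a ≠ 1) : a ∈ T := by
  obtain ⟨c, hc⟩ := h.exists_conj
  set U : Set M22g := (fun x => c * x * c⁻¹) '' T with hU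
  have memP : ∀ x, x ∈ pentadGroup ↔ c⁻¹ * x * c ∈ A := fun x => by
    rw [← hc]
    constructor
    · rintro ⟨y, hy, rfl⟩
      simpa [mul_assoc] using hy
    · exact fun hx => ⟨_, hx, by simp [mul_assoc]⟩
  have memU : ∀ x, x ∈ U ↔ c⁻¹ * x * c ∈ T := fun x => by
    constructor
    · rintro ⟨y, hy, rfl⟩
      simpa [mul_assoc] using hy
    · exact fun hx => ⟨_, hx, by simp [mul_assoc]⟩
  have hUinv : ∀ g : M22g, Odd (orderOf g) → (∀ x ∈ pentadGroup, g * x * g⁻¹ ∈ pentadGroup) →
      ∀ x ∈ U, g * x * g⁻¹ ∈ U := by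
    intro g hg hn x hx
    rw [memU] at hx ⊢
    have := hinv (c⁻¹ * g * c) (by
        have e : c⁻¹ * g * c = MulAut.conj c⁻¹ g := by simp
        rwa [e, MulEquiv.orderOf_eq])
      (fun y hy => by
        have hy' : c * y * c⁻¹ ∈ pentadGroup := (memP _).2 (by simpa [mul_assoc] using hy)
        simpa [mul_assoc] using (memP _).1 (hn _ hy')) _ hx
    simpa [mul_assoc] using this
  have hk := pentadOK_holds
  simp only [pentadOK, Bool.and_eq_true, List.all_eq_true, List.any_eq_true, List.mem_range,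
    Nat.blt_eq, Bool.or_eq_true, List.contains_iff_mem] at hk
  obtain ⟨⟨⟨⟨⟨⟨⟨⟨hgen, horb⟩, hedge⟩, hcov⟩, -⟩, -⟩, -⟩, -⟩, -⟩ := hk
  obtain ⟨u, ru⟩ := exists_elt (horb _ (mem_of_getD (i := 0) (by rw [orb_length]; norm_num)))
  have hroot : ∀ k, k < 15 → ∀ x : M22g, Rep enc x.1 (Data.orb.getD k 0) → (x ∈ U ↔ u ∈ U) := by
    intro k
    induction k using Nat.strong_induction_on with
    | _ k ih =>
      intro hk15 x r
      cases k with
      | zero => rw [eq_of_rep r ru]
      | succ k =>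
        obtain ⟨⟨hlt, hj⟩, e⟩ := hedge k (by omega)
        obtain ⟨⟨hin, hp⟩, hn⟩ := hgen _ (mem_of_getD (oddGens_length ▸ hj))
        obtain ⟨g, rg⟩ := exists_elt hin
        obtain ⟨y, ry⟩ := exists_elt (horb _ (mem_of_getD
          (i := (Data.orbEdges.getD k (0, 0)).1) (by rw [orb_length]; omega)))
        have e' := (mul_eq_mul_iff rg ry r rg).1 e
        have hg15 : g ^ 15 = 1 := (pow_eq_one_iff_powId rg 15).1 hp
        have hdvd : orderOf g ∣ 15 := orderOf_dvd_of_pow_eq_one hg15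
        have hodd : Odd (orderOf g) := Odd.of_dvd_nat (by decide) hdvd
        have hnorm : ∀ z ∈ pentadGroup, g * z * g⁻¹ ∈ pentadGroup := by
          rintro z ⟨t, ht, rz⟩
          obtain ⟨s, hs, es⟩ := hn t ht
          have hinP : Data.pentad.all inM22 = true := by decide +kernel
          obtain ⟨w, rw'⟩ := exists_elt (List.all_eq_true.1 hinP s hs)
          rw [(mul_eq_mul_iff rg rz rw' rg).1 es, mul_inv_cancel_right]
          exact ⟨s, hs, rw'⟩
        have hnorm' : ∀ z ∈ pentadGroup, g⁻¹ * z * g⁻¹⁻¹ ∈ pentadGroup := by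
          intro z hz
          have hpow : ∀ n : ℕ, ∀ z ∈ pentadGroup, g ^ n * z * (g ^ n)⁻¹ ∈ pentadGroup := by
            intro n
            induction n with
            | zero => simp
            | succ n ihn =>
              intro z hz
              have := hnorm _ (ihn z hz)
              rw [pow_succ']
              simpa [mul_assoc] using this
          have e14 : g⁻¹ = g ^ 14 := inv_eq_of_mul_eq_one_right (by rw [← pow_succ']; exact hg15)
          rw [e14]
          exact hpow 14 z hz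
        have ex : x = g * y * g⁻¹ := by rw [e', mul_inv_cancel_right]
        rw [← ih _ hlt (by omega) y ry, ex]
        constructor
        · intro hx
          have := hUinv g⁻¹ (by rwa [orderOf_inv]) hnorm' _ hx
          simpa [mul_assoc] using this
        · exact hUinv g hodd hnorm y
  have hall : ∀ x ∈ pentadGroup, x ≠ 1 → (x ∈ U ↔ u ∈ U) := by
    rintro x ⟨t, ht, r⟩ hx1
    rcases hcov t ht with e | e
    · exact absurd ((eq_one_iff_powId r).1 e) hx1
    · obtain ⟨k, hk', rfl⟩ := getD_of_mem e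
      exact hroot k (orb_length ▸ hk') x r
  obtain ⟨a0, ha0⟩ := hne
  have hu : u ∈ U := by
    refine (hall (c * a0 * c⁻¹) ((memP _).2 ?_) ?_).1 ⟨a0, ha0, rfl⟩
    · simpa [mul_assoc] using (hTA a0 ha0).1
    · exact fun e => (hTA a0 ha0).2 (conj_eq_one_iff.1 e)
  have := (hall (c * a * c⁻¹) ((memP _).2 (by simpa [mul_assoc] using ha))
    (fun e => h1 (conj_eq_one_iff.1 e))).2 hu
  simpa [mul_assoc] using (memU _).1 this

/-- A pentad subgroup shares an involution with another of its conjugates. -/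
theorem IsPentad.exists_meet {A : Subgroup M22g} (h : IsPentad A) :
    ∃ g a : M22g, a ∈ A ∧ a ≠ 1 ∧ g * a * g⁻¹ ∈ A ∧ ∃ b ∈ A, g * b * g⁻¹ ∉ A := by
  obtain ⟨c, hc⟩ := h.exists_conj
  have hk := pentadOK_holds
  simp only [pentadOK, Bool.and_eq_true, List.all_eq_true, List.any_eq_true,
    List.contains_iff_mem, Bool.not_eq_true'] at hk
  obtain ⟨⟨⟨⟨⟨-, hmv⟩, hone⟩, hne⟩, ⟨s, hs, es⟩⟩, ⟨t, ht, et⟩⟩ := hk
  have hin : ∀ x ∈ Data.pentad, inM22 x = true := List.all_eq_true.1 (by decide +kernel)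
  obtain ⟨m, rm⟩ := exists_elt hmv
  obtain ⟨u, ru⟩ := exists_elt (hin _ hone)
  obtain ⟨v, rv⟩ := exists_elt (hin _ ht)
  obtain ⟨w, rw'⟩ := exists_elt (hin _ hs)
  have back : ∀ x, x ∈ pentadGroup → c⁻¹ * x * c ∈ A := fun x hx => by
    rw [← hc] at hx
    obtain ⟨y, hy, rfl⟩ := hx
    simpa [mul_assoc] using hy
  refine ⟨c⁻¹ * m * c, c⁻¹ * u * c, back u ⟨_, hone, ru⟩, fun e => ?_, ?_, c⁻¹ * v * c,
    back v ⟨_, ht, rv⟩, fun e => ?_⟩
  · have hu1 : u = 1 := by
      have : c * (c⁻¹ * u * c) * c⁻¹ = c * 1 * c⁻¹ := by rw [e]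
      simpa [mul_assoc] using this
    rw [(eq_one_iff_powId ru).2 hu1] at hne
    exact absurd hne (by simp)
  · have := back w ⟨s, hs, rw'⟩
    have e : m * u * m⁻¹ = w := by rw [(mul_eq_mul_iff rm ru rw' rm).1 es, mul_inv_cancel_right]
    rw [← e] at this
    simpa [mul_assoc] using this
  · have hmem : m * v * m⁻¹ ∈ pentadGroup := by
      rw [← hc]
      exact ⟨_, e, by simp [mul_assoc]⟩
    obtain ⟨s', hs', r'⟩ := hmem
    have := et s' hs'
    rw [(mul_eq_mul_iff rm rv r' rm).2 (by group)] at this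
    exact absurd this (by simp)

/-! ### Elements of order three -/

open TwoBlockMathieu.M22Data in
theorem cls_orders : ∀ i : Fin cert.cls.length,
    (cert.cls[i].r = 3 → i.1 = 0) ∧ cert.cls[i].r ≠ 9 := by decide +kernel

open TwoBlockMathieu.M22Data in
/-- The elements of order three form one class. -/
theorem isConj_three {x y : M22g} (hx : orderOf x = 3) (hy : orderOf y = 3) : IsConj x y := by
  have key : ∀ g : M22g, orderOf g = 3 → ∃ i, i.1 = 0 ∧ IsConj g (elt valid i) := fun g hg => by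
    obtain ⟨i, hi⟩ := exists_isConj_elt valid (g := g) (by rw [hg]; decide)
      (fun e => by simp [e] at hg)
    refine ⟨i, (cls_orders i).1 ?_, hi⟩
    rw [← orderOf_elt valid i, ← hg]
    obtain ⟨c, hc⟩ := isConj_iff.1 hi
    rw [← hc]
    exact MulEquiv.orderOf_eq (MulAut.conj c) g
  obtain ⟨i, hi, h1⟩ := key x hx
  obtain ⟨j, hj, h2⟩ := key y hy
  obtain rfl : i = j := Fin.ext (hi.trans hj.symm)
  exact h1.trans h2.symm

open TwoBlockMathieu.M22Data in
/-- An element of odd order commuting with one of order three has cube one. -/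
theorem cube_of_commute {x g : M22g} (hx : orderOf x = 3) (hodd : Odd (orderOf g))
    (hc : g * x = x * g) : g ^ 3 = 1 := by
  obtain ⟨i, hi⟩ := exists_isConj_elt valid (g := x) (by rw [hx]; decide)
    (fun e => by simp [e] at hx)
  obtain ⟨c, hc'⟩ := isConj_iff.1 hi
  have hr : cert.cls[i].r = 3 := by
    rw [← orderOf_elt valid i, ← hc']
    exact (MulEquiv.orderOf_eq (MulAut.conj c) x).trans hx
  have hi0 := (cls_orders i).1 hr
  obtain ⟨t, ht, r⟩ := centralizer_tables valid i (g := c * g * c⁻¹) (by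
    rw [Subgroup.mem_centralizer_singleton_iff, ← hc']
    simp only [mul_assoc, inv_mul_cancel_left]
    rw [← mul_assoc g x, hc, mul_assoc])
  have hall : ∀ t ∈ rep0.L, powId t 6 = true := List.all_eq_true.1 (by decide +kernel)
  have he : cert.cls[i] = rep0 := by
    obtain ⟨k, hk⟩ := i
    obtain rfl : k = 0 := hi0
    rfl
  rw [he] at ht
  have h6 : (c * g * c⁻¹) ^ 6 = 1 := (pow_eq_one_iff_powId r 6).1 (hall t ht)
  rw [conj_pow, conj_eq_one_iff] at h6
  have h6' := orderOf_dvd_of_pow_eq_one h6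
  refine orderOf_dvd_iff_pow_eq_one.1 ?_
  exact (Nat.Coprime.dvd_of_dvd_mul_left (hodd.coprime_two_right) (show orderOf g ∣ 2 * 3 from h6'))

open TwoBlockMathieu.M22Data in
/-- No element has order nine. -/
theorem orderOf_ne_nine (g : M22g) : orderOf g ≠ 9 := fun hg => by
  obtain ⟨i, hi⟩ := exists_isConj_elt valid (g := g) (by rw [hg]; decide) (fun e => by simp [e] at hg)
  refine (cls_orders i).2 ?_
  obtain ⟨c, hc⟩ := isConj_iff.1 hi
  rw [← orderOf_elt valid i, ← hc]
  exact (MulEquiv.orderOf_eq (MulAut.conj c) g).trans hg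

/-- The checks on the Sylow 3-subgroup. -/
def threeOK : Bool :=
  let T := M22Data.three.map EltCert.t
  closedOK T && T.all (fun t => normT t == t) && T.all (fun t => powId t 3) &&
    T.all (fun a => T.all fun b => prodEq a b b a)

theorem threeOK_holds : threeOK = true := by decide +kernel

theorem three_closed : closedOK (M22Data.three.map EltCert.t) = true := by
  have h := threeOK_holds
  simp only [threeOK, Bool.and_eq_true] at h
  exact h.1.1.1

/-- The standard Sylow 3-subgroup. -/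
def threeSylow : Subgroup M22g := listGroup (M22Data.three.map EltCert.t) three_closed

theorem card_threeSylow : Nat.card threeSylow = 9 :=
  (card_inList (L := M22Data.three.map EltCert.t) (by decide +kernel) (by decide +kernel)
    (by decide +kernel)).trans (by decide +kernel)

theorem threeSylow_elementary {a : M22g} (ha : a ∈ threeSylow) :
    a ^ 3 = 1 ∧ ∀ b ∈ threeSylow, a * b = b * a := by
  obtain ⟨t, ht, r⟩ := ha
  have h := threeOK_holds
  simp only [threeOK, Bool.and_eq_true, List.all_eq_true] at h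
  refine ⟨(pow_eq_one_iff_powId r 3).1 (h.1.2 t ht), ?_⟩
  rintro b ⟨s, hs, r'⟩
  exact (mul_eq_mul_iff r r' r' r).1 (h.2 t ht s hs)

end CfsgLib.JFourType
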