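import Cfsg.Agent.JFourType.Space

/-!
# Bounds on groups of isometries moving few vectors, and the frame of a vector pair
-/

set_option autoImplicit false

namespace CfsgLib.JFourType

open Module

variable {V : Type*} [AddCommGroup V] [Module (ZMod 2) V]

namespace Space

variable (S : Space V)

theorem finrank_map_le_of_le [Finite V] {W : Submodule (ZMod 2) V} {d : V}
    (h : W ≤ Submodule.span (ZMod 2) ({d} : Set V)) : W ≤ S.line d := fun x hx => by
  obtain ⟨a, rfl⟩ := Submodule.mem_span_singleton.1 (h hx)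
  exact Submodule.smul_mem _ a (S.self_mem_line d)

theorem finrank_line_le [Finite V] (d : V) : finrank (ZMod 2) (S.line d) ≤ 2 := by
  rcases eq_or_ne d 0 with rfl | hd
  · have : S.line 0 = ⊥ := by simp [line]
    rw [this, finrank_bot]
    omega
  · exact (S.finrank_line hd).le

variable {S} {u v : V ≃ₗ[ZMod 2] V}

/-- An isometry moving a real form into one vector has rank at most two. -/
theorem rank_le_two_of_semi [Finite V] {u0 : V ≃ₗ[ZMod 2] V} (hs : S.Semi u0)
    (hu : ∀ x, u0 (u0 x) = x) (lv : S.Lin v) {d : V}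
    (h : ∀ y, u0 y = y → nMap v y ∈ S.line d) :
    finrank (ZMod 2) (LinearMap.range (nMap v)) ≤ 2 := by
  refine le_trans (Submodule.finrank_mono ?_) (S.finrank_line_le d)
  rintro _ ⟨x, rfl⟩
  obtain ⟨a, b, ha, hb, rfl⟩ := hs.decompose hu x
  rw [map_add, lv.n_om]
  exact add_mem (h a ha) (S.stable_line d _ (h b hb))

/-- Outer case: the linear part acts trivially. -/
theorem outer_trivial [Finite V] {u0 : V ≃ₗ[ZMod 2] V} {R H : Submodule (ZMod 2) V}
    (hu : S.IsIso u0) (hs : S.Semi u0) (hinv : ∀ x, u0 (u0 x) = x) (hR : PairRule S u0 R)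
    (hv : S.IsIso v) (lv : S.Lin v) (hfix : ∀ r ∈ R, v r = r) (hc : ∀ x, v (u0 x) = u0 (v x))
    (hH : H ≤ LinearMap.ker (nMap u0)) (hmove : ∀ y ∈ H, nMap v y ∈ R)
    (hcase : LinearMap.ker (nMap u0) ≤ H ∨ (R = ⊥ ∧ 5 ≤ finrank (ZMod 2) H))
    (hno : v ≠ LinearEquiv.refl (ZMod 2) V → 2 < finrank (ZMod 2) (LinearMap.range (nMap v))) :
    v = LinearEquiv.refl (ZMod 2) V := by
  by_contra hne
  have h2 := hno hne
  rcases hcase with hW | ⟨rfl, h5⟩
  · by_cases h1 : finrank (ZMod 2) R = 1
    · obtain ⟨d, hd, -⟩ := finrank_eq_one_iff'.1 h1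
      have hle : R ≤ Submodule.span (ZMod 2) ({(d : V)} : Set V) := fun r hr => by
        obtain ⟨d', hd', hd''⟩ := finrank_eq_one_iff'.1 h1
        obtain ⟨a, ha⟩ := hd'' ⟨r, hr⟩
        obtain ⟨b, hb⟩ := hd'' d
        rcases zmod2_cases b with rfl | rfl
        · exact absurd (by rw [← hb]; simp) hd
        · rw [← show a • (d : V) = r by
            rw [← hb]; simpa using congrArg Subtype.val ha]
          exact Submodule.smul_mem _ a (Submodule.mem_span_singleton_self _)
      have := rank_le_two_of_semi (v := v) (d := (d : V)) hs hinv lv fun y hy =>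
        S.finrank_map_le_of_le hle (hmove y (hW (mem_ker_nMap.2 hy)))
      omega
    · have hfixW : ∀ y, u0 y = y → v y = y := fun y hy => by
        refine hR.fix_range h1 hu hv hc hfix ?_ (hmove y (hW (mem_ker_nMap.2 hy)))
        rw [← hs.ker_eq_range hinv]
        exact mem_ker_nMap.2 hy
      exact hne (LinearEquiv.ext fun x => by
        obtain ⟨a, b, ha, hb, rfl⟩ := hs.decompose hinv x
        rw [map_add, lv, hfixW a ha, hfixW b hb]
        rfl)
  · have hW6 := hs.finrank_ker hinv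
    obtain ⟨d, hd⟩ : ∃ d, ∀ y, u0 y = y → nMap v y ∈ S.line d := by
      by_cases hle : LinearMap.ker (nMap u0) ≤ H
      · exact ⟨0, fun y hy => by
          rw [(Submodule.mem_bot _).1 (hmove y (hle (mem_ker_nMap.2 hy)))]
          exact Submodule.zero_mem _⟩
      obtain ⟨w, hw, hwH⟩ := SetLike.not_le_iff_exists.1 hle
      refine ⟨nMap v w, fun y hy => ?_⟩
      have htop : H ⊔ Submodule.span (ZMod 2) ({w} : Set V) = LinearMap.ker (nMap u0) := by
        refine Submodule.eq_of_le_of_finrank_le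
          (sup_le hH ((Submodule.span_singleton_le_iff_mem _ _).2 hw)) ?_
        have hlt : H < H ⊔ Submodule.span (ZMod 2) ({w} : Set V) :=
          lt_of_le_of_ne le_sup_left fun e => hwH (e ▸
            Submodule.mem_sup_right (Submodule.mem_span_singleton_self w))
        have := Submodule.finrank_lt_finrank_of_lt hlt
        omega
      have hy' : y ∈ H ⊔ Submodule.span (ZMod 2) ({w} : Set V) := htop ▸ mem_ker_nMap.2 hy
      obtain ⟨a, ha, b, hb, rfl⟩ := Submodule.mem_sup.1 hy'
      obtain ⟨c, rfl⟩ := Submodule.mem_span_singleton.1 hb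
      rw [map_add, (Submodule.mem_bot _).1 (hmove a ha), zero_add, map_smul]
      exact Submodule.smul_mem _ _ (S.self_mem_line _)
    have := rank_le_two_of_semi (v := v) hs hinv lv hd
    omega

/-- The inner case with a sign change: at most `2 ^ 6` isometries. -/
theorem card_le_sixty_four [Finite V] {u0 : V ≃ₗ[ZMod 2] V} {R H : Submodule (ZMod 2) V}
    (hu : S.IsIso u0) (hl : S.Lin u0) (hinv : ∀ x, u0 (u0 x) = x)
    (h4 : finrank (ZMod 2) (LinearMap.range (nMap u0)) = 4)
    (hrH : LinearMap.range (nMap u0) ≤ H) (hH : H ≤ LinearMap.ker (nMap u0))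
    (h7 : finrank (ZMod 2) H = 7) (hR1 : finrank (ZMod 2) R ≤ 1)
    (hdis : R ⊓ LinearMap.range (nMap u0) = ⊥) (K : Set (V ≃ₗ[ZMod 2] V))
    (hcl : ∀ v ∈ K, ∀ w ∈ K, v.trans w.symm ∈ K)
    (hiso : ∀ v ∈ K, S.IsIso v) (hls : ∀ v ∈ K, S.Lin v ∨ S.Semi v)
    (hc : ∀ v ∈ K, ∀ x, v (u0 x) = u0 (v x)) (hmove : ∀ v ∈ K, ∀ y ∈ H, nMap v y ∈ R)
    (hno : ∀ v ∈ K, S.Lin v → v ≠ LinearEquiv.refl (ZMod 2) V →
      2 < finrank (ZMod 2) (LinearMap.range (nMap v))) :
    Nat.card K ≤ 64 := by
  classical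
  set Im := LinearMap.range (nMap u0) with hIm
  set W := LinearMap.ker (nMap u0) with hWdef
  have hfixIm : ∀ v ∈ K, ∀ y ∈ Im, nMap v y = 0 := by
    intro v hv y hy
    have hmem : nMap v y ∈ R ⊓ Im := by
      refine ⟨hmove v hv y (hrH hy), ?_⟩
      obtain ⟨a, rfl⟩ := hy
      refine ⟨nMap v a, ?_⟩
      simp only [nMap_apply, map_add, hc v hv]
      abel
    rwa [hdis, Submodule.mem_bot] at hmem
  have hlin : ∀ v ∈ K, S.Lin v := fun v hv => by
    refine (hls v hv).resolve_right fun hs => ?_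
    obtain ⟨y, hy, hy0⟩ := Submodule.exists_mem_ne_zero_of_ne_bot
      (fun hb : Im = ⊥ => by rw [hb, finrank_bot] at h4; omega)
    exact hy0 (semi_not_fix hs (mem_ker_nMap.1 (hfixIm v hv y hy))
      (mem_ker_nMap.1 (hfixIm v hv _ (hl.stable_range y hy))))
  obtain ⟨e, he⟩ : ∃ e, e ∉ W := by
    by_contra hcon
    push Not at hcon
    have : Im = ⊥ := LinearMap.range_eq_bot.2 (LinearMap.ext fun x => hcon x)
    rw [this, finrank_bot] at h4
    omega
  have hW8 : finrank (ZMod 2) W = 8 := by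
    have := (nMap u0).finrank_range_add_finrank_ker
    rw [← hWdef, ← hIm, h4, S.dim] at this
    omega
  have hspan : ∀ v ∈ K, (∀ y ∈ H, nMap v y = 0) → ∀ y ∈ W, v y = y := by
    intro v hv hy0 y hy
    set H' := H ⊔ H.map S.om.toLinearMap
    have hst : S.Stable H' := by
      intro x hx
      obtain ⟨a, ha, b, hb, rfl⟩ := Submodule.mem_sup.1 hx
      obtain ⟨c, hc', rfl⟩ := hb
      rw [map_add]
      refine add_mem (Submodule.mem_sup_right ⟨a, ha, rfl⟩) ?_
      show S.om (S.om c) ∈ H'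
      rw [S.om_om]
      exact add_mem (Submodule.mem_sup_right ⟨c, hc', rfl⟩) (Submodule.mem_sup_left hc')
    have hle : H' ≤ W := sup_le hH (by
      rintro _ ⟨c, hc', rfl⟩
      exact hl.stable_ker c (hH hc'))
    have hH'8 : H' = W := by
      refine Submodule.eq_of_le_of_finrank_le hle ?_
      obtain ⟨k, hk⟩ := S.even_finrank hst
      have h1 : finrank (ZMod 2) H ≤ finrank (ZMod 2) H' := Submodule.finrank_mono le_sup_left
      omega
    rw [← hH'8] at hy
    obtain ⟨a, ha, b, hb, rfl⟩ := Submodule.mem_sup.1 hy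
    obtain ⟨c, hc', rfl⟩ := hb
    rw [map_add, mem_ker_nMap.1 (hy0 a ha)]
    show a + v (S.om c) = a + S.om c
    rw [hlin v hv, mem_ker_nMap.1 (hy0 c hc')]
  let ImH : Submodule (ZMod 2) H := Im.comap H.subtype
  have hq3 : finrank (ZMod 2) (H ⧸ ImH) = 3 := by
    have h1 := ImH.finrank_quotient_add_finrank
    have h2 : finrank (ZMod 2) ImH = 4 := by
      rw [← h4]
      exact (Submodule.comapSubtypeEquivOfLe hrH).finrank_eq
    rw [h7] at h1
    omega
  let f : K → (H ⧸ ImH →ₗ[ZMod 2] R) := fun v =>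
    ImH.liftQ (LinearMap.codRestrict R ((nMap v.1).comp H.subtype) fun y => hmove v.1 v.2 y.1 y.2)
      fun y hy => by
        rw [LinearMap.mem_ker]
        exact Subtype.ext (hfixIm v.1 v.2 _ hy)
  let rep : K → K := fun v => Classical.choose (show ∃ w, f w = f v from ⟨v, rfl⟩)
  have hrep : ∀ v, f (rep v) = f v := fun v =>
    Classical.choose_spec (show ∃ w, f w = f v from ⟨v, rfl⟩)
  have hrep' : ∀ v w, f v = f w → rep v = rep w := fun v w h => by
    simp only [rep]
    congr 1
    rw [h]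
  let Y : Submodule (ZMod 2) Im := LinearMap.ker ((S.B e).comp Im.subtype)
  have hY : finrank (ZMod 2) Y ≤ 3 := by
    have h1 := ((S.B e).comp Im.subtype).finrank_range_add_finrank_ker
    have h2 : LinearMap.range ((S.B e).comp Im.subtype) ≠ ⊥ := fun hb => he (by
      rw [hWdef, ← hu.orth_range hinv]
      exact S.mem_orth'.2 fun w hw =>
        LinearMap.congr_fun (LinearMap.range_eq_bot.1 hb) ⟨w, hw⟩)
    have h3 : finrank (ZMod 2) (LinearMap.range ((S.B e).comp Im.subtype)) ≠ 0 := fun h =>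
      h2 (Submodule.finrank_eq_zero.1 h)
    show finrank (ZMod 2) (LinearMap.ker _) ≤ 3
    omega
  let x : K → K := fun v => ⟨v.1.trans (rep v).1.symm, hcl _ v.2 _ (rep v).2⟩
  have hxW : ∀ v, ∀ y ∈ W, (x v).1 y = y := fun v => hspan _ (x v).2 fun y hy => by
    have h1 : nMap v.1 y = nMap (rep v).1 y :=
      (congrArg Subtype.val (LinearMap.congr_fun (hrep v) (Submodule.Quotient.mk ⟨y, hy⟩))).symm
    rw [nMap_apply, nMap_apply] at h1
    show (rep v).1.symm (v.1 y) + y = 0
    rw [add_right_cancel h1, LinearEquiv.symm_apply_apply, v_add_self]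
  have hxIm : ∀ v, nMap (x v).1 e ∈ Im := fun v => by
    have h1 := (hiso _ (x v).2).range_le_orth (W := W) (hxW v) ⟨e, rfl⟩
    rwa [hWdef, ← hu.orth_range hinv, S.orth_orth] at h1
  have hxY : ∀ v, (⟨_, hxIm v⟩ : Im) ∈ Y := fun v => by
    show S.B e (nMap (x v).1 e) = 0
    rw [S.symm]
    refine (hiso _ (x v).2).B_n_self (hlin _ (x v).2) (fun z => ?_) e
    have hz : nMap (x v).1 z ∈ Im := by
      have h1 := (hiso _ (x v).2).range_le_orth (W := W) (hxW v) ⟨z, rfl⟩
      rwa [hWdef, ← hu.orth_range hinv, S.orth_orth] at h1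
    conv_lhs => rw [apply_eq_add (x v).1 z, map_add, hxW v _ (range_le_ker hinv hz)]
    rw [apply_eq_add (x v).1 z, add_assoc, v_add_self, add_zero]
  have hinj : Function.Injective fun v : K => (f v, (⟨_, hxY v⟩ : Y)) := by
    intro v w h
    simp only [Prod.mk.injEq] at h
    have hr : rep v = rep w := hrep' v w h.1
    have he' : (x v).1 e = (x w).1 e := by
      rw [apply_eq_add, apply_eq_add (x w).1,
        show nMap (x v).1 e = nMap (x w).1 e from congrArg (fun z : Y => z.1.1) h.2]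
    have hzK : (x v).1.trans (x w).1.symm ∈ K := hcl _ (x v).2 _ (x w).2
    have hz : (x v).1.trans (x w).1.symm = LinearEquiv.refl (ZMod 2) V := by
      by_contra hne
      have hgt := hno _ hzK (hlin _ hzK) hne
      have hfix : ∀ y ∈ W ⊔ S.line e, (x v).1.trans (x w).1.symm y = y := by
        intro y hy
        obtain ⟨a, ha, b, hb, rfl⟩ := Submodule.mem_sup.1 hy
        rw [LinearEquiv.trans_apply, LinearEquiv.symm_apply_eq, map_add, map_add, hxW v a ha,
          hxW w a ha]
        congr 1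
        rcases span_pair_eq hb with h0 | h0 | h0 | h0 <;>
          simp [h0, map_add, hlin _ (x v).2 e, hlin _ (x w).2 e, he']
      have h1 := Submodule.finrank_mono ((hiso _ hzK).range_le_orth hfix)
      have hlt : W < W ⊔ S.line e :=
        lt_of_le_of_ne le_sup_left fun h => he (h ▸ Submodule.mem_sup_right (S.self_mem_line e))
      have h2 := Submodule.finrank_lt_finrank_of_lt hlt
      obtain ⟨k, hk⟩ := S.even_finrank (hl.stable_ker.sup (S.stable_line e))
      rw [← hWdef] at hk
      have h3 := S.finrank_orth (W ⊔ S.line e)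
      omega
    refine Subtype.ext (LinearEquiv.ext fun z => ?_)
    have h1 : (x w).1.symm ((x v).1 z) = z := LinearEquiv.congr_fun hz z
    rw [LinearEquiv.symm_apply_eq] at h1
    have h2 : (rep v).1.symm (v.1 z) = (rep w).1.symm (w.1 z) := h1
    rw [hr] at h2
    exact (rep w).1.symm.injective h2
  have : Finite (H ⧸ ImH →ₗ[ZMod 2] R) := Module.finite_of_finite (ZMod 2)
  refine (Nat.card_le_card_of_injective _ hinj).trans ?_
  rw [Nat.card_prod, Module.natCard_eq_pow_finrank (K := ZMod 2) (V := H ⧸ ImH →ₗ[ZMod 2] R),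
    Module.natCard_eq_pow_finrank (K := ZMod 2) (V := Y), Nat.card_zmod, Module.finrank_linearMap, hq3]
  calc 2 ^ (3 * finrank (ZMod 2) R) * 2 ^ finrank (ZMod 2) Y ≤ 2 ^ 3 * 2 ^ 3 :=
        Nat.mul_le_mul (Nat.pow_le_pow_right (by norm_num) (by omega))
          (Nat.pow_le_pow_right (by norm_num) hY)
    _ = 64 := by norm_num

end Space

end CfsgLib.JFourType
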