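import Mathlib

/-!
# A symplectic space over two elements with a fixed point free isometry of order three

The module `E/Z(E)` of the extraspecial group with the action of `P`: linear algebra on the
involutions commuting with, or inverting, that isometry.
-/

set_option autoImplicit false

namespace CfsgLib.JFourType

open Module

/-- The data: form, quadratic form and isometry of order three. -/
structure Space (V : Type*) [AddCommGroup V] [Module (ZMod 2) V] where
  B : LinearMap.BilinForm (ZMod 2) V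
  q : V → ZMod 2
  om : V ≃ₗ[ZMod 2] V
  symm : ∀ x y, B x y = B y x
  alt : ∀ x, B x x = 0
  nd : ∀ x, (∀ y, B x y = 0) → x = 0
  q_add : ∀ x y, q (x + y) = q x + q y + B x y
  dim : finrank (ZMod 2) V = 12
  om_sum : ∀ x, om (om x) + om x + x = 0
  om_B : ∀ x y, B (om x) (om y) = B x y
  om_q : ∀ x, q (om x) = q x

theorem zmod2_add_self (a : ZMod 2) : a + a = 0 := CharTwo.add_self_eq_zero a

theorem zmod2_cases : ∀ a : ZMod 2, a = 0 ∨ a = 1 := by decide

variable {V : Type*} [AddCommGroup V] [Module (ZMod 2) V]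

theorem v_add_self (x : V) : x + x = 0 := by
  have : (1 + 1 : ZMod 2) • x = 0 := by rw [show (1 + 1 : ZMod 2) = 0 from rfl, zero_smul]
  rwa [add_smul, one_smul] at this

theorem v_neg (x : V) : -x = x := (eq_neg_of_add_eq_zero_left (v_add_self x)).symm

theorem v_eq_of_add_eq_zero {x y : V} (h : x + y = 0) : x = y := by
  rw [eq_neg_of_add_eq_zero_left h, v_neg]

theorem v_add_cancel (x y : V) : x + (x + y) = y := by rw [← add_assoc, v_add_self, zero_add]

theorem span_pair_eq {x y : V} {z : V} (hz : z ∈ Submodule.span (ZMod 2) ({x, y} : Set V)) :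
    z = 0 ∨ z = x ∨ z = y ∨ z = x + y := by
  obtain ⟨a, b, rfl⟩ := Submodule.mem_span_pair.1 hz
  rcases zmod2_cases a with rfl | rfl <;> rcases zmod2_cases b with rfl | rfl <;> simp

/-- `u + 1`. -/
def nMap (u : V ≃ₗ[ZMod 2] V) : V →ₗ[ZMod 2] V := u.toLinearMap + LinearMap.id

@[simp] theorem nMap_apply (u : V ≃ₗ[ZMod 2] V) (x : V) : nMap u x = u x + x := rfl

theorem apply_eq_add (u : V ≃ₗ[ZMod 2] V) (x : V) : u x = x + nMap u x := by
  rw [nMap_apply, add_comm (u x) x, v_add_cancel]

theorem mem_ker_nMap {u : V ≃ₗ[ZMod 2] V} {x : V} : x ∈ LinearMap.ker (nMap u) ↔ u x = x := by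
  rw [LinearMap.mem_ker, nMap_apply]
  exact ⟨v_eq_of_add_eq_zero, fun h => by rw [h, v_add_self]⟩

namespace Space

variable (S : Space V)

theorem isRefl : S.B.IsRefl := fun x y h => by rwa [S.symm]

theorem nondeg : S.B.Nondegenerate :=
  ⟨fun x hx => S.nd x hx, fun y hy => S.nd y fun x => by rw [S.symm]; exact hy x⟩

/-- The orthogonal subspace. -/
def orth (W : Submodule (ZMod 2) V) : Submodule (ZMod 2) V := S.B.orthogonal W

theorem mem_orth {W : Submodule (ZMod 2) V} {x : V} : x ∈ S.orth W ↔ ∀ w ∈ W, S.B w x = 0 :=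
  Iff.rfl

theorem mem_orth' {W : Submodule (ZMod 2) V} {x : V} : x ∈ S.orth W ↔ ∀ w ∈ W, S.B x w = 0 := by
  rw [mem_orth]
  exact forall₂_congr fun w _ => by rw [S.symm]

theorem orth_anti {W W' : Submodule (ZMod 2) V} (h : W ≤ W') : S.orth W' ≤ S.orth W :=
  fun _ hx w hw => hx w (h hw)

theorem finrank_orth [Finite V] (W : Submodule (ZMod 2) V) :
    finrank (ZMod 2) (S.orth W) + finrank (ZMod 2) W = 12 := by
  have h := LinearMap.BilinForm.finrank_orthogonal S.nondeg W
  have h' := W.finrank_le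
  rw [S.dim] at h h'
  unfold orth
  omega

theorem orth_orth [Finite V] (W : Submodule (ZMod 2) V) : S.orth (S.orth W) = W :=
  LinearMap.BilinForm.orthogonal_orthogonal S.nondeg S.isRefl W

/-! ### The isometry of order three -/

theorem om_om (x : V) : S.om (S.om x) = S.om x + x := by
  refine v_eq_of_add_eq_zero ?_
  rw [← add_assoc]
  exact S.om_sum x

theorem om_cube (x : V) : S.om (S.om (S.om x)) = x := by
  rw [om_om, om_om, add_comm (S.om x) x, add_assoc, v_add_self, add_zero]

theorem om_ne {x : V} (hx : x ≠ 0) : S.om x ≠ x := fun h => hx (by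
  have := S.om_om x
  rw [h, h, v_add_self] at this
  exact this)

theorem B_om_left (x y : V) : S.B (S.om x) y = S.B x (S.om (S.om y)) := by
  conv_lhs => rw [← S.om_cube y]
  rw [S.om_B]

/-- Invariant under the isometry of order three. -/
def Stable (W : Submodule (ZMod 2) V) : Prop := ∀ x ∈ W, S.om x ∈ W

theorem Stable.inf {W W' : Submodule (ZMod 2) V} {S : Space V} (h : S.Stable W) (h' : S.Stable W') :
    S.Stable (W ⊓ W') := fun x hx => ⟨h x hx.1, h' x hx.2⟩

theorem Stable.sup {W W' : Submodule (ZMod 2) V} {S : Space V} (h : S.Stable W) (h' : S.Stable W') :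
    S.Stable (W ⊔ W') := fun x hx => by
  obtain ⟨a, ha, b, hb, rfl⟩ := Submodule.mem_sup.1 hx
  rw [map_add]
  exact Submodule.add_mem_sup (h a ha) (h' b hb)

theorem stable_orth {W : Submodule (ZMod 2) V} (h : S.Stable W) : S.Stable (S.orth W) :=
  fun x hx => S.mem_orth'.2 fun w hw => by
    rw [S.B_om_left]
    exact S.mem_orth'.1 hx _ (h _ (h _ hw))

/-- The line of `x`. -/
def line (x : V) : Submodule (ZMod 2) V := Submodule.span (ZMod 2) {x, S.om x}

theorem stable_line (x : V) : S.Stable (S.line x) := fun y hy => by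
  have e1 : S.om x ∈ S.line x := Submodule.subset_span (by simp)
  rcases span_pair_eq hy with rfl | rfl | rfl | rfl
  · simp
  · exact e1
  · rw [S.om_om]
    exact add_mem e1 (Submodule.subset_span (by simp))
  · rw [map_add, S.om_om, add_comm (S.om x) x, ← add_assoc, add_comm (S.om x) x, add_assoc,
      v_add_self, add_zero]
    exact Submodule.subset_span (by simp)

theorem self_mem_line (x : V) : x ∈ S.line x := Submodule.subset_span (by simp)

theorem line_le {x : V} {W : Submodule (ZMod 2) V} (hW : S.Stable W) (hx : x ∈ W) : S.line x ≤ W :=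
  Submodule.span_le.2 (by
    rintro y (rfl | rfl)
    exacts [hx, hW _ hx])

/-- An invariant subspace has even dimension. -/
theorem even_finrank [Finite V] {W : Submodule (ZMod 2) V} (h : S.Stable W) :
    Even (finrank (ZMod 2) W) := by
  classical
  have := Fintype.ofFinite W
  have : Fact (Nat.Prime 3) := ⟨Nat.prime_three⟩
  let σ : Equiv.Perm W :=
    { toFun := fun x => ⟨S.om x, h _ x.2⟩
      invFun := fun x => ⟨S.om (S.om x), h _ (h _ x.2)⟩
      left_inv := fun x => Subtype.ext (S.om_cube x)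
      right_inv := fun x => Subtype.ext (S.om_cube x) }
  have hσ : σ ^ 3 ^ 1 = 1 := Equiv.ext fun x => Subtype.ext (S.om_cube x)
  have hsupp : σ.supportᶜ = {0} := by
    ext x
    rw [Finset.mem_compl, Equiv.Perm.mem_support, not_not, Finset.mem_singleton]
    refine ⟨fun e => Subtype.ext ?_, fun e => by subst e; exact Subtype.ext (map_zero _)⟩
    by_contra hx
    exact S.om_ne hx (congrArg Subtype.val e)
  have hm := Equiv.Perm.card_compl_support_modEq hσ
  rw [hsupp, Finset.card_singleton, ← Nat.card_eq_fintype_card,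
    Module.natCard_eq_pow_finrank (K := ZMod 2), Nat.card_zmod] at hm
  by_contra hodd
  rw [Nat.not_even_iff_odd] at hodd
  obtain ⟨k, hk⟩ := hodd
  have : (2 : ℕ) ^ finrank (ZMod 2) W ≡ 2 [MOD 3] := by
    rw [hk, pow_succ, pow_mul]
    simpa using ((show (2 : ℕ) ^ 2 ≡ 1 [MOD 3] by decide).pow k).mul_right 2
  exact absurd (hm.trans this) (by decide)

theorem finrank_line [Finite V] {x : V} (hx : x ≠ 0) : finrank (ZMod 2) (S.line x) = 2 := by
  have h1 : finrank (ZMod 2) (S.line x) ≤ 2 := by
    classical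
    refine (finrank_span_le_card ({x, S.om x} : Set V)).trans ?_
    refine le_trans (le_of_eq ?_) (Finset.card_le_two (a := x) (b := S.om x))
    exact congrArg Finset.card (by ext; simp)
  obtain ⟨k, hk⟩ := S.even_finrank (S.stable_line x)
  have hne : finrank (ZMod 2) (S.line x) ≠ 0 := fun h => hx (by
    have hb := Submodule.finrank_eq_zero.1 h
    have := S.self_mem_line x
    rw [hb] at this
    exact (Submodule.mem_bot _).1 this)
  omega

/-- An invariant totally isotropic subspace is totally singular. -/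
theorem q_eq_zero {W : Submodule (ZMod 2) V} (h : S.Stable W)
    (hiso : ∀ x ∈ W, ∀ y ∈ W, S.B x y = 0) {x : V} (hx : x ∈ W) : S.q x = 0 := by
  have e := S.q_add (S.om x) x
  rw [← S.om_om, S.om_q, S.om_q, hiso _ (h x hx) x hx, add_zero, zmod2_add_self] at e
  exact e

theorem B_om_of_q {x : V} : S.B (S.om x) x = S.q x := by
  have e := S.q_add (S.om x) x
  rw [← S.om_om, S.om_q, S.om_q, zmod2_add_self, zero_add] at e
  exact e.symm

/-! ### Isometries -/

/-- An isometry of both forms. -/
structure IsIso (u : V ≃ₗ[ZMod 2] V) : Prop where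
  B : ∀ x y, S.B (u x) (u y) = S.B x y
  q : ∀ x, S.q (u x) = S.q x

/-- Commutes with the isometry of order three. -/
def Lin (u : V ≃ₗ[ZMod 2] V) : Prop := ∀ x, u (S.om x) = S.om (u x)

/-- Inverts the isometry of order three. -/
def Semi (u : V ≃ₗ[ZMod 2] V) : Prop := ∀ x, u (S.om x) = S.om (S.om (u x))

variable {S} {u v : V ≃ₗ[ZMod 2] V}

theorem Lin.n_om (h : S.Lin u) (x : V) : nMap u (S.om x) = S.om (nMap u x) := by
  rw [nMap_apply, nMap_apply, h, map_add]

theorem Lin.stable_range (h : S.Lin u) : S.Stable (LinearMap.range (nMap u)) := by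
  rintro _ ⟨x, rfl⟩
  exact ⟨S.om x, h.n_om x⟩

theorem Lin.stable_ker (h : S.Lin u) : S.Stable (LinearMap.ker (nMap u)) := fun x hx => by
  rw [LinearMap.mem_ker] at hx ⊢
  rw [h.n_om, hx, map_zero]

theorem IsIso.perp (h : S.IsIso u) {w : V} (hw : u w = w) (x : V) : S.B (nMap u x) w = 0 := by
  rw [nMap_apply, map_add, LinearMap.add_apply]
  conv_lhs => arg 1; rw [← hw, h.B]
  exact zmod2_add_self _

theorem IsIso.range_le_orth (h : S.IsIso u) {W : Submodule (ZMod 2) V} (hW : ∀ w ∈ W, u w = w) :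
    LinearMap.range (nMap u) ≤ S.orth W := by
  rintro _ ⟨x, rfl⟩
  exact S.mem_orth'.2 fun w hw => h.perp (hW w hw) x

theorem IsIso.B_symm_n (h : S.IsIso u) (hu : ∀ x, u (u x) = x) (x y : V) :
    S.B (nMap u x) y = S.B x (nMap u y) := by
  rw [nMap_apply, nMap_apply, map_add, map_add, LinearMap.add_apply]
  congr 1
  conv_lhs => rw [← h.B (u x) y, hu]

theorem n_n (hu : ∀ x, u (u x) = x) (x : V) : nMap u (nMap u x) = 0 := by
  rw [nMap_apply, nMap_apply, map_add, hu, add_comm x (u x)]
  exact v_add_self _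

theorem range_le_ker (hu : ∀ x, u (u x) = x) :
    LinearMap.range (nMap u) ≤ LinearMap.ker (nMap u) := by
  rintro _ ⟨x, rfl⟩
  exact n_n hu x

theorem IsIso.orth_range (h : S.IsIso u) (hu : ∀ x, u (u x) = x) :
    S.orth (LinearMap.range (nMap u)) = LinearMap.ker (nMap u) := by
  refine le_antisymm (fun x hx => ?_) fun x hx => ?_
  · rw [LinearMap.mem_ker]
    refine S.nd _ fun y => ?_
    rw [h.B_symm_n hu]
    exact S.mem_orth'.1 hx _ ⟨y, rfl⟩
  · rintro _ ⟨y, rfl⟩
    exact h.perp (mem_ker_nMap.1 hx) y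

theorem IsIso.q_n (h : S.IsIso u) (x : V) : S.B (nMap u x) x = S.q (nMap u x) := by
  have e := S.q_add x (nMap u x)
  rw [← apply_eq_add, h.q, S.symm x (nMap u x)] at e
  exact CharTwo.add_eq_zero.1 (by linear_combination -e)

theorem IsIso.q_range (h : S.IsIso u) (hl : S.Lin u) (hu : ∀ x, u (u x) = x) {y : V}
    (hy : y ∈ LinearMap.range (nMap u)) : S.q y = 0 := by
  refine S.q_eq_zero hl.stable_range ?_ hy
  rintro a ⟨x, rfl⟩ b hb
  exact h.perp (mem_ker_nMap.1 (range_le_ker hu hb)) x

theorem IsIso.B_n_self (h : S.IsIso u) (hl : S.Lin u) (hu : ∀ x, u (u x) = x) (x : V) :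
    S.B (nMap u x) x = 0 := (h.q_n x).trans (h.q_range hl hu ⟨x, rfl⟩)

theorem eq_of_trivial_on {W : Submodule (ZMod 2) V} {e : V} (hu : S.Lin u) (hv : S.Lin v)
    (hW : ∀ w ∈ W, u w = v w) (he : u e = v e) (htop : W ⊔ S.line e = ⊤) : u = v := by
  refine LinearEquiv.ext fun x => ?_
  obtain ⟨a, ha, b, hb, rfl⟩ := Submodule.mem_sup.1 (htop ▸ Submodule.mem_top (x := x))
  have hb' : u b = v b := by
    rcases span_pair_eq hb with e' | e' | e' | e' <;>
      simp [e', map_add, hu e, hv e, he]
  rw [map_add, map_add, hW a ha, hb']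

theorem sup_line_eq_top [Finite V] {W : Submodule (ZMod 2) V} (hW : S.Stable W)
    (h10 : 10 ≤ finrank (ZMod 2) W) {e : V} (he : e ∉ W) : W ⊔ S.line e = ⊤ := by
  refine Submodule.eq_top_of_finrank_eq ?_
  have hlt : W < W ⊔ S.line e :=
    lt_of_le_of_ne le_sup_left fun h => he (h ▸ Submodule.mem_sup_right (S.self_mem_line e))
  have h1 := Submodule.finrank_lt_finrank_of_lt hlt
  obtain ⟨k, hk⟩ := S.even_finrank (hW.sup (S.stable_line e))
  have h2 := (W ⊔ S.line e).finrank_le
  rw [S.dim] at h2 ⊢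
  omega

theorem nMap_eq_zero_iff : nMap u = 0 ↔ u = LinearEquiv.refl (ZMod 2) V := by
  refine ⟨fun h => LinearEquiv.ext fun x => ?_, fun h => LinearMap.ext fun x => ?_⟩
  · exact v_eq_of_add_eq_zero (LinearMap.congr_fun h x)
  · rw [h, nMap_apply]
    exact v_add_self x

/-- Three commuting involutions of rank two are impossible. -/
theorem no_transvection_pair [Finite V] (hu : S.IsIso u) (hv : S.IsIso v) (lu : S.Lin u)
    (lv : S.Lin v) (iu : ∀ x, u (u x) = x) (iv : ∀ x, v (v x) = x) (hc : ∀ x, u (v x) = v (u x))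
    (ru : finrank (ZMod 2) (LinearMap.range (nMap u)) = 2)
    (rv : finrank (ZMod 2) (LinearMap.range (nMap v)) = 2)
    (ruv : finrank (ZMod 2) (LinearMap.range (nMap (v.trans u))) = 2) : u = v := by
  set Lu := LinearMap.range (nMap u) with hLu
  set Lv := LinearMap.range (nMap v) with hLv
  have ku := hu.orth_range iu
  have kv := hv.orth_range iv
  rw [← hLu] at ku
  rw [← hLv] at kv
  by_cases hL : Lu = Lv
  · have hk : LinearMap.ker (nMap u) = LinearMap.ker (nMap v) := by rw [← ku, ← kv, hL]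
    have h10 := S.finrank_orth Lu
    rw [ku, ru] at h10
    obtain ⟨e, he⟩ : ∃ e, e ∉ LinearMap.ker (nMap u) := by
      by_contra hcon
      push Not at hcon
      have : LinearMap.range (nMap u) = ⊥ :=
        LinearMap.range_eq_bot.2 (LinearMap.ext fun x => hcon x)
      rw [← hLu] at this
      rw [this] at ru
      simp at ru
    refine eq_of_trivial_on lu lv
      (fun w hw => (mem_ker_nMap.1 hw).trans (mem_ker_nMap.1 (hk ▸ hw)).symm) ?_
      (sup_line_eq_top lu.stable_ker (by omega) he)
    have hu0 : nMap u e ≠ 0 := he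
    have hv0 : nMap v e ≠ 0 := fun h => he (hk ▸ (LinearMap.mem_ker.2 h))
    let f : Lu →ₗ[ZMod 2] ZMod 2 := (S.B.flip e).comp Lu.subtype
    have hf : f ≠ 0 := fun h => he (by
      rw [← ku]
      exact S.mem_orth.2 fun w hw => by
        simpa [f] using LinearMap.congr_fun h ⟨w, hw⟩)
    have hker : finrank (ZMod 2) (LinearMap.ker f) ≤ 1 := by
      have h1 := f.finrank_range_add_finrank_ker
      have h2 : finrank (ZMod 2) (LinearMap.range f) ≠ 0 := fun h =>
        hf (LinearMap.range_eq_bot.1 (Submodule.finrank_eq_zero.1 h))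
      omega
    have m1 : (⟨nMap u e, ⟨e, rfl⟩⟩ : Lu) ∈ LinearMap.ker f := hu.B_n_self lu iu e
    have m2 : (⟨nMap v e, hL ▸ ⟨e, rfl⟩⟩ : Lu) ∈ LinearMap.ker f := hv.B_n_self lv iv e
    obtain ⟨w, hw⟩ := finrank_le_one_iff.1 hker
    obtain ⟨a, ha⟩ := hw ⟨_, m1⟩
    obtain ⟨b, hb⟩ := hw ⟨_, m2⟩
    rcases zmod2_cases a with rfl | rfl
    · exact absurd (congrArg (fun z : LinearMap.ker f => z.1.1) ha).symm (by simpa using hu0)
    rcases zmod2_cases b with rfl | rfl
    · exact absurd (congrArg (fun z : LinearMap.ker f => z.1.1) hb).symm (by simpa using hv0)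
    have e' : nMap u e = nMap v e := congrArg (fun z : LinearMap.ker f => z.1.1) (ha.symm.trans hb)
    rw [apply_eq_add, e', ← apply_eq_add]
  · exfalso
    have hinf : Lu ⊓ Lv = ⊥ := by
      refine Submodule.finrank_eq_zero.1 ?_
      obtain ⟨k, hk⟩ := S.even_finrank (lu.stable_range.inf lv.stable_range)
      have h1 : Lu ⊓ Lv < Lu ∨ Lu ⊓ Lv < Lv := by
        by_contra hcon
        push Not at hcon
        have a1 := eq_of_le_of_not_lt inf_le_left hcon.1
        have a2 := eq_of_le_of_not_lt (inf_le_right : Lu ⊓ Lv ≤ Lv) hcon.2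
        exact hL (a1.symm.trans a2)
      rw [← hLu, ← hLv] at hk
      rcases h1 with h | h <;>
        have := Submodule.finrank_lt_finrank_of_lt h <;> omega
    have hcomm : ∀ x, nMap u (nMap v x) = nMap v (nMap u x) := fun x => by
      simp only [nMap_apply, map_add, hc]
      abel
    have hprod : ∀ x, nMap u (nMap v x) = 0 := fun x => by
      have : nMap u (nMap v x) ∈ Lu ⊓ Lv := ⟨⟨_, rfl⟩, hcomm x ▸ ⟨_, rfl⟩⟩
      rwa [hinf, Submodule.mem_bot] at this
    have hsum : ∀ x, nMap (v.trans u) x = nMap u x + nMap v x := fun x => by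
      have := hprod x
      simp only [nMap_apply, map_add, LinearEquiv.trans_apply] at this ⊢
      refine v_eq_of_add_eq_zero (Eq.trans ?_ this)
      rw [show u (v x) + x + (u x + x + (v x + x)) = (u (v x) + v x + (u x + x)) + (x + x) by abel,
        v_add_self, add_zero]
    have hstab : S.Stable (LinearMap.range (nMap (v.trans u))) :=
      Lin.stable_range (fun x => by simp only [LinearEquiv.trans_apply]; rw [lv x, lu (v x)])
    have key : ∀ {a b : V ≃ₗ[ZMod 2] V}, S.IsIso a → S.IsIso b → S.Lin a →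
        (∀ x, a (a x) = x) → (∀ x, b (b x) = x) →
        finrank (ZMod 2) (LinearMap.range (nMap a)) = 2 →
        finrank (ZMod 2) (LinearMap.range (nMap b)) = 2 →
        LinearMap.range (nMap a) ≠ LinearMap.range (nMap b) →
        (∀ x, nMap (v.trans u) x = nMap a x + nMap b x) →
        LinearMap.range (nMap a) ≤ LinearMap.range (nMap (v.trans u)) := by
      intro a b ha hb la ia ib ra rb hne hs
      obtain ⟨x, hxb, hxa⟩ : ∃ x, x ∈ LinearMap.ker (nMap b) ∧ x ∉ LinearMap.ker (nMap a) := by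
        by_contra hcon
        push Not at hcon
        have hle : LinearMap.ker (nMap b) ≤ LinearMap.ker (nMap a) := hcon
        have h2 := S.orth_anti hle
        rw [← ha.orth_range ia, ← hb.orth_range ib, S.orth_orth, S.orth_orth] at h2
        exact hne (Submodule.eq_of_le_of_finrank_eq h2 (by rw [ra, rb]))
      have hy : nMap a x ∈ LinearMap.range (nMap (v.trans u)) := by
        refine ⟨x, ?_⟩
        rw [hs, LinearMap.mem_ker.1 hxb, add_zero]
      have hy0 : nMap a x ≠ 0 := hxa
      rw [← Submodule.eq_of_le_of_finrank_eq (S.line_le la.stable_range ⟨x, rfl⟩)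
        (by rw [ra, S.finrank_line hy0])]
      exact S.line_le hstab hy
    have h1 : Lu ≤ LinearMap.range (nMap (v.trans u)) := key hu hv lu iu iv ru rv hL hsum
    have h2 : Lv ≤ LinearMap.range (nMap (v.trans u)) :=
      key hv hu lv iv iu rv ru (Ne.symm hL) fun x => by rw [hsum, add_comm]
    have e1 := Submodule.eq_of_le_of_finrank_eq h1 (by rw [ru, ruv])
    have e2 := Submodule.eq_of_le_of_finrank_eq h2 (by rw [rv, ruv])
    exact hL (e1.trans e2.symm)

/-- The rank of the square of an element of order four. -/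
theorem finrank_range_sq_le [Finite V] (lv : S.Lin v) (h4 : ∀ x, v (v (v (v x))) = x) :
    finrank (ZMod 2) (LinearMap.range (nMap (v.trans v))) ≤ 4 := by
  set n := nMap v
  let R : ℕ → Submodule (ZMod 2) V := fun k => LinearMap.range (n ^ k)
  have hRs : ∀ k, R (k + 1) = (R k).map n := fun k => by
    simp only [R, pow_succ', Module.End.mul_eq_comp, LinearMap.range_comp]
  have hst : ∀ k, S.Stable (R k) := by
    intro k
    induction k with
    | zero => exact fun x _ => ⟨S.om x, by simp⟩
    | succ k ih =>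
      rw [hRs]
      rintro _ ⟨x, hx, rfl⟩
      exact ⟨S.om x, ih x hx, lv.n_om x⟩
  have hrk : ∀ k, finrank (ZMod 2) (R (k + 1)) +
      finrank (ZMod 2) (LinearMap.ker n ⊓ R k : Submodule (ZMod 2) V) =
      finrank (ZMod 2) (R k) := fun k => by
    have h := (n.domRestrict (R k)).finrank_range_add_finrank_ker
    rw [LinearMap.range_domRestrict, ← hRs] at h
    have e : finrank (ZMod 2) (LinearMap.ker (n.domRestrict (R k))) =
        finrank (ZMod 2) (LinearMap.ker n ⊓ R k : Submodule (ZMod 2) V) := by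
      rw [← Submodule.finrank_map_subtype_eq (R k) (LinearMap.ker (n.domRestrict (R k)))]
      have : (LinearMap.ker (n.domRestrict (R k))).map (R k).subtype = LinearMap.ker n ⊓ R k := by
        ext x
        simp [LinearMap.domRestrict, and_comm]
      rw [this]
    rw [e] at h
    exact h
  have hanti : ∀ k, R (k + 1) ≤ R k := by
    intro k
    induction k with
    | zero => exact fun x _ => ⟨x, by simp⟩
    | succ k ih => rw [hRs (k + 1)]; exact (Submodule.map_mono ih).trans (le_of_eq (hRs k).symm)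
  have hK : ∀ k, finrank (ZMod 2) (LinearMap.ker n ⊓ R (k + 1) : Submodule (ZMod 2) V) ≤
      finrank (ZMod 2) (LinearMap.ker n ⊓ R k : Submodule (ZMod 2) V) := fun k =>
    Submodule.finrank_mono (inf_le_inf_left _ (hanti k))
  have hev : ∀ k, Even (finrank (ZMod 2) (LinearMap.ker n ⊓ R k : Submodule (ZMod 2) V)) :=
    fun k => S.even_finrank (lv.stable_ker.inf (hst k))
  have hnn : ∀ x, n (n x) = v (v x) + x := fun x => by
    show nMap v (nMap v x) = _
    simp only [nMap_apply, map_add]
    rw [show v (v x) + v x + (v x + x) = v (v x) + x + (v x + v x) by abel, v_add_self, add_zero]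
  have h4' : R 4 = ⊥ := by
    refine LinearMap.range_eq_bot.2 (LinearMap.ext fun x => ?_)
    show (n ^ 4) x = 0
    simp only [pow_succ, pow_zero, one_mul, Module.End.mul_apply, hnn, map_add, h4]
    rw [show x + v (v x) + (v (v x) + x) = (x + x) + (v (v x) + v (v x)) by abel, v_add_self,
      v_add_self, add_zero]
  have h0 : finrank (ZMod 2) (R 0) = 12 := by
    have : R 0 = ⊤ := eq_top_iff.2 fun x _ => ⟨x, by simp⟩
    rw [this, finrank_top, S.dim]
  have h2 : LinearMap.range (nMap (v.trans v)) = R 2 := by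
    refine le_antisymm ?_ ?_ <;> rintro _ ⟨x, rfl⟩ <;> refine ⟨x, ?_⟩ <;>
      simp [pow_two, hnn, Module.End.mul_apply]
  rw [h2]
  have a0 := hrk 0
  have a1 := hrk 1
  have a2 := hrk 2
  have a3 := hrk 3
  have b0 := hK 0
  have b1 := hK 1
  have b2 := hK 2
  obtain ⟨c2, e2⟩ := hev 2
  obtain ⟨c3, e3⟩ := hev 3
  obtain ⟨c1, e1⟩ := hev 1
  have z : finrank (ZMod 2) (R 4) = 0 := by rw [h4', finrank_bot]
  simp only [Nat.reduceAdd] at a0 a1 a2 a3 b0 b1 b2
  omega

/-! ### Semilinear involutions -/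

theorem Semi.n_om_of_fixed (hs : S.Semi u) {x : V} (hx : u x = x) : nMap u (S.om x) = x := by
  rw [nMap_apply, hs, hx, S.om_om, add_comm (S.om x) x, add_assoc, v_add_self, add_zero]

theorem Semi.ker_eq_range (hs : S.Semi u) (hu : ∀ x, u (u x) = x) :
    LinearMap.ker (nMap u) = LinearMap.range (nMap u) :=
  le_antisymm (fun x hx => ⟨S.om x, hs.n_om_of_fixed (mem_ker_nMap.1 hx)⟩) (range_le_ker hu)

theorem Semi.finrank_ker [Finite V] (hs : S.Semi u) (hu : ∀ x, u (u x) = x) :
    finrank (ZMod 2) (LinearMap.ker (nMap u)) = 6 := by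
  have h := (nMap u).finrank_range_add_finrank_ker
  rw [← hs.ker_eq_range hu, S.dim] at h
  omega

/-- Every vector is a fixed one plus the image of a fixed one. -/
theorem Semi.decompose (hs : S.Semi u) (hu : ∀ x, u (u x) = x) (x : V) :
    ∃ a b : V, u a = a ∧ u b = b ∧ x = a + S.om b := by
  have hb : u (nMap u x) = nMap u x := mem_ker_nMap.1 (range_le_ker hu ⟨x, rfl⟩)
  refine ⟨x + S.om (nMap u x), nMap u x, ?_, hb, ?_⟩
  · refine v_eq_of_add_eq_zero ?_
    rw [← nMap_apply, map_add (nMap u), hs.n_om_of_fixed hb, v_add_self]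
  · rw [add_assoc, v_add_self, add_zero]

theorem semi_not_fix (hs : S.Semi u) {y : V} (h1 : u y = y) (h2 : u (S.om y) = S.om y) : y = 0 := by
  have := hs.n_om_of_fixed h1
  rw [nMap_apply, h2, v_add_self] at this
  exact this.symm

/-! ### Subspaces of the image with the pairing rule -/

/-- Distinct nonzero vectors of `R` in the image of `u + 1` pair to one. -/
def PairRule (S : Space V) (u : V ≃ₗ[ZMod 2] V) (R : Submodule (ZMod 2) V) : Prop :=
  R ≤ LinearMap.range (nMap u) ∧
    ∀ a b, nMap u a ∈ R → nMap u b ∈ R → nMap u a ≠ 0 → nMap u b ≠ 0 → nMap u a ≠ nMap u b →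
      S.B (nMap u a) b = 1

theorem PairRule.finrank_le [Finite V] {R : Submodule (ZMod 2) V} (h : PairRule S u R) :
    finrank (ZMod 2) R ≤ 2 := by
  by_contra hgt
  push Not at hgt
  obtain ⟨x, hx, hx0⟩ := Submodule.exists_mem_ne_zero_of_ne_bot
    (fun hb : R = ⊥ => by rw [hb, finrank_bot] at hgt; omega)
  have h1 : finrank (ZMod 2) (Submodule.span (ZMod 2) ({x} : Set V)) ≤ 1 :=
    (finrank_span_singleton hx0).le
  obtain ⟨y, hy, hyx⟩ : ∃ y ∈ R, y ∉ Submodule.span (ZMod 2) ({x} : Set V) := by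
    by_contra hcon
    push Not at hcon
    have := Submodule.finrank_mono (show R ≤ Submodule.span (ZMod 2) ({x} : Set V) from hcon)
    omega
  obtain ⟨z, hz, hzxy⟩ : ∃ z ∈ R, z ∉ Submodule.span (ZMod 2) ({x, y} : Set V) := by
    by_contra hcon
    push Not at hcon
    have := Submodule.finrank_mono (show R ≤ Submodule.span (ZMod 2) ({x, y} : Set V) from hcon)
    classical
    have h2 : finrank (ZMod 2) (Submodule.span (ZMod 2) ({x, y} : Set V)) ≤ 2 := by
      refine (finrank_span_le_card ({x, y} : Set V)).trans (le_trans (le_of_eq ?_) (Finset.card_le_two (a := x) (b := y)))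
      exact congrArg Finset.card (by ext; simp)
    omega
  obtain ⟨a, rfl⟩ := h.1 hx
  obtain ⟨b, rfl⟩ := h.1 hy
  obtain ⟨c, rfl⟩ := h.1 hz
  set Sp := Submodule.span (ZMod 2) ({nMap u a, nMap u b} : Set V)
  have ma : nMap u a ∈ Sp := Submodule.subset_span (by simp)
  have mb : nMap u b ∈ Sp := Submodule.subset_span (by simp)
  have hb0 : nMap u b ≠ 0 := fun e => hyx (e ▸ Submodule.zero_mem _)
  have hc0 : nMap u c ≠ 0 := fun e => hzxy (e ▸ Submodule.zero_mem _)
  have hab : nMap u a ≠ nMap u b := fun e => hyx (e ▸ Submodule.subset_span rfl)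
  have hac : nMap u a ≠ nMap u c := fun e => hzxy (e ▸ ma)
  have hsum : nMap u (b + c) ≠ 0 := fun e => hzxy (by
    rw [map_add] at e
    exact v_eq_of_add_eq_zero e ▸ mb)
  have habc : nMap u a ≠ nMap u (b + c) := fun e => hzxy (by
    rw [map_add] at e
    have : nMap u c = nMap u b + nMap u a := by rw [e, v_add_cancel]
    rw [this]
    exact add_mem mb ma)
  have e1 := h.2 a b hx hy hx0 hb0 hab
  have e2 := h.2 a c hx hz hx0 hc0 hac
  have e3 := h.2 a (b + c) hx (by rw [map_add]; exact add_mem hy hz) hx0 hsum habc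
  rw [map_add, e1, e2] at e3
  exact absurd e3 (by decide)

/-- An isometry commuting with `u`, trivial on `R`, moving into `R`, fixes the image. -/
theorem PairRule.fix_range [Finite V] {R : Submodule (ZMod 2) V} (h : PairRule S u R)
    (hR : finrank (ZMod 2) R ≠ 1) (hu : S.IsIso u) (hv : S.IsIso v)
    (hc : ∀ x, v (u x) = u (v x)) (hfix : ∀ r ∈ R, v r = r) {y : V}
    (hy : y ∈ LinearMap.range (nMap u)) (hd : nMap v y ∈ R) : v y = y := by
  have hcn : ∀ x, v (nMap u x) = nMap u (v x) := fun x => by simp only [nMap_apply, map_add, hc]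
  obtain ⟨a, rfl⟩ := hy
  refine v_eq_of_add_eq_zero ?_
  rw [← nMap_apply]
  by_contra hne
  obtain ⟨d, hd'⟩ := h.1 hd
  obtain ⟨r, hr, hr0, hrd⟩ : ∃ r ∈ R, r ≠ 0 ∧ r ≠ nMap v (nMap u a) := by
    by_contra hcon
    push Not at hcon
    have hle : R ≤ Submodule.span (ZMod 2) ({nMap v (nMap u a)} : Set V) := fun r hr => by
      by_cases h0 : r = 0
      · exact h0 ▸ Submodule.zero_mem _
      · rw [hcon r hr h0]; exact Submodule.subset_span rfl
    have h1 := Submodule.finrank_mono hle
    rw [finrank_span_singleton hne] at h1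
    have h0 : finrank (ZMod 2) R ≠ 0 := fun e => hne (by
      have := Submodule.finrank_eq_zero.1 e
      rw [this] at hd
      exact (Submodule.mem_bot _).1 hd)
    omega
  obtain ⟨b, rfl⟩ := h.1 hr
  have e1 : S.B (nMap u d) b = 1 :=
    h.2 d b (hd' ▸ hd) hr (hd' ▸ hne) hr0 (hd' ▸ Ne.symm hrd)
  have e2 : nMap u (v b) = nMap u b := by rw [← hcn, hfix _ hr]
  have k1 : S.B (nMap u (v a)) (v b + b) = 0 :=
    hu.perp (mem_ker_nMap.1 (by rw [LinearMap.mem_ker, map_add, e2, v_add_self])) _
  have k2 : S.B (nMap u (v a)) (v b) = S.B (nMap u a) b := by rw [← hcn, hv.B]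
  have e3 : S.B (nMap u d) b = 0 := by
    rw [hd', nMap_apply, hcn, map_add, LinearMap.add_apply, ← k2, ← map_add, add_comm b (v b)]
    exact k1
  exact absurd (e1.symm.trans e3) (by decide)

end Space

end CfsgLib.JFourType
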