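import Cfsg.Agent.JFourType.M22Facts
import Cfsg.Agent.JFourType.Space
import Cfsg.Agent.LargeExtraspecial.Pair
import Cfsg.Prelude.Def_JankoFourType

/-!
# The centralizer of an involution of Janko-four type

`Shape G` collects the hypothesis: `z`, the extraspecial subgroup `E`, the element `p` of order
three and the map `π` of `C(z)` onto the automorphism group of `M22`. The module `E / Z(E)` is a
`Space`; an element of `C(z)` is inner when `π` sends it to an inner automorphism, and these are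
exactly the elements acting linearly.
-/

set_option autoImplicit false
set_option linter.style.haveILetI false

namespace CfsgLib.JFourType

open Cfsg CfsgLib.LargeExtraspecial Module

theorem simple_M22g : IsSimpleGroup M22g := Mathieu.simple_SporM22

theorem not_comm_M22g : ¬ ∀ a b : M22g, a * b = b * a := by
  intro h
  haveI := simple_M22g
  letI : CommGroup M22g := { (inferInstance : Group M22g) with mul_comm := h }
  have hp := IsSimpleGroup.prime_card (α := M22g)
  have e : Nat.card M22g = 443520 := Mathieu.card_SporM22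
  rw [e] at hp
  exact absurd hp (by norm_num)

theorem inn_index : (Inn M22g).index = 2 := Cfsg.Agent.S2062.result

theorem conj_injective_M22g : Function.Injective (MulAut.conj : M22g →* MulAut M22g) := by
  haveI := simple_M22g
  rcases (MonoidHom.normal_ker (MulAut.conj : M22g →* MulAut M22g)).eq_bot_or_eq_top with h | h
  · exact (MonoidHom.ker_eq_bot_iff _).1 h
  · refine absurd (fun a b => ?_) not_comm_M22g
    have ha : MulAut.conj a = (1 : MulAut M22g) :=
      MonoidHom.mem_ker.1 (show a ∈ (MulAut.conj : M22g →* MulAut M22g).ker from h ▸ Subgroup.mem_top a)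
    exact mul_inv_eq_iff_eq_mul.1 (DFunLike.congr_fun ha b)

/-- The Janko-four type hypothesis. -/
structure Shape (G : Type*) [Group G] where
  /-- the involution -/
  z : G
  /-- the extraspecial subgroup -/
  E : Subgroup G
  sub : IsZSub E z
  card_E : Nat.card E = 2 ^ 13
  /-- the element of order three -/
  p : G
  p3 : orderOf p = 3
  p_comm : p * z = z * p
  fixp : ∀ e ∈ E, p * e = e * p → e = 1 ∨ e = z
  /-- the map onto the automorphism group of `M22` -/
  π : ↥(Subgroup.centralizer ({z} : Set G)) →* MulAut M22g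
  π_surj : Function.Surjective π
  π_ker : ∀ m, π m = 1 ↔ ∃ e ∈ E, ∃ k : ℕ, (m : G) = e * p ^ k
  invert : ∃ τ : G, τ * z = z * τ ∧ τ * p * τ⁻¹ = p⁻¹
  derived : p ∈ ⁅Subgroup.centralizer ({z} : Set G) ⊓ Subgroup.centralizer ({p} : Set G),
    Subgroup.centralizer ({z} : Set G) ⊓ Subgroup.centralizer ({p} : Set G)⁆

namespace Shape

variable {G : Type*} [Group G] (S : Shape G)

/-- The centralizer of the involution. -/
def H : Subgroup G := Subgroup.centralizer ({S.z} : Set G)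

/-- The centralizer of `p` in it. -/
def C : Subgroup G := S.H ⊓ Subgroup.centralizer ({S.p} : Set G)

theorem mem_H {x : G} : x ∈ S.H ↔ x * S.z = S.z * x := Subgroup.mem_centralizer_singleton_iff

theorem mem_C {x : G} : x ∈ S.C ↔ x * S.z = S.z * x ∧ x * S.p = S.p * x :=
  Subgroup.mem_inf.trans (and_congr S.mem_H Subgroup.mem_centralizer_singleton_iff)

theorem C_le_H : S.C ≤ S.H := inf_le_left

theorem E_le_H : S.E ≤ S.H := fun _ hx => S.mem_H.2 (S.sub.z_comm hx)

theorem z_mem_H : S.z ∈ S.H := S.mem_H.2 rfl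

theorem p_mem_H : S.p ∈ S.H := S.mem_H.2 S.p_comm

theorem z_mem_C : S.z ∈ S.C := S.mem_C.2 ⟨rfl, S.p_comm.symm⟩

theorem p_mem_C : S.p ∈ S.C := S.mem_C.2 ⟨S.p_comm, rfl⟩

theorem conj_mem {m x : G} (hm : m ∈ S.H) (hx : x ∈ S.E) : m * x * m⁻¹ ∈ S.E :=
  S.sub.conj_mem (S.mem_H.1 hm) hx

theorem conj_mem' {m x : G} (hm : m ∈ S.H) (hx : x ∈ S.E) : m⁻¹ * x * m ∈ S.E := by
  simpa using S.conj_mem (inv_mem hm) hx

theorem z_mul_z : S.z * S.z = 1 := S.sub.mul_self

theorem z_inv : S.z⁻¹ = S.z := inv_eq_of_mul_eq_one_right S.z_mul_z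

theorem p_pow_three : S.p ^ 3 = 1 := by
  have h := pow_orderOf_eq_one S.p
  rwa [S.p3] at h

theorem p_pow_mem (k : ℕ) : S.p ^ k ∈ S.H := pow_mem S.p_mem_H k

theorem p_inv : S.p⁻¹ = S.p ^ 2 := inv_eq_of_mul_eq_one_right (by rw [← pow_succ']; exact S.p_pow_three)

theorem p_pow_mod (k : ℕ) : S.p ^ k = S.p ^ (k % 3) := by
  conv_lhs => rw [← Nat.div_add_mod k 3, pow_add, pow_mul, S.p_pow_three, one_pow, one_mul]

theorem isPGroup_E : IsPGroup 2 S.E := S.sub.extra.1.1

theorem p_pow_mem_E {k : ℕ} (h : S.p ^ k ∈ S.E) : S.p ^ k = 1 := by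
  obtain ⟨n, hn⟩ := S.isPGroup_E ⟨_, h⟩
  have h1 : (S.p ^ k) ^ 2 ^ n = 1 := congrArg Subtype.val hn
  have h3 : (S.p ^ k) ^ 3 = 1 := by rw [← pow_mul, mul_comm, pow_mul, S.p_pow_three, one_pow]
  have hc : Nat.gcd (2 ^ n) 3 = 1 := Nat.Coprime.pow_left n (by norm_num : Nat.Coprime 2 3)
  simpa [hc] using pow_gcd_eq_one.2 ⟨h1, h3⟩

theorem p_not_mem_E : S.p ∉ S.E := fun h => by
  have h1 := S.p_pow_mem_E (k := 1) (by rwa [pow_one])
  rw [pow_one] at h1
  have := S.p3
  rw [h1, orderOf_one] at this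
  omega

theorem mem_center_iff (a : S.E) :
    a ∈ Subgroup.center S.E ↔ (a : G) = 1 ∨ (a : G) = S.z := by
  constructor
  · intro h
    exact S.sub.eq_or_eq ⟨a, h, rfl⟩
  · intro h
    obtain ⟨b, hb, hbe⟩ : (a : G) ∈ (Subgroup.center S.E).map S.E.subtype := by
      rcases h with h | h <;> rw [h]
      · exact one_mem _
      · exact S.sub.mem_center
    rwa [show a = b from Subtype.ext hbe.symm]

/-- `E / Z(E)` written additively. -/
abbrev Vec := Additive (↥S.E ⧸ Subgroup.center ↥S.E)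

instance vecAdd : AddCommGroup S.Vec :=
  { (inferInstance : AddGroup S.Vec) with
    add_comm := by
      intro a b
      obtain ⟨a, rfl⟩ := Additive.ofMul.surjective a
      obtain ⟨b, rfl⟩ := Additive.ofMul.surjective b
      rw [← ofMul_mul, ← ofMul_mul]
      congr 1
      induction a using QuotientGroup.induction_on with | _ a =>
      induction b using QuotientGroup.induction_on with | _ b =>
      rw [← QuotientGroup.mk_mul, ← QuotientGroup.mk_mul, QuotientGroup.eq, S.mem_center_iff]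
      have h := S.sub.comm_eq (S.E.inv_mem b.2) (S.E.inv_mem a.2)
      simpa [mul_assoc] using h }

theorem vec_add_self (v : S.Vec) : v + v = 0 := by
  obtain ⟨v, rfl⟩ := Additive.ofMul.surjective v
  induction v using QuotientGroup.induction_on with | _ a =>
  rw [← ofMul_mul, ← QuotientGroup.mk_mul, ← ofMul_one, Additive.ofMul.apply_eq_iff_eq,
    QuotientGroup.eq_one_iff, S.mem_center_iff]
  exact S.sub.sq_eq a.2

noncomputable instance vecModule : Module (ZMod 2) S.Vec :=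
  AddCommGroup.zmodModule (n := 2) fun v => by rw [two_nsmul]; exact S.vec_add_self v

open Classical in
/-- The vector of an element of `E`; zero outside `E`. -/
noncomputable def pr (x : G) : S.Vec :=
  if h : x ∈ S.E then Additive.ofMul (QuotientGroup.mk ⟨x, h⟩) else 0

variable {S}

theorem pr_of_mem {x : G} (hx : x ∈ S.E) :
    S.pr x = Additive.ofMul (QuotientGroup.mk ⟨x, hx⟩) := dif_pos hx

theorem pr_mul {x y : G} (hx : x ∈ S.E) (hy : y ∈ S.E) : S.pr (x * y) = S.pr x + S.pr y := by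
  rw [pr_of_mem hx, pr_of_mem hy, pr_of_mem (S.E.mul_mem hx hy), ← ofMul_mul,
    ← QuotientGroup.mk_mul]
  rfl

theorem pr_eq_zero {x : G} (hx : x ∈ S.E) : S.pr x = 0 ↔ x = 1 ∨ x = S.z := by
  rw [pr_of_mem hx, ← ofMul_one, Additive.ofMul.apply_eq_iff_eq, QuotientGroup.eq_one_iff,
    S.mem_center_iff]

@[simp] theorem pr_one : S.pr 1 = 0 := (pr_eq_zero S.E.one_mem).mpr (Or.inl rfl)

@[simp] theorem pr_z : S.pr S.z = 0 := (pr_eq_zero S.sub.z_mem).mpr (Or.inr rfl)

theorem pr_inv {x : G} (hx : x ∈ S.E) : S.pr x⁻¹ = S.pr x := by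
  have h := pr_mul (S.E.inv_mem hx) hx
  rw [inv_mul_cancel, pr_one] at h
  exact v_eq_of_add_eq_zero h.symm

theorem pr_eq_iff {x y : G} (hx : x ∈ S.E) (hy : y ∈ S.E) :
    S.pr x = S.pr y ↔ x = y ∨ x = S.z * y := by
  have h : S.pr (x * y⁻¹) = S.pr x + S.pr y := by rw [pr_mul hx (S.E.inv_mem hy), pr_inv hy]
  constructor
  · intro e
    rw [e, v_add_self, pr_eq_zero (S.E.mul_mem hx (S.E.inv_mem hy))] at h
    rcases h with h | h
    · exact Or.inl (mul_inv_eq_one.mp h)
    · exact Or.inr (mul_inv_eq_iff_eq_mul.mp h)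
  · rintro (rfl | rfl)
    · rfl
    · rw [pr_mul S.sub.z_mem hy, pr_z, zero_add]

theorem pr_surj (v : S.Vec) : ∃ x ∈ S.E, S.pr x = v := by
  obtain ⟨v, rfl⟩ := Additive.ofMul.surjective v
  induction v using QuotientGroup.induction_on with | _ a =>
  exact ⟨a, a.2, pr_of_mem a.2⟩

theorem card_vec [Finite G] : Nat.card S.Vec = 4096 := by
  have h := Subgroup.card_eq_card_quotient_mul_card_subgroup (Subgroup.center ↥S.E)
  rw [S.card_E, S.sub.extra.2] at h
  rw [Nat.card_congr Additive.toMul]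
  omega

theorem finrank_vec [Finite G] : finrank (ZMod 2) S.Vec = 12 := by
  have h := Module.natCard_eq_pow_finrank (K := ZMod 2) (V := S.Vec)
  rw [card_vec, Nat.card_zmod] at h
  exact Nat.pow_right_injective le_rfl (h.symm.trans (by norm_num : (4096 : ℕ) = 2 ^ 12))

/-! ### The action of the centralizer -/

theorem conj_pr_eq {m x y : G} (hm : m ∈ S.H) (hx : x ∈ S.E) (hy : y ∈ S.E)
    (h : S.pr x = S.pr y) : S.pr (m * x * m⁻¹) = S.pr (m * y * m⁻¹) := by
  rw [pr_eq_iff (S.conj_mem hm hx) (S.conj_mem hm hy)]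
  rcases (pr_eq_iff hx hy).1 h with e | e
  · exact Or.inl (by rw [e])
  · refine Or.inr ?_
    rw [e, show m * (S.z * y) * m⁻¹ = (m * S.z) * y * m⁻¹ by group, S.mem_H.1 hm]
    group

open Classical in
/-- The action of an element as a function. -/
noncomputable def cjFun (S : Shape G) (m : G) (v : S.Vec) : S.Vec :=
  if m ∈ S.H then S.pr (m * Classical.choose (pr_surj v) * m⁻¹) else v

theorem cjFun_pr {m x : G} (hm : m ∈ S.H) (hx : x ∈ S.E) :
    cjFun S m (S.pr x) = S.pr (m * x * m⁻¹) := by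
  rw [cjFun, if_pos hm]
  obtain ⟨hy, hye⟩ := Classical.choose_spec (pr_surj (S.pr x))
  exact conj_pr_eq hm hy hx hye

theorem cjFun_inv (m : G) (v : S.Vec) : cjFun S m⁻¹ (cjFun S m v) = v := by
  by_cases hm : m ∈ S.H
  · obtain ⟨x, hx, rfl⟩ := pr_surj v
    rw [cjFun_pr hm hx, cjFun_pr (inv_mem hm) (S.conj_mem hm hx)]
    congr 1
    group
  · have hm' : m⁻¹ ∉ S.H := fun h => hm (by simpa using inv_mem h)
    rw [cjFun, cjFun, if_neg hm', if_neg hm]

theorem cjFun_add (m : G) (v w : S.Vec) : cjFun S m (v + w) = cjFun S m v + cjFun S m w := by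
  by_cases hm : m ∈ S.H
  · obtain ⟨x, hx, rfl⟩ := pr_surj v
    obtain ⟨y, hy, rfl⟩ := pr_surj w
    rw [← pr_mul hx hy, cjFun_pr hm (mul_mem hx hy), cjFun_pr hm hx, cjFun_pr hm hy,
      ← pr_mul (S.conj_mem hm hx) (S.conj_mem hm hy)]
    congr 1
    group
  · rw [cjFun, cjFun, cjFun, if_neg hm, if_neg hm, if_neg hm]

variable (S)

/-- The action of an element of the centralizer; trivial outside it. -/
noncomputable def cj (m : G) : S.Vec ≃ₗ[ZMod 2] S.Vec :=
  { AddMonoidHom.toZModLinearMap 2 (AddMonoidHom.mk' (cjFun S m) (cjFun_add m)) with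
    invFun := cjFun S m⁻¹
    left_inv := cjFun_inv m
    right_inv := fun v => by
      have := cjFun_inv (S := S) m⁻¹ v
      rwa [inv_inv] at this }

theorem cj_pr {m x : G} (hm : m ∈ S.H) (hx : x ∈ S.E) :
    S.cj m (S.pr x) = S.pr (m * x * m⁻¹) := cjFun_pr hm hx

theorem cj_mul {m n : G} (hm : m ∈ S.H) (hn : n ∈ S.H) (v : S.Vec) :
    S.cj (m * n) v = S.cj m (S.cj n v) := by
  obtain ⟨x, hx, rfl⟩ := pr_surj v
  rw [S.cj_pr (mul_mem hm hn) hx, S.cj_pr hn hx, S.cj_pr hm (S.conj_mem hn hx)]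
  congr 1
  group

@[simp] theorem cj_one (v : S.Vec) : S.cj 1 v = v := by
  obtain ⟨x, hx, rfl⟩ := pr_surj v
  rw [S.cj_pr (one_mem _) hx]
  simp

theorem cj_inv (m : G) (v : S.Vec) : S.cj m⁻¹ (S.cj m v) = v := cjFun_inv m v

theorem cj_inv_eq_symm (m : G) : S.cj m⁻¹ = (S.cj m).symm :=
  LinearEquiv.ext fun _ => rfl

theorem cj_pow {m : G} (hm : m ∈ S.H) : ∀ k : ℕ, ∀ v, S.cj (m ^ k) v = (S.cj m)^[k] v
  | 0, v => by simp
  | k + 1, v => by rw [pow_succ', S.cj_mul hm (pow_mem hm k), cj_pow hm k, Function.iterate_succ_apply']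

theorem cj_E {e : G} (he : e ∈ S.E) (v : S.Vec) : S.cj e v = v := by
  obtain ⟨x, hx, rfl⟩ := pr_surj v
  rw [S.cj_pr (S.E_le_H he) hx, pr_eq_iff (S.conj_mem (S.E_le_H he) hx) hx]
  exact S.sub.conj_eq he hx

theorem cj_z (v : S.Vec) : S.cj S.z v = v := S.cj_E S.sub.z_mem v

open Classical in
/-- The character of `⟨z⟩`. -/
noncomputable def zc (a : G) : ZMod 2 := if a = 1 then 0 else 1

variable {S}

@[simp] theorem zc_one : zc (1 : G) = 0 := if_pos rfl

theorem zc_z : zc S.z = 1 := if_neg S.sub.ne_one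

theorem zc_mul {a b : G} (ha : a = 1 ∨ a = S.z) (hb : b = 1 ∨ b = S.z) :
    zc (a * b) = zc a + zc b := by
  rcases ha with rfl | rfl <;> rcases hb with rfl | rfl
  · simp
  · simp
  · simp
  · rw [S.z_mul_z, zc_one, zc_z]; decide

theorem zc_eq_zero {a : G} (h : zc a = (0 : ZMod 2)) : a = 1 := by
  by_contra hne
  rw [zc, if_neg hne] at h
  exact one_ne_zero h

variable (S)

open Classical in
/-- The quadratic form: squaring. -/
noncomputable def qf (v : S.Vec) : ZMod 2 :=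
  zc (Classical.choose (pr_surj v) * Classical.choose (pr_surj v))

/-- The polar form: commutation. -/
noncomputable def Bf (v w : S.Vec) : ZMod 2 := S.qf (v + w) + S.qf v + S.qf w

variable {S}

theorem qf_pr {x : G} (hx : x ∈ S.E) : S.qf (S.pr x) = zc (x * x) := by
  unfold qf
  obtain ⟨hy, hye⟩ := Classical.choose_spec (pr_surj (S.pr x))
  rcases (pr_eq_iff hy hx).mp hye with e | e <;> rw [e]
  rw [show S.z * x * (S.z * x) = S.z * (x * S.z) * x by group, S.sub.z_comm hx, ← mul_assoc,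
    S.z_mul_z, one_mul]

theorem Bf_pr {x y : G} (hx : x ∈ S.E) (hy : y ∈ S.E) :
    S.Bf (S.pr x) (S.pr y) = zc (x * y * x⁻¹ * y⁻¹) := by
  unfold Bf
  rw [← pr_mul hx hy, qf_pr hx, qf_pr hy, qf_pr (S.E.mul_mem hx hy)]
  have hx2 := S.sub.sq_eq hx
  have hy2 := S.sub.sq_eq hy
  have h1 : x * y * (x * y) = (x * y * x⁻¹ * y⁻¹) * ((x * x) * (y * y)) := by
    rcases S.sub.comm_eq hx hy with e | e <;> rw [e]
    · rw [mul_inv_eq_one, mul_inv_eq_iff_eq_mul] at e
      rw [one_mul, show x * y * (x * y) = x * (y * x) * y by group, ← e]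
      group
    · have e' : x * y = S.z * (y * x) := by rw [← e]; group
      have e'' : y * x = S.z * (x * y) := by rw [e', ← mul_assoc, S.z_mul_z, one_mul]
      rw [show x * y * (x * y) = x * (y * x) * y by group, e'',
        show x * (S.z * (x * y)) * y = x * S.z * (x * y * y) by group, S.sub.z_comm hx]
      group
  have hxy2 : (x * x) * (y * y) = 1 ∨ (x * x) * (y * y) = S.z := by
    rcases hx2 with e | e <;> rcases hy2 with f | f <;> simp [e, f, S.z_mul_z]
  rw [h1, zc_mul (S.sub.comm_eq hx hy) hxy2, zc_mul hx2 hy2]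
  generalize zc (x * x) = a
  generalize zc (y * y) = b
  generalize zc (x * y * x⁻¹ * y⁻¹) = d
  revert a b d
  decide

theorem qf_add (v w : S.Vec) : S.qf (v + w) = S.qf v + S.qf w + S.Bf v w := by
  unfold Bf
  generalize S.qf (v + w) = a
  generalize S.qf v = b
  generalize S.qf w = c
  revert a b c
  decide

theorem Bf_symm (v w : S.Vec) : S.Bf v w = S.Bf w v := by
  unfold Bf; rw [add_comm v w]; ring

theorem Bf_add_left (u v w : S.Vec) : S.Bf (u + v) w = S.Bf u w + S.Bf v w := by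
  obtain ⟨x, hx, rfl⟩ := pr_surj u
  obtain ⟨y, hy, rfl⟩ := pr_surj v
  obtain ⟨t, ht, rfl⟩ := pr_surj w
  rw [← pr_mul hx hy, Bf_pr (S.E.mul_mem hx hy) ht, Bf_pr hx ht, Bf_pr hy ht,
    S.sub.comm_mul_left hy ht (S.sub.z_comm hx),
    zc_mul (S.sub.comm_eq hy ht) (S.sub.comm_eq hx ht), add_comm]

theorem qf_cj {m : G} (hm : m ∈ S.H) (v : S.Vec) : S.qf (S.cj m v) = S.qf v := by
  obtain ⟨x, hx, rfl⟩ := pr_surj v
  rw [S.cj_pr hm hx, qf_pr (S.conj_mem hm hx), qf_pr hx,
    show m * x * m⁻¹ * (m * x * m⁻¹) = m * (x * x) * m⁻¹ by group]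
  rcases S.sub.sq_eq hx with e | e <;> rw [e]
  · simp
  · rw [mul_inv_eq_iff_eq_mul.mpr (S.mem_H.1 hm)]

/-- A vector fixed by `p` is zero. -/
theorem eq_zero_of_cj_p {v : S.Vec} (h : S.cj S.p v = v) : v = 0 := by
  obtain ⟨e, he, rfl⟩ := pr_surj v
  rw [S.cj_pr S.p_mem_H he] at h
  rw [pr_eq_zero he]
  rcases (pr_eq_iff (S.conj_mem S.p_mem_H he) he).1 h with e1 | e1
  · exact S.fixp e he (mul_inv_eq_iff_eq_mul.1 e1)
  · exfalso
    have hz : ∀ x, S.p * (S.z * x) * S.p⁻¹ = S.z * (S.p * x * S.p⁻¹) := fun x => by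
      rw [← mul_assoc, S.p_comm]; group
    have h3 : S.p ^ 3 * e * (S.p ^ 3)⁻¹ = S.z * e := by
      have e2 : S.p ^ 3 * e * (S.p ^ 3)⁻¹ = S.p * (S.p * (S.p * e * S.p⁻¹) * S.p⁻¹) * S.p⁻¹ := by
        rw [pow_succ, pow_two]; group
      rw [e2, e1, hz, e1, hz, hz, e1, ← mul_assoc S.z S.z, S.z_mul_z, one_mul]
    rw [S.p_pow_three, one_mul, inv_one, mul_one] at h3
    exact S.sub.ne_one (right_eq_mul.1 h3)

variable (S) in
/-- `E / Z(E)` as a space with forms and isometry of order three. -/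
noncomputable def space [Finite G] : Space S.Vec where
  B := LinearMap.mk₂ (ZMod 2) S.Bf Bf_add_left
    (fun a v w => by
      rcases zmod2_cases a with rfl | rfl
      · have h := Bf_add_left 0 0 w
        rw [add_zero] at h
        rw [zero_smul, zero_smul, left_eq_add.mp h]
      · rw [one_smul, one_smul])
    (fun u v w => by rw [Bf_symm, Bf_add_left, Bf_symm v, Bf_symm w])
    (fun a v w => by
      rcases zmod2_cases a with rfl | rfl
      · have h := Bf_add_left 0 0 v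
        rw [add_zero] at h
        rw [zero_smul, zero_smul, Bf_symm, left_eq_add.mp h]
      · rw [one_smul, one_smul])
  q := S.qf
  om := S.cj S.p
  symm := Bf_symm
  alt v := by
    obtain ⟨x, hx, rfl⟩ := pr_surj v
    show S.Bf _ _ = 0
    rw [Bf_pr hx hx]
    simp
  nd v hv := by
    obtain ⟨x, hx, rfl⟩ := pr_surj v
    refine (pr_eq_zero hx).2 (S.sub.mem_of_commutes fun y hy => ?_)
    have h : S.Bf (S.pr x) (S.pr y) = 0 := hv _
    rw [Bf_pr hx hy] at h
    exact (mul_inv_eq_iff_eq_mul.mp (mul_inv_eq_one.mp (zc_eq_zero h))).symm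
  q_add := qf_add
  dim := finrank_vec
  om_sum v := by
    refine eq_zero_of_cj_p ?_
    have h3 : S.cj S.p (S.cj S.p (S.cj S.p v)) = v := by
      rw [← S.cj_mul S.p_mem_H S.p_mem_H, ← S.cj_mul (mul_mem S.p_mem_H S.p_mem_H) S.p_mem_H,
        ← pow_two, ← pow_succ, S.p_pow_three, cj_one]
    rw [map_add, map_add, h3]
    abel
  om_B v w := by
    show S.Bf _ _ = S.Bf _ _
    unfold Bf
    rw [← map_add, qf_cj S.p_mem_H, qf_cj S.p_mem_H, qf_cj S.p_mem_H]
  om_q := qf_cj S.p_mem_H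

theorem space_q [Finite G] {x : G} (hx : x ∈ S.E) : S.space.q (S.pr x) = zc (x * x) := qf_pr hx

theorem space_B [Finite G] {x y : G} (hx : x ∈ S.E) (hy : y ∈ S.E) :
    S.space.B (S.pr x) (S.pr y) = zc (x * y * x⁻¹ * y⁻¹) := Bf_pr hx hy

theorem space_B_eq_zero [Finite G] {x y : G} (hx : x ∈ S.E) (hy : y ∈ S.E) :
    S.space.B (S.pr x) (S.pr y) = 0 ↔ x * y = y * x := by
  rw [space_B hx hy]
  refine ⟨fun h => mul_inv_eq_iff_eq_mul.mp (mul_inv_eq_one.mp (zc_eq_zero h)), fun h => ?_⟩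
  rw [mul_inv_eq_one.mpr (mul_inv_eq_iff_eq_mul.mpr h), zc_one]

theorem space_om [Finite G] (v : S.Vec) : S.space.om v = S.cj S.p v := rfl

theorem isIso_cj [Finite G] {m : G} (hm : m ∈ S.H) : S.space.IsIso (S.cj m) where
  B v w := by
    show S.Bf _ _ = S.Bf _ _
    unfold Bf
    rw [← map_add, qf_cj hm, qf_cj hm, qf_cj hm]
  q := qf_cj hm

/-- Only `E` acts trivially. -/
theorem mem_E_of_cj [Finite G] {m : G} (hm : m ∈ S.H) (h : ∀ v, S.cj m v = v) : m ∈ S.E := by
  classical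
  let χ : G → ZMod 2 := fun x => zc (m * x * m⁻¹ * x⁻¹)
  have hcase : ∀ x ∈ S.E, m * x * m⁻¹ * x⁻¹ = 1 ∨ m * x * m⁻¹ * x⁻¹ = S.z := fun x hx => by
    have e := h (S.pr x)
    rw [S.cj_pr hm hx, pr_eq_iff (S.conj_mem hm hx) hx] at e
    rcases e with e | e
    · exact Or.inl (mul_inv_eq_one.2 e)
    · exact Or.inr (mul_inv_eq_iff_eq_mul.2 e)
  have hχ : ∀ x ∈ S.E, ∀ y ∈ S.E, χ (x * y) = χ x + χ y := fun x hx y hy => by
    show zc (m * (x * y) * m⁻¹ * (x * y)⁻¹) = _
    have e : m * (x * y) * m⁻¹ * (x * y)⁻¹ =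
        (m * x * m⁻¹ * x⁻¹) * (x * (m * y * m⁻¹ * y⁻¹) * x⁻¹) := by group
    have e' : x * (m * y * m⁻¹ * y⁻¹) * x⁻¹ = m * y * m⁻¹ * y⁻¹ := by
      rcases hcase y hy with e | e <;> rw [e]
      · simp
      · rw [S.sub.z_comm hx, mul_inv_cancel_right]
    rw [e, e', zc_mul (hcase x hx) (hcase y hy)]
  have hwell : ∀ x ∈ S.E, ∀ y ∈ S.E, S.pr x = S.pr y → χ x = χ y := fun x hx y hy e => by
    rcases (pr_eq_iff hx hy).1 e with rfl | rfl
    · rfl
    · rw [hχ _ S.sub.z_mem _ hy]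
      have : χ S.z = 0 := by
        show zc (m * S.z * m⁻¹ * S.z⁻¹) = 0
        rw [S.mem_H.1 hm]
        simp
      rw [this, zero_add]
  let f : S.Vec →+ ZMod 2 := AddMonoidHom.mk' (fun v => χ (Classical.choose (pr_surj v))) fun v w => by
    obtain ⟨hv, ev⟩ := Classical.choose_spec (pr_surj v)
    obtain ⟨hw, ew⟩ := Classical.choose_spec (pr_surj w)
    obtain ⟨hvw, evw⟩ := Classical.choose_spec (pr_surj (v + w))
    rw [← hχ _ hv _ hw]
    exact hwell _ hvw _ (mul_mem hv hw) (by rw [evw, pr_mul hv hw, ev, ew])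
  obtain ⟨e, he, heq⟩ := pr_surj
    ((LinearMap.BilinForm.toDual S.space.B S.space.nondeg).symm (AddMonoidHom.toZModLinearMap 2 f))
  have key : ∀ x ∈ S.E, χ x = zc (e * x * e⁻¹ * x⁻¹) := fun x hx => by
    have h1 := LinearMap.congr_fun
      ((LinearMap.BilinForm.toDual S.space.B S.space.nondeg).apply_symm_apply
        (AddMonoidHom.toZModLinearMap 2 f)) (S.pr x)
    rw [← heq, LinearMap.BilinForm.toDual_def, space_B he hx] at h1
    rw [h1]
    obtain ⟨hv, ev⟩ := Classical.choose_spec (pr_surj (S.pr x))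
    exact hwell _ hx _ hv ev.symm
  have hem : e⁻¹ * m = 1 ∨ e⁻¹ * m = S.z := S.sub.mem_of_commutes fun x hx => by
    have h1 := key x hx
    have h2 : m * x * m⁻¹ * x⁻¹ = e * x * e⁻¹ * x⁻¹ := by
      rcases hcase x hx with a | a <;> rcases S.sub.comm_eq he hx with b | b
      · rw [a, b]
      · exact absurd h1 (by simp [χ, a, b, zc_z])
      · exact absurd h1 (by simp [χ, a, b, zc_z])
      · rw [a, b]
    have h3 : m * x * m⁻¹ = e * x * e⁻¹ := mul_right_cancel h2
    calc x * (e⁻¹ * m) = e⁻¹ * (e * x * e⁻¹) * m := by group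
      _ = e⁻¹ * (m * x * m⁻¹) * m := by rw [h3]
      _ = e⁻¹ * m * x := by group
  rcases hem with e1 | e1
  · rwa [← inv_mul_eq_one.1 e1]
  · rw [inv_mul_eq_iff_eq_mul] at e1
    rw [e1]
    exact mul_mem he S.sub.z_mem

end Shape

end CfsgLib.JFourType
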