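import Cfsg.Agent.JFourType.BridgeLinear
import Cfsg.Agent.JFourType.Setup

/-!
# The hypotheses on `C(z)` before the element of order three is chosen
-/

set_option autoImplicit false
set_option linter.style.haveILetI false

namespace CfsgLib.JFourBridge

open Cfsg CfsgLib.LargeExtraspecial CfsgLib.JFourType Module

/-- A group with a self-centralising extraspecial normal subgroup of order `2 ^ 13` mapping onto
`Aut M22`, perfect over that subgroup up to the kernel. -/
structure Pre (K : Type*) [Group K] where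
  /-- the central involution -/
  z : K
  /-- the extraspecial subgroup -/
  E : Subgroup K
  sub : IsZSub E z
  z_central : ∀ k, k * z = z * k
  card_E : Nat.card E = 2 ^ 13
  /-- the map -/
  π : K →* MulAut M22g
  π_surj : Function.Surjective π
  E_le : E ≤ π.ker
  card_ker : Nat.card π.ker = 3 * 2 ^ 13
  perf : (Inn M22g).comap π ≤ ⁅(Inn M22g).comap π, (Inn M22g).comap π⁆ ⊔ E

namespace Pre

variable {K : Type*} [Group K] (D : Pre K)

theorem conj_mem (m : K) {x : K} (hx : x ∈ D.E) : m * x * m⁻¹ ∈ D.E :=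
  D.sub.conj_mem (D.z_central m) hx

theorem normal_E : D.E.Normal := ⟨fun _ hx m => D.conj_mem m hx⟩

theorem isPGroup_E : IsPGroup 2 D.E := D.sub.extra.1.1

theorem mem_center_iff (a : D.E) :
    a ∈ Subgroup.center D.E ↔ (a : K) = 1 ∨ (a : K) = D.z := by
  constructor
  · intro h
    exact D.sub.eq_or_eq ⟨a, h, rfl⟩
  · intro h
    obtain ⟨b, hb, hbe⟩ : (a : K) ∈ (Subgroup.center D.E).map D.E.subtype := by
      rcases h with h | h <;> rw [h]
      · exact one_mem _
      · exact D.sub.mem_center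
    rwa [show a = b from Subtype.ext hbe.symm]

/-- `E / Z(E)` written additively. -/
abbrev Vec := Additive (↥D.E ⧸ Subgroup.center ↥D.E)

instance vecAdd : AddCommGroup D.Vec :=
  { (inferInstance : AddGroup D.Vec) with
    add_comm := by
      intro a b
      obtain ⟨a, rfl⟩ := Additive.ofMul.surjective a
      obtain ⟨b, rfl⟩ := Additive.ofMul.surjective b
      rw [← ofMul_mul, ← ofMul_mul]
      congr 1
      induction a using QuotientGroup.induction_on with | _ a =>
      induction b using QuotientGroup.induction_on with | _ b =>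
      rw [← QuotientGroup.mk_mul, ← QuotientGroup.mk_mul, QuotientGroup.eq, D.mem_center_iff]
      have h := D.sub.comm_eq (D.E.inv_mem b.2) (D.E.inv_mem a.2)
      simpa [mul_assoc] using h }

theorem vec_add_self (v : D.Vec) : v + v = 0 := by
  obtain ⟨v, rfl⟩ := Additive.ofMul.surjective v
  induction v using QuotientGroup.induction_on with | _ a =>
  rw [← ofMul_mul, ← QuotientGroup.mk_mul, ← ofMul_one, Additive.ofMul.apply_eq_iff_eq,
    QuotientGroup.eq_one_iff, D.mem_center_iff]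
  exact D.sub.sq_eq a.2

noncomputable instance vecModule : Module (ZMod 2) D.Vec :=
  AddCommGroup.zmodModule (n := 2) fun v => by rw [two_nsmul]; exact D.vec_add_self v

open Classical in
/-- The vector of an element of `E`; zero outside `E`. -/
noncomputable def pr (x : K) : D.Vec :=
  if h : x ∈ D.E then Additive.ofMul (QuotientGroup.mk ⟨x, h⟩) else 0

variable {D}

theorem pr_of_mem {x : K} (hx : x ∈ D.E) :
    D.pr x = Additive.ofMul (QuotientGroup.mk ⟨x, hx⟩) := dif_pos hx

theorem pr_mul {x y : K} (hx : x ∈ D.E) (hy : y ∈ D.E) : D.pr (x * y) = D.pr x + D.pr y := by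
  rw [pr_of_mem hx, pr_of_mem hy, pr_of_mem (D.E.mul_mem hx hy), ← ofMul_mul,
    ← QuotientGroup.mk_mul]
  rfl

theorem pr_eq_zero {x : K} (hx : x ∈ D.E) : D.pr x = 0 ↔ x = 1 ∨ x = D.z := by
  rw [pr_of_mem hx, ← ofMul_one, Additive.ofMul.apply_eq_iff_eq, QuotientGroup.eq_one_iff,
    D.mem_center_iff]

@[simp] theorem pr_one : D.pr 1 = 0 := (pr_eq_zero D.E.one_mem).mpr (Or.inl rfl)

@[simp] theorem pr_z : D.pr D.z = 0 := (pr_eq_zero D.sub.z_mem).mpr (Or.inr rfl)

theorem pr_inv {x : K} (hx : x ∈ D.E) : D.pr x⁻¹ = D.pr x := by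
  have h := pr_mul (D.E.inv_mem hx) hx
  rw [inv_mul_cancel, pr_one] at h
  exact v_eq_of_add_eq_zero h.symm

theorem pr_eq_iff {x y : K} (hx : x ∈ D.E) (hy : y ∈ D.E) :
    D.pr x = D.pr y ↔ x = y ∨ x = D.z * y := by
  have h : D.pr (x * y⁻¹) = D.pr x + D.pr y := by rw [pr_mul hx (D.E.inv_mem hy), pr_inv hy]
  constructor
  · intro e
    rw [e, v_add_self, pr_eq_zero (D.E.mul_mem hx (D.E.inv_mem hy))] at h
    rcases h with h | h
    · exact Or.inl (mul_inv_eq_one.mp h)
    · exact Or.inr (mul_inv_eq_iff_eq_mul.mp h)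
  · rintro (rfl | rfl)
    · rfl
    · rw [pr_mul D.sub.z_mem hy, pr_z, zero_add]

theorem pr_surj (v : D.Vec) : ∃ x ∈ D.E, D.pr x = v := by
  obtain ⟨v, rfl⟩ := Additive.ofMul.surjective v
  induction v using QuotientGroup.induction_on with | _ a =>
  exact ⟨a, a.2, pr_of_mem a.2⟩

theorem card_vec [Finite K] : Nat.card D.Vec = 4096 := by
  have h := Subgroup.card_eq_card_quotient_mul_card_subgroup (Subgroup.center ↥D.E)
  rw [D.card_E, D.sub.extra.2] at h
  rw [Nat.card_congr Additive.toMul]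
  omega

theorem finrank_vec [Finite K] : finrank (ZMod 2) D.Vec = 12 := by
  have h := Module.natCard_eq_pow_finrank (K := ZMod 2) (V := D.Vec)
  rw [card_vec, Nat.card_zmod] at h
  exact Nat.pow_right_injective le_rfl (h.symm.trans (by norm_num : (4096 : ℕ) = 2 ^ 12))

/-! ### The action -/

theorem conj_pr_eq (m : K) {x y : K} (hx : x ∈ D.E) (hy : y ∈ D.E)
    (h : D.pr x = D.pr y) : D.pr (m * x * m⁻¹) = D.pr (m * y * m⁻¹) := by
  rw [pr_eq_iff (D.conj_mem m hx) (D.conj_mem m hy)]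
  rcases (pr_eq_iff hx hy).1 h with e | e
  · exact Or.inl (by rw [e])
  · refine Or.inr ?_
    rw [e, ← mul_assoc m, D.z_central m]
    group

/-- The action as a function. -/
noncomputable def cjFun (D : Pre K) (m : K) (v : D.Vec) : D.Vec :=
  D.pr (m * Classical.choose (pr_surj v) * m⁻¹)

theorem cjFun_pr (m : K) {x : K} (hx : x ∈ D.E) : cjFun D m (D.pr x) = D.pr (m * x * m⁻¹) := by
  obtain ⟨hy, hye⟩ := Classical.choose_spec (pr_surj (D.pr x))
  exact conj_pr_eq m hy hx hye

theorem cjFun_inv (m : K) (v : D.Vec) : cjFun D m⁻¹ (cjFun D m v) = v := by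
  obtain ⟨x, hx, rfl⟩ := pr_surj v
  rw [cjFun_pr m hx, cjFun_pr m⁻¹ (D.conj_mem m hx)]
  congr 1
  group

theorem cjFun_add (m : K) (v w : D.Vec) : cjFun D m (v + w) = cjFun D m v + cjFun D m w := by
  obtain ⟨x, hx, rfl⟩ := pr_surj v
  obtain ⟨y, hy, rfl⟩ := pr_surj w
  rw [← pr_mul hx hy, cjFun_pr m (mul_mem hx hy), cjFun_pr m hx, cjFun_pr m hy,
    ← pr_mul (D.conj_mem m hx) (D.conj_mem m hy)]
  congr 1
  group

variable (D)

/-- The action on `E / Z(E)`. -/
noncomputable def cj (m : K) : D.Vec ≃ₗ[ZMod 2] D.Vec :=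
  { AddMonoidHom.toZModLinearMap 2 (AddMonoidHom.mk' (cjFun D m) (cjFun_add m)) with
    invFun := cjFun D m⁻¹
    left_inv := cjFun_inv m
    right_inv := fun v => by
      have := cjFun_inv (D := D) m⁻¹ v
      rwa [inv_inv] at this }

theorem cj_pr (m : K) {x : K} (hx : x ∈ D.E) : D.cj m (D.pr x) = D.pr (m * x * m⁻¹) := cjFun_pr m hx

theorem cj_mul (m n : K) (v : D.Vec) : D.cj (m * n) v = D.cj m (D.cj n v) := by
  obtain ⟨x, hx, rfl⟩ := pr_surj v
  rw [D.cj_pr _ hx, D.cj_pr n hx, D.cj_pr m (D.conj_mem n hx)]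
  congr 1
  group

theorem cj_one (v : D.Vec) : D.cj 1 v = v := by
  obtain ⟨x, hx, rfl⟩ := pr_surj v
  rw [D.cj_pr _ hx]
  simp

theorem cj_E {e : K} (he : e ∈ D.E) (v : D.Vec) : D.cj e v = v := by
  obtain ⟨x, hx, rfl⟩ := pr_surj v
  rw [D.cj_pr _ hx, pr_eq_iff (D.conj_mem e hx) hx]
  exact D.sub.conj_eq he hx

theorem cj_pow (m : K) : ∀ (k : ℕ) (v : D.Vec), D.cj (m ^ k) v = (⇑(D.cj m))^[k] v
  | 0, v => by simp [cj_one]
  | k + 1, v => by rw [pow_succ', D.cj_mul, cj_pow m k, Function.iterate_succ_apply']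

variable {D}

open Classical in
/-- The character of `⟨z⟩`. -/
noncomputable def zc (a : K) : ZMod 2 := if a = 1 then 0 else 1



@[simp] theorem zc_one : zc (1 : K) = 0 := if_pos rfl

theorem zc_z : zc D.z = 1 := if_neg D.sub.ne_one

theorem zc_mul {a b : K} (ha : a = 1 ∨ a = D.z) (hb : b = 1 ∨ b = D.z) :
    zc (a * b) = zc a + zc b := by
  rcases ha with rfl | rfl <;> rcases hb with rfl | rfl
  · simp
  · simp
  · simp
  · rw [D.sub.mul_self, zc_one, zc_z]; decide

theorem zc_eq_zero {a : K} (h : zc a = (0 : ZMod 2)) : a = 1 := by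
  by_contra hne
  rw [zc, if_neg hne] at h
  exact one_ne_zero h

variable (D)

open Classical in
/-- The quadratic form: squaring. -/
noncomputable def qf (v : D.Vec) : ZMod 2 :=
  zc (Classical.choose (pr_surj v) * Classical.choose (pr_surj v))

/-- The polar form: commutation. -/
noncomputable def Bf (v w : D.Vec) : ZMod 2 := D.qf (v + w) + D.qf v + D.qf w

variable {D}

theorem qf_pr {x : K} (hx : x ∈ D.E) : D.qf (D.pr x) = zc (x * x) := by
  unfold qf
  obtain ⟨hy, hye⟩ := Classical.choose_spec (pr_surj (D.pr x))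
  rcases (pr_eq_iff hy hx).mp hye with e | e <;> rw [e]
  rw [show D.z * x * (D.z * x) = D.z * (x * D.z) * x by group, D.sub.z_comm hx, ← mul_assoc,
    D.sub.mul_self, one_mul]

theorem Bf_pr {x y : K} (hx : x ∈ D.E) (hy : y ∈ D.E) :
    D.Bf (D.pr x) (D.pr y) = zc (x * y * x⁻¹ * y⁻¹) := by
  unfold Bf
  rw [← pr_mul hx hy, qf_pr hx, qf_pr hy, qf_pr (D.E.mul_mem hx hy)]
  have hx2 := D.sub.sq_eq hx
  have hy2 := D.sub.sq_eq hy
  have h1 : x * y * (x * y) = (x * y * x⁻¹ * y⁻¹) * ((x * x) * (y * y)) := by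
    rcases D.sub.comm_eq hx hy with e | e <;> rw [e]
    · rw [mul_inv_eq_one, mul_inv_eq_iff_eq_mul] at e
      rw [one_mul, show x * y * (x * y) = x * (y * x) * y by group, ← e]
      group
    · have e' : x * y = D.z * (y * x) := by rw [← e]; group
      have e'' : y * x = D.z * (x * y) := by rw [e', ← mul_assoc, D.sub.mul_self, one_mul]
      rw [show x * y * (x * y) = x * (y * x) * y by group, e'',
        show x * (D.z * (x * y)) * y = x * D.z * (x * y * y) by group, D.sub.z_comm hx]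
      group
  have hxy2 : (x * x) * (y * y) = 1 ∨ (x * x) * (y * y) = D.z := by
    rcases hx2 with e | e <;> rcases hy2 with f | f <;> simp [e, f, D.sub.mul_self]
  rw [h1, zc_mul (D.sub.comm_eq hx hy) hxy2, zc_mul hx2 hy2]
  generalize zc (x * x) = a
  generalize zc (y * y) = b
  generalize zc (x * y * x⁻¹ * y⁻¹) = d
  revert a b d
  decide

theorem qf_add (v w : D.Vec) : D.qf (v + w) = D.qf v + D.qf w + D.Bf v w := by
  unfold Bf
  generalize D.qf (v + w) = a
  generalize D.qf v = b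
  generalize D.qf w = c
  revert a b c
  decide

theorem Bf_symm (v w : D.Vec) : D.Bf v w = D.Bf w v := by
  unfold Bf; rw [add_comm v w]; ring

theorem Bf_add_left (u v w : D.Vec) : D.Bf (u + v) w = D.Bf u w + D.Bf v w := by
  obtain ⟨x, hx, rfl⟩ := pr_surj u
  obtain ⟨y, hy, rfl⟩ := pr_surj v
  obtain ⟨t, ht, rfl⟩ := pr_surj w
  rw [← pr_mul hx hy, Bf_pr (D.E.mul_mem hx hy) ht, Bf_pr hx ht, Bf_pr hy ht,
    D.sub.comm_mul_left hy ht (D.sub.z_comm hx),
    zc_mul (D.sub.comm_eq hy ht) (D.sub.comm_eq hx ht), add_comm]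

theorem qf_cj (m : K) (v : D.Vec) : D.qf (D.cj m v) = D.qf v := by
  obtain ⟨x, hx, rfl⟩ := pr_surj v
  rw [D.cj_pr m hx, qf_pr (D.conj_mem m hx), qf_pr hx,
    show m * x * m⁻¹ * (m * x * m⁻¹) = m * (x * x) * m⁻¹ by group]
  rcases D.sub.sq_eq hx with e | e <;> rw [e]
  · simp
  · rw [mul_inv_eq_iff_eq_mul.mpr (D.z_central m)]

/-- The polar form, bilinear. -/
noncomputable def form (D : Pre K) : LinearMap.BilinForm (ZMod 2) D.Vec :=
  LinearMap.mk₂ (ZMod 2) D.Bf Bf_add_left
    (fun a v w => by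
      rcases zmod2_cases a with rfl | rfl
      · have h := Bf_add_left 0 0 w
        rw [add_zero] at h
        rw [zero_smul, zero_smul, left_eq_add.mp h]
      · rw [one_smul, one_smul])
    (fun u v w => by rw [Bf_symm, Bf_add_left, Bf_symm v, Bf_symm w])
    (fun a v w => by
      rcases zmod2_cases a with rfl | rfl
      · have h := Bf_add_left 0 0 v
        rw [add_zero] at h
        rw [zero_smul, zero_smul, Bf_symm, left_eq_add.mp h]
      · rw [one_smul, one_smul])

theorem form_nd (v : D.Vec) (hv : ∀ w, D.form v w = 0) : v = 0 := by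
  obtain ⟨x, hx, rfl⟩ := pr_surj v
  refine (pr_eq_zero hx).2 (D.sub.mem_of_commutes fun y hy => ?_)
  have h : D.Bf (D.pr x) (D.pr y) = 0 := hv _
  rw [Bf_pr hx hy] at h
  exact (mul_inv_eq_iff_eq_mul.mp (mul_inv_eq_one.mp (zc_eq_zero h))).symm

end Pre

end CfsgLib.JFourBridge
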