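import Cfsg.Agent.JFourType.BridgeData
import Cfsg.Agent.JFourType.BridgeVec

/-!
# The element of order three of a centralizer of shape `2^(1+12).3.Aut(M22)`

An element `p` of order three over `E` in the kernel of the map onto `Aut M22` fixes only the
centre of `E`, is inverted, and lies in the derived group of its centralizer.
-/

set_option autoImplicit false
set_option linter.style.haveILetI false
set_option linter.unusedSectionVars false

namespace CfsgLib.JFourBridge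

open Cfsg CfsgLib.LargeExtraspecial CfsgLib.JFourType Module
open scoped commutatorElement

namespace Pre

variable {K : Type*} [Group K] [Finite K] {D : Pre K}

/-- A normal 2-subgroup lies in `E`. -/
theorem le_E_of_normal {O : Subgroup K} (hO : O.Normal) (h2 : IsPGroup 2 O) : O ≤ D.E := by
  haveI : Fact (Nat.Prime 2) := ⟨Nat.prime_two⟩
  haveI := simple_M22g
  set O' := O.map D.π with hO'
  have hn' : O'.Normal := hO.map D.π D.π_surj
  set W := O'.comap (MulAut.conj : M22g →* MulAut M22g) with hW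
  have hWbot : W = ⊥ := by
    refine (hn'.comap _ : W.Normal).eq_bot_or_eq_top.resolve_right fun e => ?_
    have hmap : IsPGroup 2 (W.map (MulAut.conj : M22g →* MulAut M22g)) :=
      (h2.map D.π).to_le (Subgroup.map_comap_le _ _)
    obtain ⟨n, hn⟩ := IsPGroup.iff_card.1 hmap
    have hW' : W = ⊤ := e
    rw [Subgroup.card_map_of_injective conj_injective_M22g, hW', Subgroup.card_top,
      show Nat.card M22g = 443520 from Mathieu.card_SporM22] at hn
    exact absurd (Nat.prime_three.dvd_of_dvd_pow (show 3 ∣ 2 ^ n by rw [← hn]; norm_num)) (by norm_num)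
  have hker : O ≤ D.π.ker := by
    intro x hx
    have hσ : D.π x ∈ O' := Subgroup.mem_map_of_mem _ hx
    set σ := D.π x with hσdef
    refine MonoidHom.mem_ker.2 (DFunLike.ext _ _ fun a => ?_)
    have h : MulAut.conj (σ a * a⁻¹) ∈ O' := by
      have e : MulAut.conj (σ a * a⁻¹) = σ * (MulAut.conj a * σ⁻¹ * (MulAut.conj a)⁻¹) := by
        rw [map_mul, map_inv]
        have e1 : MulAut.conj (σ a) = σ * MulAut.conj a * σ⁻¹ := by
          ext y
          simp [MulAut.mul_apply]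
        rw [e1]
        group
      rw [e]
      exact mul_mem hσ (hn'.conj_mem _ (inv_mem hσ) _)
    have h' : σ a * a⁻¹ ∈ W := h
    rw [hWbot, Subgroup.mem_bot, mul_inv_eq_one] at h'
    rw [h']
    rfl
  haveI := D.normal_E
  have hsup : IsPGroup 2 (O ⊔ D.E : Subgroup K) := h2.to_sup_of_normal_right D.isPGroup_E
  obtain ⟨n, hn⟩ := IsPGroup.iff_card.1 hsup
  have hd := Subgroup.card_dvd_of_le (sup_le hker D.E_le)
  rw [hn, D.card_ker] at hd
  have hle : 2 ^ n ∣ 2 ^ 13 := (Nat.Coprime.pow_left n (by norm_num : Nat.Coprime 2 3)).dvd_of_dvd_mul_left hd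
  have := Subgroup.eq_of_le_of_card_ge (show D.E ≤ O ⊔ D.E from le_sup_right)
    (by rw [hn, D.card_E]; exact Nat.le_of_dvd (by norm_num) hle)
  rw [this]
  exact le_sup_left

/-- The element of order three. -/
theorem exists_p (D : Pre K) : ∃ p, p ∈ D.π.ker ∧ orderOf p = 3 ∧
    ∀ x ∈ D.π.ker, ∃ k : ℕ, ∃ e ∈ D.E, x = p ^ k * e := by
  haveI : Fact (Nat.Prime 3) := ⟨Nat.prime_three⟩
  haveI := D.normal_E
  obtain ⟨⟨p, hp⟩, hp3⟩ := exists_prime_orderOf_dvd_card' (G := D.π.ker) 3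
    (by rw [D.card_ker]; norm_num)
  rw [Subgroup.orderOf_mk] at hp3
  refine ⟨p, hp, hp3, fun x hx => ?_⟩
  have hle : Subgroup.zpowers p ⊔ D.E ≤ D.π.ker := sup_le (Subgroup.zpowers_le.2 hp) D.E_le
  have h3 := Subgroup.card_dvd_of_le (show Subgroup.zpowers p ≤ Subgroup.zpowers p ⊔ D.E from le_sup_left)
  have h2 := Subgroup.card_dvd_of_le (show D.E ≤ Subgroup.zpowers p ⊔ D.E from le_sup_right)
  rw [Nat.card_zpowers, hp3] at h3
  rw [D.card_E] at h2
  have h := Nat.Coprime.mul_dvd_of_dvd_of_dvd (by norm_num : Nat.Coprime 3 (2 ^ 13)) h3 h2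
  have heq := Subgroup.eq_of_le_of_card_ge hle
    (by rw [D.card_ker]; exact Nat.le_of_dvd Nat.card_pos h)
  rw [← heq] at hx
  obtain ⟨y, hy, e, he, rfl⟩ := Subgroup.mem_sup_of_normal_right.1 hx
  obtain ⟨k, rfl⟩ := (isOfFinOrder_of_finite p).mem_powers_iff_mem_zpowers.2 hy
  exact ⟨k, e, he, rfl⟩

/-- The choice of an element of order three in the kernel. -/
structure Three (D : Pre K) where
  /-- the element -/
  p : K
  mem : p ∈ D.π.ker
  p3 : orderOf p = 3
  span : ∀ x ∈ D.π.ker, ∃ k : ℕ, ∃ e ∈ D.E, x = p ^ k * e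

namespace Three

theorem mk_mem_E [D.E.Normal] {e : K} (he : e ∈ D.E) : (QuotientGroup.mk e : K ⧸ D.E) = 1 :=
  (QuotientGroup.eq_one_iff e).2 he

variable (T : Three D)
include T

theorem cube : T.p ^ 3 = 1 := T.p3 ▸ pow_orderOf_eq_one T.p

theorem pow_mod (k : ℕ) : T.p ^ k = T.p ^ (k % 3) := by rw [← T.p3, pow_mod_orderOf]

theorem pow_mem_E {k : ℕ} (h : T.p ^ k ∈ D.E) : T.p ^ k = 1 := by
  obtain ⟨n, hn⟩ := D.isPGroup_E ⟨_, h⟩
  have h1 : (T.p ^ k) ^ 2 ^ n = 1 := congrArg Subtype.val hn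
  have h3 : (T.p ^ k) ^ 3 = 1 := by rw [← pow_mul, mul_comm, pow_mul, T.cube, one_pow]
  have hc : Nat.gcd (2 ^ n) 3 = 1 := Nat.Coprime.pow_left n (by norm_num : Nat.Coprime 2 3)
  simpa [hc] using pow_gcd_eq_one.2 ⟨h1, h3⟩

theorem not_mem_E : T.p ∉ D.E := fun h => by
  have h1 := T.pow_mem_E (k := 1) (by rwa [pow_one])
  rw [pow_one] at h1
  have := T.p3
  rw [h1, orderOf_one] at this
  omega

section Quot

variable [D.E.Normal]

theorem mk_p_ne : (QuotientGroup.mk T.p : K ⧸ D.E) ≠ 1 := fun h =>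
  T.not_mem_E ((QuotientGroup.eq_one_iff _).1 h)

theorem mk_cube : (QuotientGroup.mk T.p : K ⧸ D.E) ^ 3 = 1 := by
  rw [← QuotientGroup.mk_pow, T.cube, QuotientGroup.mk_one]

theorem mk_inv_ne : (QuotientGroup.mk T.p : K ⧸ D.E)⁻¹ ≠ QuotientGroup.mk T.p := fun h => by
  have h2 : (QuotientGroup.mk T.p : K ⧸ D.E) ^ 2 = 1 := by
    rw [pow_two]
    exact mul_eq_one_iff_eq_inv.2 h.symm
  refine T.mk_p_ne ?_
  simpa using pow_gcd_eq_one.2 ⟨h2, T.mk_cube⟩

/-- Every element centralises or inverts `p` modulo `E`. -/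
theorem mk_conj (g : K) :
    (QuotientGroup.mk g : K ⧸ D.E) * QuotientGroup.mk T.p * (QuotientGroup.mk g : K ⧸ D.E)⁻¹ =
      QuotientGroup.mk T.p ∨
    (QuotientGroup.mk g : K ⧸ D.E) * QuotientGroup.mk T.p * (QuotientGroup.mk g : K ⧸ D.E)⁻¹ =
      (QuotientGroup.mk T.p)⁻¹ := by
  obtain ⟨k, e, he, hk⟩ := T.span _ (D.π.normal_ker.conj_mem _ T.mem g)
  have hq : (QuotientGroup.mk (g * T.p * g⁻¹) : K ⧸ D.E) = QuotientGroup.mk (T.p ^ k) := by
    rw [hk, QuotientGroup.mk_mul, mk_mem_E he, mul_one]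
  rw [QuotientGroup.mk_mul, QuotientGroup.mk_mul, QuotientGroup.mk_inv] at hq
  rw [hq, T.pow_mod]
  rcases (by omega : k % 3 = 0 ∨ k % 3 = 1 ∨ k % 3 = 2) with h | h | h <;> rw [h]
  · exfalso
    rw [T.pow_mod, h, pow_zero, QuotientGroup.mk_one, conj_eq_one_iff] at hq
    exact T.mk_p_ne hq
  · exact Or.inl (by rw [pow_one])
  · refine Or.inr (eq_inv_of_mul_eq_one_left ?_)
    rw [← QuotientGroup.mk_mul, ← pow_succ, T.cube, QuotientGroup.mk_one]

/-- The elements centralising `p` modulo `E` contain the derived group, so the preimage of the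
inner automorphisms. -/
theorem inner_mk_comm {m : K} (hm : D.π m ∈ Inn M22g) :
    (QuotientGroup.mk m : K ⧸ D.E) * QuotientGroup.mk T.p =
      QuotientGroup.mk T.p * QuotientGroup.mk m := by
  set P : K ⧸ D.E := QuotientGroup.mk T.p
  set Z := (Subgroup.centralizer ({P} : Set (K ⧸ D.E))).comap (QuotientGroup.mk' D.E)
  have hcomm : ⁅(⊤ : Subgroup K), ⊤⁆ ≤ Z := by
    refine Subgroup.commutator_le.2 fun g _ h _ => ?_
    refine Subgroup.mem_comap.2 (Subgroup.mem_centralizer_singleton_iff.2 (mul_inv_eq_iff_eq_mul.1 ?_))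
    rw [map_commutatorElement, commutatorElement_def]
    simp only [QuotientGroup.mk'_apply]
    have hinv : ∀ x : K ⧸ D.E, (x * P * x⁻¹ = P ∨ x * P * x⁻¹ = P⁻¹) →
        ∀ (y : K ⧸ D.E), y = P ∨ y = P⁻¹ →
        (x * P * x⁻¹ = P → x * y * x⁻¹ = y) ∧ (x * P * x⁻¹ = P⁻¹ → x * y * x⁻¹ = y⁻¹) := by
      intro x _ y hy
      have e : x * P⁻¹ * x⁻¹ = (x * P * x⁻¹)⁻¹ := by group
      refine ⟨fun hx => ?_, fun hx => ?_⟩ <;> rcases hy with rfl | rfl
      · exact hx
      · rw [e, hx]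
      · exact hx
      · rw [e, hx]
    set a : K ⧸ D.E := QuotientGroup.mk g
    set b : K ⧸ D.E := QuotientGroup.mk h
    have conjInv : ∀ x : K ⧸ D.E, x * P * x⁻¹ = P → x⁻¹ * P * x⁻¹⁻¹ = P := fun x hx => by
      conv_lhs => rw [← hx]
      group
    have conjInv' : ∀ x : K ⧸ D.E, x * P * x⁻¹ = P⁻¹ → x⁻¹ * P * x⁻¹⁻¹ = P⁻¹ := fun x hx => by
      have e : P = x * P⁻¹ * x⁻¹ := by
        rw [show x * P⁻¹ * x⁻¹ = (x * P * x⁻¹)⁻¹ by group, hx, inv_inv]
      conv_lhs => rw [e]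
      group
    have hba : a * b * a⁻¹ * b⁻¹ * P * (a * b * a⁻¹ * b⁻¹)⁻¹ =
        a * (b * (a⁻¹ * (b⁻¹ * P * b⁻¹⁻¹) * a⁻¹⁻¹) * b⁻¹) * a⁻¹ := by group
    rw [hba]
    rcases T.mk_conj g with ha | ha <;> rcases T.mk_conj h with hb | hb
    · rw [conjInv b hb, conjInv a ha, hb, ha]
    · rw [conjInv' b hb, (hinv a⁻¹ (Or.inl (conjInv a ha)) P⁻¹ (Or.inr rfl)).1 (conjInv a ha),
        (hinv b (Or.inr hb) P⁻¹ (Or.inr rfl)).2 hb, inv_inv, ha]
    · rw [conjInv b hb, conjInv' a ha, (hinv b (Or.inl hb) P⁻¹ (Or.inr rfl)).1 hb,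
        (hinv a (Or.inr ha) P⁻¹ (Or.inr rfl)).2 ha, inv_inv]
    · rw [conjInv' b hb, (hinv a⁻¹ (Or.inr (conjInv' a ha)) P⁻¹ (Or.inr rfl)).2 (conjInv' a ha),
        inv_inv, hb, (hinv a (Or.inr ha) P⁻¹ (Or.inr rfl)).2 ha, inv_inv]
  have hE : D.E ≤ Z := fun e he => Subgroup.mem_comap.2 (Subgroup.mem_centralizer_singleton_iff.2
    (by rw [QuotientGroup.mk'_apply, mk_mem_E he, one_mul, mul_one]))
  exact Subgroup.mem_centralizer_singleton_iff.1
    ((sup_le ((Subgroup.commutator_mono le_top le_top).trans hcomm) hE) (D.perf hm))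

/-- Adjusting by `E`, an element normalises `⟨p⟩`. -/
theorem exists_adjust (g : K) : ∃ e ∈ D.E,
    e * g * T.p * (e * g)⁻¹ = T.p ∨ e * g * T.p * (e * g)⁻¹ = T.p⁻¹ := by
  haveI : Fact (Nat.Prime 3) := ⟨Nat.prime_three⟩
  have hfac : (Nat.card D.π.ker).factorization 3 = 1 := by
    rw [D.card_ker, show (3 * 2 ^ 13 : ℕ) = 3 ^ 1 * 8192 by norm_num,
      Nat.factorization_mul (by norm_num) (by norm_num), Finsupp.add_apply,
      Nat.Prime.factorization_pow Nat.prime_three, Finsupp.single_eq_same,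
      Nat.factorization_eq_zero_of_not_dvd (by norm_num)]
  let p0 : D.π.ker := ⟨T.p, T.mem⟩
  let y0 : D.π.ker := ⟨g * T.p * g⁻¹, D.π.normal_ker.conj_mem _ T.mem g⟩
  have hy3 : orderOf y0 = 3 := by
    rw [Subgroup.orderOf_mk, show g * T.p * g⁻¹ = MulAut.conj g T.p from rfl, MulEquiv.orderOf_eq,
      T.p3]
  let P : Sylow 3 D.π.ker := Sylow.ofCard (Subgroup.zpowers p0) (by
    rw [Nat.card_zpowers, Subgroup.orderOf_mk, T.p3, hfac, pow_one])
  let Q : Sylow 3 D.π.ker := Sylow.ofCard (Subgroup.zpowers y0) (by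
    rw [Nat.card_zpowers, hy3, hfac, pow_one])
  obtain ⟨n, hn⟩ := MulAction.exists_smul_eq D.π.ker Q P
  have h : MulAut.conj n y0 ∈ (P : Subgroup D.π.ker) := by
    rw [← hn, Sylow.coe_subgroup_smul]
    exact Subgroup.smul_mem_pointwise_smul _ (MulAut.conj n) _ (Subgroup.mem_zpowers y0)
  obtain ⟨i, hi⟩ := (isOfFinOrder_of_finite p0).mem_powers_iff_mem_zpowers.2 h
  simp only at hi
  have hi' : (n : K) * (g * T.p * g⁻¹) * (n : K)⁻¹ = T.p ^ i :=
    (congrArg Subtype.val hi).symm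
  obtain ⟨j, e, he, hne⟩ := T.span _ n.2
  refine ⟨e, he, ?_⟩
  have e1 : e * g * T.p * (e * g)⁻¹ = T.p ^ i := by
    calc e * g * T.p * (e * g)⁻¹
        = (T.p ^ j)⁻¹ * ((T.p ^ j * e) * (g * T.p * g⁻¹) * (T.p ^ j * e)⁻¹) * T.p ^ j := by group
      _ = (T.p ^ j)⁻¹ * T.p ^ i * T.p ^ j := by rw [← hne, hi']
      _ = T.p ^ i := by
          rw [mul_assoc, ← pow_add, add_comm, pow_add, inv_mul_cancel_left]
  rw [T.pow_mod] at e1
  rcases (by omega : i % 3 = 0 ∨ i % 3 = 1 ∨ i % 3 = 2) with h | h | h <;> rw [h] at e1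
  · rw [pow_zero, conj_eq_one_iff] at e1
    have := T.p3
    rw [e1, orderOf_one] at this
    norm_num at this
  · exact Or.inl (by rw [e1, pow_one])
  · exact Or.inr (e1.trans (inv_eq_of_mul_eq_one_right (by rw [← pow_succ']; exact T.cube)).symm)

/-- An element over an inner automorphism is one of `E` times one commuting with `p`. -/
theorem exists_comm {m : K} (hm : D.π m ∈ Inn M22g) :
    ∃ e ∈ D.E, e * m * T.p = T.p * (e * m) := by
  obtain ⟨e, he, h | h⟩ := T.exists_adjust m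
  · exact ⟨e, he, mul_inv_eq_iff_eq_mul.1 h⟩
  · exfalso
    have h' := congrArg (fun u : K => (QuotientGroup.mk u : K ⧸ D.E)) h
    simp only [QuotientGroup.mk_mul, QuotientGroup.mk_inv, mk_mem_E he, one_mul] at h'
    rw [mul_inv_eq_iff_eq_mul.2 (T.inner_mk_comm hm)] at h'
    exact T.mk_inv_ne h'.symm

theorem psi_exists (m : K) (hm : D.π m ∈ Inn M22g) : ∃ a : M22g, MulAut.conj a = D.π m := hm

/-- Lifts of independent commuting elements of order three do not commute modulo `E`. -/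
theorem not_commute_lifts {a b : M22g} (ha : orderOf a = 3) (hb : orderOf b = 3)
    (hind : b ∉ Subgroup.zpowers a) (hab : a * b = b * a) {u v : K}
    (hu : D.π u = MulAut.conj a) (hv : D.π v = MulAut.conj b) :
    (QuotientGroup.mk u : K ⧸ D.E) * QuotientGroup.mk v ≠
      QuotientGroup.mk v * QuotientGroup.mk u := by
  intro hcom
  have : Fact (Nat.Prime 3) := ⟨Nat.prime_three⟩
  set M := (Inn M22g).comap D.π with hM
  have hEM : D.E ≤ M := fun e he => by
    show D.π e ∈ Inn M22g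
    rw [MonoidHom.mem_ker.1 (D.E_le he)]
    exact one_mem _
  let EM : Subgroup M := D.E.subgroupOf M
  -- the map onto `M22`
  let conjEquiv := MonoidHom.ofInjective conj_injective_M22g
  let ψ : ↥M →* M22g :=
    conjEquiv.symm.toMonoidHom.comp ((D.π.comp M.subtype).codRestrict (Inn M22g) fun m => m.2)
  have hψ : ∀ m : M, MulAut.conj (ψ m) = D.π m := fun m => by
    have := congrArg Subtype.val (conjEquiv.apply_symm_apply ⟨D.π m, m.2⟩)
    exact this
  have hψE : EM ≤ ψ.ker := fun m hm => MonoidHom.mem_ker.2 (conj_injective_M22g (by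
    rw [hψ, map_one]
    exact MonoidHom.mem_ker.1 (D.E_le hm)))
  let ψq : ↥M ⧸ EM →* M22g := QuotientGroup.lift EM ψ hψE
  have hsurj : Function.Surjective ψq := fun c => by
    obtain ⟨m, hm⟩ := D.π_surj (MulAut.conj c)
    exact ⟨QuotientGroup.mk (⟨m, ⟨c, hm.symm⟩⟩ : M), conj_injective_M22g (by
      show MulAut.conj (ψ _) = _
      rw [hψ]; exact hm)⟩
  have hpM : T.p ∈ M := by
    show D.π T.p ∈ Inn M22g
    rw [MonoidHom.mem_ker.1 T.mem]
    exact one_mem _
  let u' : ↥M ⧸ EM := QuotientGroup.mk (⟨u, ⟨a, hu.symm⟩⟩ : M)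
  let v' : ↥M ⧸ EM := QuotientGroup.mk (⟨v, ⟨b, hv.symm⟩⟩ : M)
  let p' : ↥M ⧸ EM := QuotientGroup.mk (⟨T.p, hpM⟩ : M)
  -- equalities in `M / E` from those in `K / E`
  have hdown : ∀ x y : M, (QuotientGroup.mk (x : K) : K ⧸ D.E) = QuotientGroup.mk (y : K) →
      (QuotientGroup.mk x : ↥M ⧸ EM) = QuotientGroup.mk y := fun x y h => by
    rw [QuotientGroup.eq] at h ⊢
    exact Subgroup.mem_subgroupOf.2 h
  have hp : ∀ x : ↥M ⧸ EM, x * p' = p' * x := fun x => by
    induction x using QuotientGroup.induction_on with | _ m =>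
    exact hdown (m * ⟨T.p, hpM⟩) (⟨T.p, hpM⟩ * m) (by
      simp only [Subgroup.coe_mul, QuotientGroup.mk_mul]
      exact T.inner_mk_comm m.2)
  have huv : u' * v' = v' * u' := by
    refine hdown ((⟨u, ⟨a, hu.symm⟩⟩ : M) * (⟨v, ⟨b, hv.symm⟩⟩ : M))
      ((⟨v, ⟨b, hv.symm⟩⟩ : M) * (⟨u, ⟨a, hu.symm⟩⟩ : M)) ?_
    simp only [Subgroup.coe_mul, QuotientGroup.mk_mul]
    exact hcom
  let A : Subgroup (↥M ⧸ EM) := Subgroup.closure {u', v', p'}
  haveI hA : IsMulCommutative A := by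
    refine Subgroup.isMulCommutative_closure fun x hx y hy => ?_
    rcases hx with rfl | rfl | rfl <;> rcases hy with rfl | rfl | rfl <;>
      first | rfl | exact huv | exact huv.symm | exact hp _ | exact (hp _).symm
  have hker : ψq.ker ≤ A := by
    intro x hx
    obtain ⟨⟨m, hm⟩, rfl⟩ := QuotientGroup.mk_surjective x
    have h1 : m ∈ D.π.ker := by
      refine MonoidHom.mem_ker.2 ?_
      have : ψ ⟨m, hm⟩ = 1 := hx
      rw [← hψ ⟨m, hm⟩, this, map_one]
    obtain ⟨k, e, he, rfl⟩ := T.span _ h1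
    have e1 : (QuotientGroup.mk (⟨T.p ^ k * e, hm⟩ : M) : ↥M ⧸ EM) = p' ^ k := by
      rw [← QuotientGroup.mk_pow]
      refine hdown _ _ ?_
      rw [SubmonoidClass.coe_pow]
      show (QuotientGroup.mk (T.p ^ k * e) : K ⧸ D.E) = QuotientGroup.mk (T.p ^ k)
      rw [QuotientGroup.mk_mul, mk_mem_E he, mul_one]
    rw [e1]
    exact pow_mem (Subgroup.subset_closure (by simp)) k
  have hψu : ψq u' = a := conj_injective_M22g ((hψ _).trans hu)
  have hψv : ψq v' = b := conj_injective_M22g ((hψ _).trans hv)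
  let Q : Subgroup M22g := Subgroup.closure {a, b}
  haveI hQ : IsMulCommutative Q := by
    refine Subgroup.isMulCommutative_closure fun x hx y hy => ?_
    rcases hx with rfl | rfl <;> rcases hy with rfl | rfl <;>
      first | rfl | exact hab | exact hab.symm
  have h9 : 9 ∣ Nat.card (A.map ψq) := by
    have hle : Q ≤ A.map ψq := by
      refine (Subgroup.closure_le _).2 ?_
      rintro x (rfl | rfl)
      · exact ⟨u', Subgroup.subset_closure (by simp), hψu⟩
      · exact ⟨v', Subgroup.subset_closure (by simp), hψv⟩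
    refine dvd_trans ?_ (Subgroup.card_dvd_of_le hle)
    have hlt : Subgroup.zpowers a ≤ Q := Subgroup.zpowers_le.2 (Subgroup.subset_closure (by simp))
    have hbQ : b ∈ Q := Subgroup.subset_closure (by simp)
    have hP : IsPGroup 3 Q := by
      intro x
      refine ⟨1, Subtype.ext ?_⟩
      have : ∀ y ∈ Q, y ^ 3 = 1 := by
        intro y hy
        induction hy using Subgroup.closure_induction with
        | mem y hy =>
          rcases hy with rfl | rfl
          · rw [← ha]; exact pow_orderOf_eq_one _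
          · rw [← hb]; exact pow_orderOf_eq_one _
        | one => simp
        | mul y w hy hw e e' =>
          rw [Commute.mul_pow, e, e', one_mul]
          exact (congrArg Subtype.val (mul_comm' (⟨y, hy⟩ : Q) ⟨w, hw⟩) :)
        | inv y hy e => rw [inv_pow, e, inv_one]
      simpa using this x.1 x.2
    obtain ⟨n, hn⟩ := IsPGroup.iff_card.1 hP
    have hn2 : 2 ≤ n := by
      by_contra hlt2
      have h1 : Nat.card Q ≤ 3 := by
        rw [hn]
        exact le_trans (Nat.pow_le_pow_right (by norm_num) (show n ≤ 1 by omega)) (le_of_eq (pow_one 3))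
      have := Subgroup.eq_of_le_of_card_ge hlt (by rw [Nat.card_zpowers, ha]; exact h1)
      exact hind (this ▸ hbQ)
    rw [hn]
    exact dvd_trans (by norm_num : 9 ∣ 3 ^ 2) (pow_dvd_pow 3 hn2)
  have hidx : ¬ 3 ∣ A.index := by
    have e : (A.map ψq).index = A.index := A.index_map_eq hsurj hker
    have h := (A.map ψq).card_mul_index
    rw [Mathieu.card_SporM22] at h
    rw [← e]
    intro h3
    have := mul_dvd_mul h9 h3
    rw [h] at this
    omega
  have hkey : ∀ (k : ℕ) (g₀ : ↥M ⧸ EM), g₀⁻¹ * p' ^ k * g₀ ∈ A → g₀⁻¹ * p' ^ k * g₀ = p' ^ k :=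
    fun k g₀ _ => by
      have hc : Commute g₀ p' := hp g₀
      rw [mul_assoc, ← (hc.pow_right k).eq, inv_mul_cancel_left]
  open scoped IsMulCommutative in
  have h1 := MonoidHom.transfer_eq_pow (MonoidHom.id A) p' hkey
  have hder : p' ∈ commutator (↥M ⧸ EM) := by
    haveI : EM.Normal := inferInstance
    have hpe : T.p ∈ ⁅M, M⁆ ⊔ D.E := D.perf hpM
    obtain ⟨c, hc, e, he, hce⟩ := Subgroup.mem_sup_of_normal_right.1 hpe
    rw [← Subgroup.map_subtype_commutator] at hc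
    obtain ⟨c', hc', rfl⟩ := hc
    have e1 : p' = QuotientGroup.mk c' := hdown ⟨T.p, hpM⟩ c' (by
      show (QuotientGroup.mk T.p : K ⧸ D.E) = _
      rw [← hce, QuotientGroup.mk_mul, mk_mem_E he, mul_one]
      rfl)
    rw [e1]
    have := Subgroup.mem_map_of_mem (QuotientGroup.mk' EM) hc'
    rw [commutator_def, Subgroup.map_commutator] at this
    exact Subgroup.commutator_mono le_top le_top this
  rw [Abelianization.commutator_subset_ker _ hder] at h1
  have h2 : p' ^ A.index = 1 := (congrArg Subtype.val h1).symm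
  have h3 : T.p ^ A.index ∈ D.E := by
    rw [← QuotientGroup.mk_pow, QuotientGroup.eq_one_iff] at h2
    simpa using Subgroup.mem_subgroupOf.1 h2
  have h4 := orderOf_dvd_of_pow_eq_one (T.pow_mem_E h3)
  rw [T.p3] at h4
  exact hidx h4

/-- Some element inverts `p`. -/
theorem exists_invert : ∃ g : K, g * T.p * g⁻¹ = T.p⁻¹ := by
  obtain ⟨a, b, σ, ha, hb, hab, hind, hfa, hfb⟩ := exists_flip
  obtain ⟨u, hu⟩ := D.π_surj (MulAut.conj a)
  obtain ⟨v, hv⟩ := D.π_surj (MulAut.conj b)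
  obtain ⟨s, hs⟩ := D.π_surj σ
  set P : K ⧸ D.E := QuotientGroup.mk T.p with hP
  set U : K ⧸ D.E := QuotientGroup.mk u with hU
  set V : K ⧸ D.E := QuotientGroup.mk v with hV
  set S : K ⧸ D.E := QuotientGroup.mk s with hS
  have hUP : U * P = P * U := T.inner_mk_comm ⟨a, hu.symm⟩
  have hVP : V * P = P * V := T.inner_mk_comm ⟨b, hv.symm⟩
  -- values in the image of the kernel
  have hker : ∀ x : K, D.π x = 1 → ∃ k : ℕ, (QuotientGroup.mk x : K ⧸ D.E) = P ^ k := fun x hx => by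
    obtain ⟨k, e, he, rfl⟩ := T.span x hx
    exact ⟨k, by rw [QuotientGroup.mk_mul, mk_mem_E he, mul_one, QuotientGroup.mk_pow]⟩
  have hconj : ∀ c : M22g, MulAut.conj (σ c) = σ * MulAut.conj c * σ⁻¹ := fun c => by
    ext y; simp [MulAut.mul_apply]
  obtain ⟨i, hi⟩ := hker (s * u * s⁻¹ * u⁻¹) (by
    rw [map_mul, map_mul, map_mul, map_inv, map_inv, hu, hs, ← hconj, hfa, mul_inv_cancel])
  obtain ⟨j, hj⟩ := hker (s * v * s⁻¹ * v) (by
    rw [map_mul, map_mul, map_mul, map_inv, hv, hs, ← hconj, hfb, map_inv, inv_mul_cancel])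
  obtain ⟨c, hc⟩ := hker (u * v * u⁻¹ * v⁻¹) (by
    rw [map_mul, map_mul, map_mul, map_inv, map_inv, hu, hv, ← map_mul, hab, map_mul]
    group)
  simp only [QuotientGroup.mk_mul, QuotientGroup.mk_inv] at hi hj hc
  rw [← hU, ← hS] at hi
  rw [← hV, ← hS] at hj
  rw [← hU, ← hV] at hc
  rcases T.mk_conj s with hsP | hsP
  · exfalso
    rw [← hS, ← hP] at hsP
    refine T.not_commute_lifts ha hb hind hab hu hv ?_
    show U * V = V * U
    have hz : ∀ n : ℕ, Commute U (P ^ n) ∧ Commute V (P ^ n) := fun n =>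
      ⟨(show Commute U P from hUP).pow_right n, (show Commute V P from hVP).pow_right n⟩
    have hSU : S * U * S⁻¹ = P ^ i * U := mul_inv_eq_iff_eq_mul.1 hi
    have hSV : S * V * S⁻¹ = P ^ j * V⁻¹ := eq_mul_inv_iff_mul_eq.2 hj
    have hSc : S * (P ^ c) * S⁻¹ = P ^ c := by rw [← conj_pow, hsP]
    have hVi : V⁻¹ * (P ^ i)⁻¹ = (P ^ i)⁻¹ * V⁻¹ := ((hz i).2.inv_left.inv_right).eq
    have e1 : U * V⁻¹ * U⁻¹ * V = P ^ c := by
      calc U * V⁻¹ * U⁻¹ * V = (P ^ i * U) * (P ^ j * V⁻¹) * (P ^ i * U)⁻¹ * (P ^ j * V⁻¹)⁻¹ := by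
            have h1 : Commute (P ^ j) U := (hz j).1.symm
            have h2 : Commute (P ^ j) V := (hz j).2.symm
            have h3 : Commute (P ^ i) U := (hz i).1.symm
            have h4 : Commute (P ^ i) V := (hz i).2.symm
            have h5 : Commute (P ^ i) (P ^ j) := Commute.pow_pow_self P i j
            symm
            calc (P ^ i * U) * (P ^ j * V⁻¹) * (P ^ i * U)⁻¹ * (P ^ j * V⁻¹)⁻¹
                = P ^ i * (U * P ^ j) * (V⁻¹ * U⁻¹) * (P ^ i)⁻¹ * (V * (P ^ j)⁻¹) := by group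
              _ = P ^ i * P ^ j * (U * (V⁻¹ * U⁻¹)) * (P ^ i)⁻¹ * ((P ^ j)⁻¹ * V) := by
                  rw [← h1.eq, ← h2.inv_left.eq]; group
              _ = P ^ i * P ^ j * ((P ^ i)⁻¹ * (U * (V⁻¹ * U⁻¹))) * ((P ^ j)⁻¹ * V) := by
                  rw [(h3.mul_right (h4.inv_right.mul_right h3.inv_right)).inv_left.eq]; group
              _ = P ^ j * (U * (V⁻¹ * U⁻¹)) * (P ^ j)⁻¹ * V := by rw [h5.eq]; group
              _ = U * V⁻¹ * U⁻¹ * V := by
                  rw [(h1.mul_right (h2.inv_right.mul_right h1.inv_right)).eq]; group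
        _ = (S * U * S⁻¹) * (S * V * S⁻¹) * (S * U * S⁻¹)⁻¹ * (S * V * S⁻¹)⁻¹ := by rw [hSU, hSV]
        _ = S * (U * V * U⁻¹ * V⁻¹) * S⁻¹ := by group
        _ = P ^ c := by rw [hc, hSc]
    have e2 : U * V⁻¹ * U⁻¹ * V = (P ^ c)⁻¹ := by
      calc U * V⁻¹ * U⁻¹ * V = V⁻¹ * (V * U * V⁻¹ * U⁻¹) * V := by group
        _ = V⁻¹ * (P ^ c)⁻¹ * V := by rw [← hc]; group
        _ = (P ^ c)⁻¹ := by rw [((hz c).2.inv_left.inv_right).eq, inv_mul_cancel_right]
    have h2 : (P ^ c) ^ 2 = 1 := by rw [pow_two]; exact mul_eq_one_iff_eq_inv.2 (e1.symm.trans e2)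
    have h3 : (P ^ c) ^ 3 = 1 := by rw [← pow_mul, mul_comm, pow_mul, T.mk_cube, one_pow]
    have hc1 : P ^ c = 1 := by simpa using pow_gcd_eq_one.2 ⟨h2, h3⟩
    rw [hc1, mul_inv_eq_one, mul_inv_eq_iff_eq_mul] at hc
    exact hc
  · obtain ⟨e, he, h | h⟩ := T.exists_adjust s
    · exfalso
      have h' := congrArg (fun u : K => (QuotientGroup.mk u : K ⧸ D.E)) h
      simp only [QuotientGroup.mk_mul, QuotientGroup.mk_inv, mk_mem_E he, one_mul] at h'
      exact T.mk_inv_ne (hsP.symm.trans h')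
    · exact ⟨e * s, h⟩

/-- `p` fixes only the centre of `E`. -/
theorem fixp {e₀ : K} (he₀ : e₀ ∈ D.E) (hc₀ : T.p * e₀ = e₀ * T.p) : e₀ = 1 ∨ e₀ = D.z := by
  by_contra hne
  haveI := simple_M22g
  set a := D.cj T.p with ha
  have ha3 : ∀ v, (⇑a)^[3] v = v := fun v => by rw [ha, ← D.cj_pow, T.cube, D.cj_one]
  have h0 : ∃ v, v ≠ 0 ∧ a v = v := ⟨D.pr e₀, fun h => hne ((pr_eq_zero he₀).1 h), by
    rw [ha, D.cj_pr _ he₀, hc₀, mul_inv_cancel_right]⟩
  let W := LinearMap.range (nMap a)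
  let L : Subgroup K :=
    { carrier := {k | k * T.p = T.p * k ∧ D.π k ∈ Inn M22g ∧ ∀ w ∈ W, D.cj k w = w}
      one_mem' := ⟨by simp, by rw [map_one]; exact one_mem _, fun w _ => D.cj_one w⟩
      mul_mem' := by
        rintro k l ⟨hk, hk', hk''⟩ ⟨hl, hl', hl''⟩
        exact ⟨(Commute.mul_left hk hl).eq, by rw [map_mul]; exact mul_mem hk' hl',
          fun w hw => by rw [D.cj_mul, hl'' w hw, hk'' w hw]⟩
      inv_mem' := by
        rintro k ⟨hk, hk', hk''⟩
        refine ⟨(show Commute k T.p from hk).inv_left.eq, by rw [map_inv]; exact inv_mem hk',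
          fun w hw => ?_⟩
        conv_lhs => rw [← hk'' w hw]
        rw [← D.cj_mul, inv_mul_cancel, D.cj_one] }
  let I : Subgroup M22g := (L.map D.π).comap (MulAut.conj : M22g →* MulAut M22g)
  -- lifts commuting with `p`
  have hlift : ∀ c : M22g, ∃ k : K, k * T.p = T.p * k ∧ D.π k = MulAut.conj c := fun c => by
    obtain ⟨m, hm⟩ := D.π_surj (MulAut.conj c)
    obtain ⟨e, he, h⟩ := T.exists_comm (m := m) ⟨c, hm.symm⟩
    exact ⟨e * m, h, by rw [map_mul, MonoidHom.mem_ker.1 (D.E_le he), one_mul, hm]⟩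
  have hWst : ∀ k : K, k * T.p = T.p * k → ∀ w ∈ W, D.cj k w ∈ W := by
    rintro k hk _ ⟨v, rfl⟩
    refine ⟨D.cj k v, ?_⟩
    rw [nMap_apply, nMap_apply, map_add, ha, ← D.cj_mul, ← D.cj_mul, hk]
  have hIn : I.Normal := ⟨fun c ⟨l, ⟨hl, hl', hl''⟩, e⟩ d => by
    obtain ⟨k, hk, hkd⟩ := hlift d
    refine ⟨k * l * k⁻¹, ⟨?_, ?_, fun w hw => ?_⟩, ?_⟩
    · exact ((Commute.mul_left hk hl).mul_left (show Commute k T.p from hk).inv_left).eq
    · rw [map_mul, map_mul, map_inv]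
      exact (inferInstance : (Inn M22g).Normal).conj_mem _ hl' _
    · rw [D.cj_mul, D.cj_mul, hl'' _ (hWst _ (show Commute k T.p from hk).inv_left.eq _ hw),
        ← D.cj_mul, mul_inv_cancel, D.cj_one]
    · rw [map_mul, map_mul, map_inv, hkd, e, map_mul, map_mul, map_inv]⟩
  -- an element of order seven
  haveI : Fact (Nat.Prime 7) := ⟨by norm_num⟩
  obtain ⟨c, hc7⟩ := exists_prime_orderOf_dvd_card' (G := M22g) 7
    (by rw [show Nat.card M22g = 443520 from Mathieu.card_SporM22]; norm_num)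
  obtain ⟨y, hy, hyc⟩ := hlift c
  set x := y ^ 3 with hx
  have hxp : x * T.p = T.p * x := ((show Commute y T.p from hy).pow_left 3).eq
  have hx7 : ∀ v, (⇑(D.cj x))^[7] v = v := by
    intro v
    rw [← D.cj_pow]
    have h1 : D.π (y ^ 7) = 1 := by
      rw [map_pow, hyc, ← map_pow, ← hc7, pow_orderOf_eq_one, map_one]
    obtain ⟨k, e, he, hk⟩ := T.span _ h1
    refine D.cj_E ?_ v
    have e1 : (QuotientGroup.mk (x ^ 7) : K ⧸ D.E) = 1 := by
      rw [hx, ← pow_mul, mul_comm, pow_mul, hk, QuotientGroup.mk_pow, QuotientGroup.mk_mul,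
        mk_mem_E he, mul_one, ← QuotientGroup.mk_pow, ← pow_mul, mul_comm, pow_mul, T.cube, one_pow,
        QuotientGroup.mk_one]
    exact (QuotientGroup.eq_one_iff _).1 e1
  have hxW : ∀ w ∈ W, D.cj x w = w := by
    rintro _ ⟨w, rfl⟩
    exact fixes_range (q := D.qf) (B := D.form) qf_add form_nd finrank_vec (qf_cj T.p) (qf_cj x)
      ha3 hx7 (fun v => by rw [← D.cj_mul, ← D.cj_mul, hxp]) h0 w
  have hxI : c ^ 3 ∈ I :=
    ⟨x, ⟨hxp, ⟨c ^ 3, by rw [hx, map_pow, map_pow, hyc]⟩, hxW⟩,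
      by rw [hx, map_pow, hyc, map_pow]⟩
  have hItop : I = ⊤ := hIn.eq_bot_or_eq_top.resolve_left fun e => by
    rw [e, Subgroup.mem_bot] at hxI
    have := orderOf_dvd_of_pow_eq_one hxI
    rw [hc7] at this
    norm_num at this
  -- every element over an inner automorphism acts on `W` as a power of `a`
  have hact : ∀ m : K, D.π m ∈ Inn M22g → ∃ i : ℕ, ∀ w ∈ W, D.cj m w = (⇑a)^[i] w := by
    rintro m ⟨d, hd⟩
    obtain ⟨e, he, hem⟩ := T.exists_comm (m := m) ⟨d, hd⟩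
    obtain ⟨l, ⟨hl, -, hl''⟩, hld⟩ := (hItop ▸ Subgroup.mem_top d : d ∈ I)
    have h1 : D.π (l⁻¹ * (e * m)) = 1 := by
      rw [map_mul, map_mul, map_inv, hld, MonoidHom.mem_ker.1 (D.E_le he), one_mul, ← hd,
        inv_mul_cancel]
    obtain ⟨k, f, hf, hk⟩ := T.span _ h1
    refine ⟨k, fun w hw => ?_⟩
    have e1 : m = e⁻¹ * (l * (T.p ^ k * f)) := by rw [← hk]; group
    rw [e1, D.cj_mul, D.cj_E (inv_mem he), D.cj_mul, D.cj_mul, D.cj_E hf, D.cj_pow]
    refine hl'' _ ?_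
    have hst : ∀ u ∈ (W : Set D.Vec), a u ∈ (W : Set D.Vec) := fun u hu => hWst T.p rfl u hu
    exact Set.MapsTo.iterate (s := (W : Set D.Vec)) hst k hw
  let Tw : Subgroup K :=
    { carrier := {m | ∀ w ∈ W, D.cj m w = w}
      one_mem' := fun w _ => D.cj_one w
      mul_mem' := fun {k l} hk hl w hw => by rw [D.cj_mul, hl w hw, hk w hw]
      inv_mem' := fun {k} hk w hw => by
        conv_lhs => rw [← hk w hw]
        rw [← D.cj_mul, inv_mul_cancel, D.cj_one] }
  have hst : ∀ (n : ℕ), ∀ u ∈ (W : Set D.Vec), (⇑a)^[n] u ∈ (W : Set D.Vec) := fun n u hu =>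
    Set.MapsTo.iterate (s := (W : Set D.Vec)) (fun u hu => hWst T.p rfl u hu) n hu
  have hTw : (Inn M22g).comap D.π ≤ Tw := by
    refine le_trans D.perf (sup_le (Subgroup.commutator_le.2 ?_) fun e he w _ => D.cj_E he w)
    intro m hm n hn w hw
    obtain ⟨i, hi⟩ := hact m hm
    obtain ⟨j, hj⟩ := hact n hn
    obtain ⟨i', hi'⟩ := hact m⁻¹ (by rw [map_inv]; exact inv_mem hm)
    obtain ⟨j', hj'⟩ := hact n⁻¹ (by rw [map_inv]; exact inv_mem hn)
    have hmm : (⇑a)^[i + i'] w = w := by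
      rw [Function.iterate_add_apply, ← hi' w hw, ← hi _ (by rw [hi' w hw]; exact hst i' w hw),
        ← D.cj_mul, mul_inv_cancel, D.cj_one]
    have hnn : (⇑a)^[j + j'] w = w := by
      rw [Function.iterate_add_apply, ← hj' w hw, ← hj _ (by rw [hj' w hw]; exact hst j' w hw),
        ← D.cj_mul, mul_inv_cancel, D.cj_one]
    rw [commutatorElement_def, D.cj_mul, D.cj_mul, D.cj_mul, hj' w hw, hi' _ (hst j' w hw),
      hj _ (hst i' _ (hst j' w hw)), hi _ (hst j _ (hst i' _ (hst j' w hw))),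
      ← Function.iterate_add_apply, ← Function.iterate_add_apply, ← Function.iterate_add_apply,
      show i + j + i' + j' = (i + i') + (j + j') by ring, Function.iterate_add_apply, hnn, hmm]
  have hpW : ∀ v, a v = v := fun v => by
    have h1 : T.p ∈ Tw := hTw (by
      show D.π T.p ∈ Inn M22g
      rw [MonoidHom.mem_ker.1 T.mem]
      exact one_mem _)
    have h2 : nMap a v = 0 :=
      JFourSeven.range_inf_ker (by decide) ha3 ⟨v, rfl⟩ (h1 _ ⟨v, rfl⟩)
    rw [nMap_apply] at h2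
    exact v_eq_of_add_eq_zero h2
  have hcent : T.p = 1 ∨ T.p = D.z := D.sub.mem_of_commutes fun e he => by
    have h := hpW (D.pr e)
    rw [ha, D.cj_pr _ he, pr_eq_iff (D.conj_mem _ he) he] at h
    rcases h with h | h
    · exact (mul_inv_eq_iff_eq_mul.1 h).symm
    · exfalso
      have hz : ∀ x, T.p * (D.z * x) * T.p⁻¹ = D.z * (T.p * x * T.p⁻¹) := fun x => by
        rw [← mul_assoc T.p, D.z_central T.p]
        group
      have h3 : T.p ^ 3 * e * (T.p ^ 3)⁻¹ = D.z * e := by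
        have e2 : T.p ^ 3 * e * (T.p ^ 3)⁻¹ = T.p * (T.p * (T.p * e * T.p⁻¹) * T.p⁻¹) * T.p⁻¹ := by
          rw [pow_succ, pow_two]; group
        rw [e2, h, hz, h, hz, hz, h, ← mul_assoc D.z D.z, D.sub.mul_self, one_mul]
      rw [T.cube, one_mul, inv_one, mul_one] at h3
      exact D.sub.ne_one (right_eq_mul.1 h3)
  rcases hcent with e | e
  · exact T.not_mem_E (e ▸ one_mem _)
  · exact T.not_mem_E (e ▸ D.sub.z_mem)

/-- `p` lies in the derived group of its centralizer. -/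
theorem derived :
    T.p ∈ ⁅Subgroup.centralizer ({T.p} : Set K), Subgroup.centralizer ({T.p} : Set K)⁆ := by
  set C := Subgroup.centralizer ({T.p} : Set K)
  set q := QuotientGroup.mk' D.E
  have hpM : T.p ∈ (Inn M22g).comap D.π := by
    show D.π T.p ∈ Inn M22g
    rw [MonoidHom.mem_ker.1 T.mem]
    exact one_mem _
  have hcomm : ⁅(Inn M22g).comap D.π, (Inn M22g).comap D.π⁆ ≤ (⁅C, C⁆.map q).comap q := by
    refine Subgroup.commutator_le.2 fun m hm n hn => Subgroup.mem_comap.2 ?_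
    obtain ⟨e, he, hem⟩ := T.exists_comm hm
    obtain ⟨f, hf, hfn⟩ := T.exists_comm hn
    refine ⟨⁅e * m, f * n⁆, Subgroup.commutator_mem_commutator
      (Subgroup.mem_centralizer_singleton_iff.2 hem) (Subgroup.mem_centralizer_singleton_iff.2 hfn), ?_⟩
    simp only [q, map_commutatorElement, map_mul, QuotientGroup.mk'_apply, mk_mem_E he, mk_mem_E hf,
      one_mul]
  have hE : D.E ≤ (⁅C, C⁆.map q).comap q := fun e he => Subgroup.mem_comap.2
    ⟨1, one_mem _, by rw [map_one]; exact (mk_mem_E he).symm⟩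
  obtain ⟨d, hd, hdp⟩ := Subgroup.mem_comap.1 ((D.perf.trans (sup_le hcomm hE)) hpM)
  have hdC : d ∈ C := by
    have hle : ⁅C, C⁆ ≤ C := Subgroup.commutator_le.2 fun a ha b hb => by
      rw [commutatorElement_def]
      exact mul_mem (mul_mem (mul_mem ha hb) (inv_mem ha)) (inv_mem hb)
    exact hle hd
  have hE' : d⁻¹ * T.p ∈ D.E := by
    have := QuotientGroup.eq.1 hdp
    simpa using this
  have hc := Subgroup.mem_centralizer_singleton_iff.1
    (mul_mem (inv_mem hdC) (Subgroup.mem_centralizer_singleton_iff.2 rfl : T.p ∈ C))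
  rcases T.fixp hE' hc.symm with e | e <;> rw [inv_mul_eq_iff_eq_mul] at e
  · rw [e, mul_one]; exact hd
  · have h4 : T.p ^ 4 = d ^ 4 := by
      rw [e, (show Commute d D.z from D.z_central d).mul_pow,
        show D.z ^ 4 = 1 by
          rw [show (4 : ℕ) = 2 * 2 by norm_num, pow_mul, pow_two D.z, D.sub.mul_self, one_pow],
        mul_one]
    rw [T.pow_mod, show 4 % 3 = 1 by norm_num, pow_one] at h4
    rw [h4]
    exact pow_mem hd 4

end Quot

end Three

end Pre

end CfsgLib.JFourBridge
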