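import Cfsg.Agent.JFourSeven.M22Torus

/-!
# An outer automorphism of `M22` acting on a Sylow 3-subgroup with determinant `-1`
-/

set_option autoImplicit false
set_option maxRecDepth 10000

namespace CfsgLib.JFourBridge

open Cfsg CfsgLib.Mathieu CfsgLib.Schur.Pc CfsgLib.SporadicOut CfsgLib.TwoBlockMathieu
open CfsgLib.JFourType

/-- An element of order three of the Sylow subgroup. -/
def tabA : ℕ := 564344492241592798683317461001333378173272425126673056256

/-- A second one. -/
def tabB : ℕ := 566071919982098121355803260627856264445783128217341202176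

/-- The outer element, fixing the first and inverting the second. -/
def tabO : ℕ := 2114316540020353082741976011375007199605859051991335191

/-- The inverse of the second. -/
def tabBInv : ℕ := ((List.range 24).map fun i => app tabB (app tabB i)).foldr
  (fun x acc => x + 256 * acc) 0

/-- The checks. -/
def flipOK : Bool :=
  inM22 tabA && inM22 tabB && inM22 tabBInv && isProd tabB tabB tabBInv &&
  powId tabA 3 && powId tabB 3 && !powId tabA 1 && !powId tabB 1 &&
  prodEq tabA tabB tabB tabA &&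
  inM24 tabO && app tabO 23 == 0 && app tabO 0 == 23 &&
  prodEq tabO tabA tabA tabO && prodEq tabO tabB tabBInv tabO

theorem flipOK_holds : flipOK = true := by decide +kernel

/-- A member of `M24` exchanging the two points, as an automorphism. -/
theorem exists_aut_of_table {t : ℕ}
    (ht : (inM24 t && app t 23 == 0 && app t 0 == 23) = true) :
    ∃ σ : MulAut M22g,
      ∀ (x y : M22g) (a b : ℕ), Rep enc x.1 a → Rep enc y.1 b → prodEq t a b t = true → σ x = y := by
  simp only [Bool.and_eq_true, beq_iff_eq] at ht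
  obtain ⟨⟨hin, h23⟩, h0⟩ := ht
  obtain ⟨π, hπ, rπ⟩ := inGroup_of_inM24 hin
  have p1 : π none = some 0 := rπ.apply_eq enc (by
    change app _ (idx none) = idx (some 0); exact h23)
  have p2 : π (some 0) = none := rπ.apply_eq enc (by
    change app _ (idx (some 0)) = idx none; exact h0)
  have i1 : π⁻¹ none = some 0 := (Equiv.symm_apply_eq π).2 p2.symm
  have i2 : π⁻¹ (some 0) = none := (Equiv.symm_apply_eq π).2 p1.symm
  have hstab : ∀ (s : Equiv.Perm GolayPt), s ∈ M24 → s none = some 0 → s (some 0) = none →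
      s⁻¹ none = some 0 → s⁻¹ (some 0) = none → ∀ x : M22g, s * x.1 * s⁻¹ ∈ Spor.M22 := by
    intro s hs e1 e2 e3 e4 x
    obtain ⟨⟨hx24, hxn⟩, hx0⟩ := mem_SporM22.1 x.2
    refine mem_SporM22.2 ⟨⟨mul_mem (mul_mem hs hx24) (inv_mem hs), ?_⟩, ?_⟩
    · rw [Equiv.Perm.mul_apply, Equiv.Perm.mul_apply, e3, hx0, e2]
    · rw [Equiv.Perm.mul_apply, Equiv.Perm.mul_apply, e4, hxn, e1]
  refine ⟨
    { toFun := fun x => ⟨π * x.1 * π⁻¹, hstab π hπ p1 p2 i1 i2 x⟩
      invFun := fun x => ⟨π⁻¹ * x.1 * π, by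
        simpa using hstab π⁻¹ (inv_mem hπ) i1 i2 (by simpa using p1) (by simpa using p2) x⟩
      left_inv := fun x => Subtype.ext (by simp [mul_assoc])
      right_inv := fun x => Subtype.ext (by simp [mul_assoc])
      map_mul' := fun x y => Subtype.ext (by simp [mul_assoc]) }, fun x y a b rx ry e => Subtype.ext ?_⟩
  show π * x.1 * π⁻¹ = y.1
  rw [mul_eq_of_prodEq rπ rx ry rπ e, mul_inv_cancel_right]

/-- Commuting independent elements of order three, one fixed and the other inverted by an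
automorphism. -/
theorem exists_flip : ∃ (a b : M22g) (σ : MulAut M22g), orderOf a = 3 ∧ orderOf b = 3 ∧
    a * b = b * a ∧ b ∉ Subgroup.zpowers a ∧ σ a = a ∧ σ b = b⁻¹ := by
  have h := flipOK_holds
  simp only [flipOK, Bool.and_eq_true, Bool.not_eq_true'] at h
  obtain ⟨⟨⟨⟨⟨⟨⟨⟨⟨⟨⟨⟨⟨ha, hb⟩, hbi⟩, hprod⟩, ha3⟩, hb3⟩, ha1⟩, hb1⟩, hab⟩, hin⟩,
    h23⟩, h0⟩, hfa⟩, hfb⟩ := h
  obtain ⟨a, ra⟩ := exists_elt ha
  obtain ⟨b, rb⟩ := exists_elt hb
  obtain ⟨b', rb'⟩ := exists_elt hbi
  obtain ⟨σ, hσ⟩ := exists_aut_of_table (t := tabO) (by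
    simp only [Bool.and_eq_true]; exact ⟨⟨hin, h23⟩, h0⟩)
  have : Fact (Nat.Prime 3) := ⟨Nat.prime_three⟩
  have hane : a ≠ 1 := fun e => by rw [(eq_one_iff_powId ra).2 e] at ha1; exact Bool.noConfusion ha1
  have hbne : b ≠ 1 := fun e => by rw [(eq_one_iff_powId rb).2 e] at hb1; exact Bool.noConfusion hb1
  have hao : orderOf a = 3 := orderOf_eq_prime ((pow_eq_one_iff_powId ra 3).1 ha3) hane
  have hbo : orderOf b = 3 := orderOf_eq_prime ((pow_eq_one_iff_powId rb 3).1 hb3) hbne
  have hbb : b' = b⁻¹ := by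
    rw [eq_of_rep rb' (rep_of_isProd rb rb hprod)]
    exact (inv_eq_of_mul_eq_one_right (by
      rw [← pow_two, ← pow_succ']; exact (pow_eq_one_iff_powId rb 3).1 hb3)).symm
  have hfA := hσ a a _ _ ra ra hfa
  have hfB : σ b = b⁻¹ := hbb ▸ hσ b b' _ _ rb rb' hfb
  refine ⟨a, b, σ, hao, hbo, (mul_eq_mul_iff ra rb rb ra).1 hab, ?_, hfA, hfB⟩
  rintro ⟨i, rfl⟩
  -- a power of `a` is fixed, but `b` is inverted
  simp only [map_zpow, hfA] at hfB
  have h2 := orderOf_dvd_of_pow_eq_one ((pow_two _).trans (mul_eq_one_iff_eq_inv.2 hfB))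
  rw [hbo] at h2
  norm_num at h2

end CfsgLib.JFourBridge
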