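import Cfsg.Agent.JFourSeven.FixedSeven

/-!
# Commuting isometries of orders three and seven of a quadratic space over two elements

If the isometry of order three fixes a non-zero vector and the space has dimension at most twelve,
the one of order seven fixes the commutator space of the other: otherwise the two would act
without fixed points on a non-degenerate subspace of dimension six, which has 28 or 36
non-singular vectors, a number not divisible by 21.
-/

set_option autoImplicit false
set_option linter.unusedSectionVars false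
set_option linter.style.haveILetI false

namespace CfsgLib.JFourBridge

open Module CfsgLib.JFourType

/-- The character of the field with two elements. -/
def sgn (a : ZMod 2) : ℤ := if a = 0 then 1 else -1

theorem sgn_add : ∀ a b : ZMod 2, sgn (a + b) = sgn a * sgn b := by decide

theorem sgn_eq : ∀ a : ZMod 2, sgn a = 1 - 2 * (if a = 1 then 1 else 0) := by decide

section Count

variable {W : Type*} [AddCommGroup W] [Fintype W] [DecidableEq W] [Module (ZMod 2) W]
  {q : W → ZMod 2} {B : W → W → ZMod 2}

theorem sum_sgn_sq (hq : ∀ u v, q (u + v) = q u + q v + B u v)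
    (hB : ∀ u v w, B (u + v) w = B u w + B v w) (hnd : ∀ w, (∀ u, B u w = 0) → w = 0) :
    (∑ v, sgn (q v)) ^ 2 = (Fintype.card W : ℤ) := by
  have hq0 : q 0 = 0 := by
    have h := hq 0 0
    have h' : B 0 0 = 0 := by
      have := hB 0 0 0
      rw [add_zero] at this
      exact left_eq_add.1 this
    rw [add_zero, h', add_zero] at h
    exact left_eq_add.1 h
  have hsymm : ∀ u v, B u v = B v u := fun u v => by
    have h := hq u v
    rw [add_comm u v, hq v u, add_comm (q u) (q v)] at h
    exact (add_left_cancel h).symm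
  have hB0 : ∀ u, B u 0 = 0 := fun u => by
    have := hB 0 0 u
    rw [add_zero] at this
    rw [hsymm]
    exact left_eq_add.1 this
  have hdouble : ∀ u w : W, sgn (q u) * sgn (q (u + w)) = sgn (q w) * sgn (B u w) := fun u w => by
    rw [← sgn_add, ← sgn_add, hq]
    congr 1
    rw [← add_assoc, ← add_assoc, zmod2_add_self, zero_add]
  have hinner : ∀ w : W, ∑ u, sgn (B u w) = if w = 0 then (Fintype.card W : ℤ) else 0 := by
    intro w
    by_cases hw : w = 0
    · subst hw
      simp [hB0, sgn]
    · rw [if_neg hw]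
      obtain ⟨u₀, hu₀⟩ : ∃ u₀, B u₀ w = 1 := by
        by_contra hcon
        push Not at hcon
        exact hw (hnd w fun u => (zmod2_cases _).resolve_right (hcon u))
      have h := Equiv.sum_comp (Equiv.addRight u₀) fun u => sgn (B u w)
      simp only [Equiv.coe_addRight, hB, hu₀, sgn_add, ← Finset.sum_mul] at h
      rw [show sgn 1 = -1 from rfl] at h
      linarith
  calc (∑ v, sgn (q v)) ^ 2 = ∑ u, ∑ v, sgn (q u) * sgn (q v) := by
        rw [sq, Finset.sum_mul_sum]
    _ = ∑ u, ∑ w, sgn (q w) * sgn (B u w) := by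
        refine Finset.sum_congr rfl fun u _ => ?_
        rw [← Equiv.sum_comp (Equiv.addLeft u) fun v => sgn (q u) * sgn (q v)]
        exact Finset.sum_congr rfl fun w _ => hdouble u w
    _ = ∑ w, sgn (q w) * ∑ u, sgn (B u w) := by
        rw [Finset.sum_comm]
        exact Finset.sum_congr rfl fun w _ => (Finset.mul_sum _ _ _).symm
    _ = (Fintype.card W : ℤ) := by
        simp only [hinner, mul_ite, mul_zero, Finset.sum_ite_eq', Finset.mem_univ, if_true, hq0]
        simp [sgn]

/-- A space of 64 vectors has 28 or 36 non-singular ones. -/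
theorem card_ones (hq : ∀ u v, q (u + v) = q u + q v + B u v)
    (hB : ∀ u v w, B (u + v) w = B u w + B v w) (hnd : ∀ w, (∀ u, B u w = 0) → w = 0)
    (h64 : Fintype.card W = 64) :
    Fintype.card {v : W // q v = 1} = 28 ∨ Fintype.card {v : W // q v = 1} = 36 := by
  have h := sum_sgn_sq hq hB hnd
  have e : ∑ v, sgn (q v) = 64 - 2 * (Fintype.card {v : W // q v = 1} : ℤ) := by
    rw [Fintype.card_subtype]
    simp only [sgn_eq, Finset.sum_sub_distrib, ← Finset.mul_sum, Finset.sum_boole,
      Finset.sum_const, Finset.card_univ, h64]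
    simp
  rw [e, h64] at h
  generalize (Fintype.card {v : W // q v = 1} : ℕ) = n at h ⊢
  have h' : (64 - 2 * (n : ℤ)) * (64 - 2 * (n : ℤ)) = 8 * 8 := by
    rw [← sq, h]
    norm_num
  rcases mul_self_eq_mul_self_iff.1 h' with e | e <;> omega

end Count

theorem prime_dvd_card_of_fixedPointFree {X : Type*} [Fintype X] [DecidableEq X] {p : ℕ}
    [Fact p.Prime] (f : X → X) (hf : ∀ x, f^[p] x = x) (hfix : ∀ x, f x ≠ x) :
    p ∣ Fintype.card X := by
  let f' : Function.End X := f
  have hiter : ∀ (k : ℕ) (x : X), (f' ^ k) x = f^[k] x := by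
    intro k
    induction k with
    | zero => exact fun x => rfl
    | succ k ih =>
      intro x
      rw [Function.iterate_succ_apply', ← ih x, pow_succ']
      rfl
  have hp : f' ^ p ^ 1 = 1 := funext fun x => by rw [pow_one, hiter, hf]; rfl
  have hm := Equiv.Perm.card_fixedPoints_modEq hp
  have h0 : Fintype.card (Function.fixedPoints f) = 0 :=
    Fintype.card_eq_zero_iff.2 ⟨fun x => hfix x x.2⟩
  rw [h0] at hm
  exact Nat.modEq_zero_iff_dvd.1 hm

theorem dims_of_modEq (d : ℕ) (hd : d ≤ 12) (h7 : 2 ^ d ≡ 1 [MOD 7]) (h3 : 2 ^ d ≡ 1 [MOD 3]) :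
    d = 0 ∨ d = 6 ∨ d = 12 := by
  unfold Nat.ModEq at h7 h3
  interval_cases d <;> simp at h7 h3 ⊢

variable {V : Type*} [AddCommGroup V] [Module (ZMod 2) V] [Finite V]
  {q : V → ZMod 2} {B : LinearMap.BilinForm (ZMod 2) V}

theorem isometry_B (hq : ∀ u v, q (u + v) = q u + q v + B u v) {a : V ≃ₗ[ZMod 2] V}
    (ha : ∀ v, q (a v) = q v) (u v : V) : B (a u) (a v) = B u v := by
  have h := hq (a u) (a v)
  rw [← map_add, ha, ha, ha, hq u v] at h
  exact (add_left_cancel h).symm

theorem B_nMap_right (hq : ∀ u v, q (u + v) = q u + q v + B u v) {a : V ≃ₗ[ZMod 2] V}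
    (ha : ∀ v, q (a v) = q v) (r v : V) : B r (nMap a v) = B (nMap a.symm r) v := by
  have h := isometry_B hq ha (a.symm r) v
  rw [a.apply_symm_apply] at h
  rw [nMap_apply, nMap_apply, map_add, map_add, LinearMap.add_apply, h]

/-- The isometry of order seven fixes the commutator space of the one of order three. -/
theorem fixes_range (hq : ∀ u v, q (u + v) = q u + q v + B u v)
    (hnd : ∀ w, (∀ u, B w u = 0) → w = 0) (hdim : finrank (ZMod 2) V = 12)
    {a x : V ≃ₗ[ZMod 2] V} (haq : ∀ v, q (a v) = q v) (hxq : ∀ v, q (x v) = q v)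
    (ha3 : ∀ v, (⇑a)^[3] v = v) (hx7 : ∀ v, (⇑x)^[7] v = v) (hcom : ∀ v, x (a v) = a (x v))
    (h0 : ∃ v, v ≠ 0 ∧ a v = v) (w : V) : x (nMap a w) = nMap a w := by
  classical
  haveI : Fact (Nat.Prime 7) := ⟨by norm_num⟩
  haveI : Fact (Nat.Prime 3) := ⟨Nat.prime_three⟩
  set U := LinearMap.range (nMap x ∘ₗ nMap a) with hU
  have hxU : ∀ v ∈ U, x v ∈ U := by
    rintro _ ⟨v, rfl⟩
    exact ⟨x v, by simp [map_add, hcom]⟩
  have haU : ∀ v ∈ U, a v ∈ U := by
    rintro _ ⟨v, rfl⟩
    exact ⟨a v, by simp [map_add, hcom]⟩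
  have hxfix : ∀ v ∈ U, x v = v → v = 0 := by
    rintro _ ⟨v, rfl⟩ h
    exact JFourSeven.range_inf_ker (by decide) hx7 ⟨nMap a v, rfl⟩ h
  have hafix : ∀ v ∈ U, a v = v → v = 0 := by
    rintro _ ⟨v, rfl⟩ h
    refine JFourSeven.range_inf_ker (by decide) ha3 ⟨nMap x v, ?_⟩ h
    simp [map_add, hcom]
    abel
  have hm7 := JFourSeven.card_modEq_one hx7 hxU hxfix
  have hm3 := JFourSeven.card_modEq_one ha3 haU hafix
  have hle : finrank (ZMod 2) U ≤ 12 := hdim ▸ U.finrank_le
  have hd : finrank (ZMod 2) U = 0 ∨ finrank (ZMod 2) U = 6 ∨ finrank (ZMod 2) U = 12 := by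
    exact dims_of_modEq _ hle hm7 hm3
  rcases hd with hd | hd | hd
  · have h : nMap x (nMap a w) ∈ U := ⟨w, rfl⟩
    rw [Submodule.finrank_eq_zero.1 hd, Submodule.mem_bot, nMap_apply] at h
    exact v_eq_of_add_eq_zero h
  · exfalso
    have := Fintype.ofFinite U
    have hsymm : ∀ u v, B u v = B v u := fun u v => by
      have h := hq u v
      rw [add_comm u v, hq v u, add_comm (q u) (q v)] at h
      exact (add_left_cancel h).symm
    have hUnd : ∀ r ∈ U, (∀ v ∈ U, B r v = 0) → r = 0 := by
      intro r hr hrU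
      have hs : nMap a.symm (nMap x.symm r) = 0 := hnd _ fun v => by
        rw [← B_nMap_right hq haq, ← B_nMap_right hq hxq]
        exact hrU _ ⟨v, rfl⟩
      have hxs : x.symm r ∈ U := by
        have h6 : x.symm r = (⇑x)^[6] r := x.injective (by
          rw [x.apply_symm_apply, ← Function.iterate_succ_apply' (⇑x) 6 r, hx7])
        rw [h6]
        exact Set.MapsTo.iterate (s := (U : Set V)) hxU 6 hr
      have h1 : nMap x.symm r = 0 := by
        refine hafix _ ?_ ?_
        · rw [nMap_apply]
          exact add_mem hxs hr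
        · rw [nMap_apply] at hs
          have e := v_eq_of_add_eq_zero hs
          conv_lhs => rw [← e]
          exact a.apply_symm_apply _
      refine hxfix r hr ?_
      rw [nMap_apply] at h1
      have e := v_eq_of_add_eq_zero h1
      conv_lhs => rw [← e]
      exact x.apply_symm_apply _
    have h64 : Fintype.card U = 64 := by
      rw [← Nat.card_eq_fintype_card, Module.natCard_eq_pow_finrank (K := ZMod 2), Nat.card_zmod, hd]
      norm_num
    have hones := card_ones (W := U) (q := fun v => q v) (B := fun u v => B u v)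
      (fun u v => hq u v) (fun u v w => by simp)
      (fun v h => Subtype.ext (hUnd v v.2 fun u hu => (hsymm _ _).trans (h ⟨u, hu⟩))) h64
    set X := {v : U // q (v : V) = 1}
    have hq0 : q 0 = 0 := by
      have h := hq 0 0
      rw [add_zero, map_zero, add_zero] at h
      exact left_eq_add.1 h
    have hne : ∀ v : X, (v.1 : V) ≠ 0 := fun v e => by
      have := v.2
      rw [e, hq0] at this
      exact zero_ne_one this
    let fx : X → X := fun v => ⟨⟨x v.1, hxU _ v.1.2⟩, (hxq _).trans v.2⟩
    let fa : X → X := fun v => ⟨⟨a v.1, haU _ v.1.2⟩, (haq _).trans v.2⟩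
    have hfx : ∀ (k : ℕ) (v : X), ((fx^[k] v).1 : V) = (⇑x)^[k] v.1 := by
      intro k
      induction k with
      | zero => exact fun v => rfl
      | succ k ih =>
        intro v
        rw [Function.iterate_succ_apply', Function.iterate_succ_apply', ← ih v]
    have hfa : ∀ (k : ℕ) (v : X), ((fa^[k] v).1 : V) = (⇑a)^[k] v.1 := by
      intro k
      induction k with
      | zero => exact fun v => rfl
      | succ k ih =>
        intro v
        rw [Function.iterate_succ_apply', Function.iterate_succ_apply', ← ih v]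
    have h7 : 7 ∣ Fintype.card X := prime_dvd_card_of_fixedPointFree fx
      (fun v => Subtype.ext (Subtype.ext ((hfx 7 v).trans (hx7 _))))
      fun v e => hne v (hxfix _ v.1.2 (congrArg (fun u : X => (u.1 : V)) e))
    have h3 : 3 ∣ Fintype.card X := prime_dvd_card_of_fixedPointFree fa
      (fun v => Subtype.ext (Subtype.ext ((hfa 3 v).trans (ha3 _))))
      fun v e => hne v (hafix _ v.1.2 (congrArg (fun u : X => (u.1 : V)) e))
    rcases hones with e | e <;> rw [e] at h3 h7 <;> omega
  · exfalso
    obtain ⟨v, hv, hav⟩ := h0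
    have htop : U = ⊤ := Submodule.eq_top_of_finrank_eq (hd.trans hdim.symm)
    exact hv (hafix v (htop ▸ Submodule.mem_top) hav)

end CfsgLib.JFourBridge
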