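import Cfsg.Agent.JFourType.Space

/-!
# The frame of a maximal isotropic subspace moved into one vector

A totally isotropic `M` of dimension six, a vector `t` of `M`, a group `A` of sixteen commuting
linear involutions and a semilinear one, all moving `M` into `⟨t⟩`.
-/

set_option autoImplicit false
set_option linter.style.haveILetI false
set_option linter.unusedVariables false

namespace CfsgLib.JFourType

open Module

variable {V : Type*} [AddCommGroup V] [Module (ZMod 2) V]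

namespace Space

/-- The data of a frame. -/
structure Frame (S : Space V) where
  /-- the isotropic subspace -/
  M : Submodule (ZMod 2) V
  /-- the vector -/
  t : V
  /-- the linear involutions -/
  A : Subgroup (V ≃ₗ[ZMod 2] V)
  /-- the semilinear involution -/
  u0 : V ≃ₗ[ZMod 2] V
  M6 : finrank (ZMod 2) M = 6
  iso : ∀ x ∈ M, ∀ y ∈ M, S.B x y = 0
  tM : t ∈ M
  t0 : t ≠ 0
  card_A : Nat.card A = 16
  isIso : ∀ v ∈ A, S.IsIso v
  lin : ∀ v ∈ A, S.Lin v
  invol : ∀ v ∈ A, ∀ x, v (v x) = x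
  fix_t : ∀ v ∈ A, v t = t
  move : ∀ v ∈ A, ∀ m ∈ M, nMap v m ∈ Submodule.span (ZMod 2) ({t} : Set V)
  rank : ∀ v ∈ A, v ≠ 1 → 2 < finrank (ZMod 2) (LinearMap.range (nMap v))
  u0_semi : S.Semi u0
  u0_invol : ∀ x, u0 (u0 x) = x
  u0_move : ∀ m ∈ M, nMap u0 m ∈ Submodule.span (ZMod 2) ({t} : Set V)

variable {S : Space V} (F : Frame S)

theorem span_singleton_cases {x y : V} (hy : y ∈ Submodule.span (ZMod 2) ({x} : Set V)) :
    y = 0 ∨ y = x := by
  obtain ⟨a, rfl⟩ := Submodule.mem_span_singleton.1 hy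
  rcases zmod2_cases a with rfl | rfl <;> simp

/-- The line of `t`. -/
def Frame.L : Submodule (ZMod 2) V := S.line F.t

/-- The subspace orthogonal to it. -/
def Frame.D : Submodule (ZMod 2) V := S.orth F.L

namespace Frame

theorem exists_ne_one : ∃ v ∈ F.A, v ≠ 1 := by
  by_contra hcon
  push Not at hcon
  have h := F.card_A
  rw [(Subgroup.eq_bot_iff_forall _).2 hcon, Subgroup.card_bot] at h
  omega

theorem stable_D : S.Stable F.D := S.stable_orth (S.stable_line _)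

theorem map_om_stable {W : Submodule (ZMod 2) V} :
    S.Stable (W ⊔ W.map S.om.toLinearMap) := by
  intro x hx
  obtain ⟨a, ha, b, hb, rfl⟩ := Submodule.mem_sup.1 hx
  obtain ⟨c, hc, rfl⟩ := hb
  rw [map_add]
  refine add_mem (Submodule.mem_sup_right ⟨a, ha, rfl⟩) ?_
  show S.om (S.om c) ∈ _
  rw [S.om_om]
  exact add_mem (Submodule.mem_sup_right ⟨c, hc, rfl⟩) (Submodule.mem_sup_left hc)

theorem orth_sup_eq [Finite V] : S.orth (F.M ⊔ F.M.map S.om.toLinearMap) = F.L := by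
  set D := F.M ⊔ F.M.map S.om.toLinearMap with hD
  have hM : S.orth F.M = F.M := by
    refine (Submodule.eq_of_le_of_finrank_eq (fun x hx => S.mem_orth'.2 (F.iso x hx)) ?_).symm
    have := S.finrank_orth F.M
    rw [F.M6] at this ⊢
    omega
  have hle : S.orth D ≤ F.L := by
    intro y hy
    have hyM : y ∈ F.M := hM ▸ S.orth_anti le_sup_left hy
    have hyM' : S.om y ∈ F.M := hM ▸ S.orth_anti le_sup_left (S.stable_orth map_om_stable y hy)
    obtain ⟨a, b, ha, hb, rfl⟩ := F.u0_semi.decompose F.u0_invol y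
    have nb : nMap F.u0 (a + S.om b) = b := by
      rw [map_add (nMap F.u0), mem_ker_nMap.2 ha, zero_add, F.u0_semi.n_om_of_fixed hb]
    have nab : nMap F.u0 (S.om (a + S.om b)) = a + b := by
      rw [map_add, S.om_om, map_add (nMap F.u0), map_add (nMap F.u0), F.u0_semi.n_om_of_fixed ha,
        F.u0_semi.n_om_of_fixed hb, mem_ker_nMap.2 hb, add_zero]
    have tL : F.t ∈ F.L := S.self_mem_line _
    have hspan : Submodule.span (ZMod 2) ({F.t} : Set V) ≤ F.L :=
      (Submodule.span_singleton_le_iff_mem _ _).2 tL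
    have hbL : b ∈ F.L := by
      have := hspan (F.u0_move _ hyM)
      rwa [nb] at this
    have haL : a ∈ F.L := by
      have := hspan (F.u0_move _ hyM')
      rw [nab] at this
      have h2 := add_mem this hbL
      rwa [add_assoc, v_add_self, add_zero] at h2
    exact add_mem haL (S.stable_line _ _ hbL)
  have hne : S.orth D ≠ ⊥ := by
    intro hb
    have htop : D = ⊤ := by
      refine Submodule.eq_top_of_finrank_eq ?_
      have := S.finrank_orth D
      rw [hb, finrank_bot] at this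
      rw [S.dim]
      omega
    obtain ⟨v, hv, hv1⟩ := F.exists_ne_one
    have hr : LinearMap.range (nMap v) ≤ F.L := by
      rintro _ ⟨x, rfl⟩
      obtain ⟨a, ha, b, ⟨c, hc, rfl⟩, rfl⟩ := Submodule.mem_sup.1 (htop ▸ Submodule.mem_top (x := x))
      have key : ∀ m ∈ F.M, nMap v m ∈ F.L := fun m hm => by
        rcases span_singleton_cases (F.move v hv m hm) with e | e <;> rw [e]
        · exact zero_mem _
        · exact S.self_mem_line _
      rw [map_add]
      refine add_mem (key a ha) ?_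
      show nMap v (S.om c) ∈ _
      rw [(F.lin v hv).n_om]
      exact S.stable_line _ _ (key c hc)
    have h1 := Submodule.finrank_mono hr
    have h2 : finrank (ZMod 2) F.L ≤ 2 := (S.finrank_line F.t0).le
    have := F.rank v hv hv1
    omega
  refine Submodule.eq_of_le_of_finrank_le hle ?_
  obtain ⟨k, hk⟩ := S.even_finrank (S.stable_orth (map_om_stable (W := F.M)))
  have h0 : finrank (ZMod 2) (S.orth D) ≠ 0 := fun e => hne (Submodule.finrank_eq_zero.1 e)
  have h2 : finrank (ZMod 2) F.L ≤ 2 := (S.finrank_line F.t0).le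
  rw [← hD] at hk
  omega

theorem orth_M [Finite V] : S.orth F.M = F.M := by
  refine (Submodule.eq_of_le_of_finrank_eq (fun x hx => S.mem_orth'.2 (F.iso x hx)) ?_).symm
  have := S.finrank_orth F.M
  rw [F.M6] at this ⊢
  omega

theorem L_le_M [Finite V] : F.L ≤ F.M := by
  rw [← orth_sup_eq F]
  exact (S.orth_anti le_sup_left).trans F.orth_M.le

theorem D_eq [Finite V] : F.D = F.M ⊔ F.M.map S.om.toLinearMap := by
  rw [D, ← orth_sup_eq F, S.orth_orth]

theorem M_le_D [Finite V] : F.M ≤ F.D := by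
  rw [D_eq]
  exact le_sup_left

theorem finrank_D [Finite V] : finrank (ZMod 2) F.D = 10 := by
  have := S.finrank_orth F.L
  rw [L, S.finrank_line F.t0] at this
  rw [D, L]
  omega

theorem t_mem_L : F.t ∈ F.L := S.self_mem_line _

theorem om_t_mem [Finite V] : S.om F.t ∈ F.M := F.L_le_M (S.stable_line _ _ F.t_mem_L)

/-- A vector of `M` whose translate is in `M` is on the line. -/
theorem mem_L_of_om [Finite V] {m : V} (hm : m ∈ F.M) (hm' : S.om m ∈ F.M) : m ∈ F.L := by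
  rw [← orth_sup_eq F]
  refine S.mem_orth'.2 fun w hw => ?_
  obtain ⟨a, ha, b, ⟨c, hc, rfl⟩, rfl⟩ := Submodule.mem_sup.1 hw
  rw [map_add]
  show S.B m a + S.B m (S.om c) = 0
  rw [F.iso m hm a ha, zero_add, S.symm, S.B_om_left, S.symm, S.om_om, map_add,
    LinearMap.add_apply, F.iso _ hm' c hc, F.iso m hm c hc, add_zero]

theorem fix_L [Finite V] {v : V ≃ₗ[ZMod 2] V} (hv : v ∈ F.A) {x : V} (hx : x ∈ F.L) :
    v x = x := by
  rcases span_pair_eq hx with rfl | rfl | rfl | rfl <;>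
    simp [map_add, F.lin v hv F.t, F.fix_t v hv]

theorem move_D [Finite V] {v : V ≃ₗ[ZMod 2] V} (hv : v ∈ F.A) {d : V} (hd : d ∈ F.D) :
    nMap v d ∈ F.L := by
  rw [D_eq] at hd
  obtain ⟨a, ha, b, ⟨c, hc, rfl⟩, rfl⟩ := Submodule.mem_sup.1 hd
  have key : ∀ m ∈ F.M, nMap v m ∈ F.L := fun m hm => by
    rcases span_singleton_cases (F.move v hv m hm) with e | e <;> rw [e]
    · exact zero_mem _
    · exact F.t_mem_L
  rw [map_add]
  refine add_mem (key a ha) ?_
  show nMap v (S.om c) ∈ _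
  rw [(F.lin v hv).n_om]
  exact S.stable_line _ _ (key c hc)

theorem exists_dual [Finite V] : ∃ f, S.B f F.t = 0 ∧ S.B f (S.om F.t) = 1 := by
  have hnd : ∀ x : V, x ≠ 0 → ∃ y, S.B x y = 1 := fun x hx => by
    by_contra hcon
    push Not at hcon
    exact hx (S.nd x fun y => (zmod2_cases _).resolve_right (hcon y))
  have h1 : S.om (S.om F.t) ≠ 0 := by simp [F.t0]
  obtain ⟨a, ha⟩ := hnd _ (show S.om F.t ≠ 0 by simp [F.t0])
  obtain ⟨b, hb⟩ := hnd _ F.t0
  obtain ⟨c, hc⟩ := hnd _ h1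
  have e : ∀ y, S.B (S.om (S.om F.t)) y = S.B (S.om F.t) y + S.B F.t y := fun y => by
    rw [S.om_om, map_add, LinearMap.add_apply]
  rcases zmod2_cases (S.B F.t a) with ha' | ha'
  · exact ⟨a, by rw [S.symm]; exact ha', by rw [S.symm]; exact ha⟩
  rcases zmod2_cases (S.B (S.om F.t) c) with hc' | hc'
  · have hc1 : S.B F.t c = 1 := by
      have := e c
      rwa [hc, hc', zero_add, eq_comm] at this
    refine ⟨a + c, ?_, ?_⟩
    · rw [map_add, LinearMap.add_apply, S.symm a, S.symm c, ha', hc1]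
      decide
    · rw [map_add, LinearMap.add_apply, S.symm a, S.symm c, ha, hc', add_zero]
  · refine ⟨c, ?_, by rw [S.symm]; exact hc'⟩
    have := e c
    rw [hc, hc'] at this
    rw [S.symm]
    revert this
    generalize S.B F.t c = x
    revert x
    decide

/-- The dual vector. -/
noncomputable def f [Finite V] : V := Classical.choose F.exists_dual

theorem B_f_t [Finite V] : S.B F.f F.t = 0 := (Classical.choose_spec F.exists_dual).1

theorem B_f_om_t [Finite V] : S.B F.f (S.om F.t) = 1 := (Classical.choose_spec F.exists_dual).2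

theorem B_t_om_of_dual {f : V} (h0 : S.B f F.t = 0) (h1 : S.B f (S.om F.t) = 1) :
    S.B F.t (S.om f) = 1 := by
  rw [S.symm, S.B_om_left, S.om_om, map_add, h1, h0, add_zero]

theorem f_not_mem_D [Finite V] {f : V} (h1 : S.B f (S.om F.t) = 1) : f ∉ F.D := fun h => by
  have := S.mem_orth'.1 h _ (S.stable_line _ _ F.t_mem_L)
  rw [h1] at this
  exact one_ne_zero this

theorem mem_D_of [Finite V] {x : V} (h0 : S.B x F.t = 0) (h1 : S.B x (S.om F.t) = 0) : x ∈ F.D :=
  S.mem_orth'.2 fun w hw => by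
    rcases span_pair_eq hw with rfl | rfl | rfl | rfl <;> simp [map_add, h0, h1]

/-- The vector attached to an element of `A`. -/
noncomputable def m [Finite V] (v : V ≃ₗ[ZMod 2] V) : V := nMap v F.f

theorem m_mem [Finite V] {v : V ≃ₗ[ZMod 2] V} (hv : v ∈ F.A) {f : V} (h0 : S.B f F.t = 0) :
    nMap v f ∈ F.M := by
  rw [← F.orth_M]
  refine S.mem_orth'.2 fun x hx => ?_
  rw [(F.isIso v hv).B_symm_n (F.invol v hv)]
  rcases span_singleton_cases (F.move v hv x hx) with e | e <;> rw [e]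
  · simp
  · exact h0

theorem mm_mem [Finite V] {v : V ≃ₗ[ZMod 2] V} (hv : v ∈ F.A) : F.m v ∈ F.M := F.m_mem hv F.B_f_t

/-- The coefficient of `t` in the move of `x`. -/
theorem move_eq [Finite V] {v : V ≃ₗ[ZMod 2] V} (hv : v ∈ F.A) {f : V} (h0 : S.B f F.t = 0)
    (h1 : S.B f (S.om F.t) = 1) {x : V} (hx : x ∈ F.M) :
    nMap v x = S.B x (S.om (nMap v f)) • F.t := by
  obtain ⟨a, ha⟩ := Submodule.mem_span_singleton.1 (F.move v hv x hx)
  rw [← (F.lin v hv).n_om, ← (F.isIso v hv).B_symm_n (F.invol v hv), ← ha, map_smul,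
    LinearMap.smul_apply, F.B_t_om_of_dual h0 h1, smul_eq_mul, mul_one]

theorem n_mul [Finite V] {v w : V ≃ₗ[ZMod 2] V} (x : V) :
    nMap (v * w) x = nMap v x + nMap w x + nMap v (nMap w x) := by
  simp only [nMap_apply, LinearEquiv.mul_apply, map_add]
  rw [show v x + x + (w x + x) + (v (w x) + w x + (v x + x)) =
    (v (w x) + x) + ((v x + v x) + (x + x) + (w x + w x)) by abel, v_add_self, v_add_self,
    v_add_self, zero_add, v_add_self, add_zero]

theorem m_mul [Finite V] {v w : V ≃ₗ[ZMod 2] V} (hv : v ∈ F.A) (hw : w ∈ F.A) :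
    F.m (v * w) = F.m v + F.m w + S.B (F.m w) (S.om (F.m v)) • F.t := by
  show nMap (v * w) F.f = _
  rw [n_mul, F.move_eq hv F.B_f_t F.B_f_om_t (F.m_mem hw F.B_f_t)]
  rfl

theorem m_one [Finite V] : F.m 1 = 0 := by
  rw [m, nMap_apply]
  exact v_add_self _

theorem exists_decompose [Finite V] (x : V) {f : V} (h1 : S.B f (S.om F.t) = 1) :
    ∃ d ∈ F.D, ∃ l ∈ S.line f, x = d + l := by
  have htop := sup_line_eq_top F.stable_D F.finrank_D.ge (F.f_not_mem_D h1)
  obtain ⟨d, hd, l, hl, rfl⟩ := Submodule.mem_sup.1 (htop ▸ Submodule.mem_top (x := x))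
  exact ⟨d, hd, l, hl, rfl⟩

theorem B_L_M [Finite V] {l m : V} (hl : l ∈ F.L) (hm : m ∈ F.M) : S.B l (S.om m) = 0 := by
  have h : S.om m ∈ F.D := F.stable_D _ (F.M_le_D hm)
  rw [S.symm]
  exact S.mem_orth'.1 h l hl

theorem m_not_mem_L [Finite V] {v : V ≃ₗ[ZMod 2] V} (hv : v ∈ F.A) (hne : v ≠ 1) :
    F.m v ∉ F.L := by
  intro h
  have hz : ∀ x ∈ F.M, nMap v x = 0 := fun x hx => by
    rw [F.move_eq hv F.B_f_t F.B_f_om_t hx]
    have : S.B x (S.om (nMap v F.f)) = 0 := F.iso x hx _ (F.L_le_M (S.stable_line _ _ h))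
    rw [this, zero_smul]
  have hD : F.D ≤ LinearMap.ker (nMap v) := by
    rw [D_eq]
    refine sup_le (fun x hx => LinearMap.mem_ker.2 (hz x hx)) ?_
    rintro _ ⟨x, hx, rfl⟩
    exact (F.lin v hv).stable_ker _ (LinearMap.mem_ker.2 (hz x hx))
  have h1 := Submodule.finrank_mono ((F.isIso v hv).range_le_orth (W := F.D)
    fun w hw => mem_ker_nMap.1 (hD hw))
  have h2 := S.finrank_orth F.D
  have h3 := F.rank v hv hne
  rw [F.finrank_D] at h2
  omega

theorem eq_of_add_mem_L [Finite V] {v w : V ≃ₗ[ZMod 2] V} (hv : v ∈ F.A) (hw : w ∈ F.A)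
    (h : F.m v + F.m w ∈ F.L) : v = w := by
  have h1 : v * w = 1 := by
    by_contra hne
    refine F.m_not_mem_L (mul_mem hv hw) hne ?_
    rw [F.m_mul hv hw]
    exact add_mem h (Submodule.smul_mem _ _ F.t_mem_L)
  have h2 : w * w = 1 := LinearEquiv.ext (F.invol w hw)
  calc v = v * (w * w) := by rw [h2, mul_one]
    _ = w := by rw [← mul_assoc, h1, one_mul]

theorem exists_m [Finite V] {x : V} (hx : x ∈ F.M) : ∃ v ∈ F.A, x + F.m v ∈ F.L := by
  let K : Submodule (ZMod 2) F.M := F.L.comap F.M.subtype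
  let φ : F.A → F.M ⧸ K := fun v => Submodule.Quotient.mk ⟨F.m v.1, F.mm_mem v.2⟩
  have hinj : Function.Injective φ := fun v w e => by
    refine Subtype.ext (F.eq_of_add_mem_L v.2 w.2 ?_)
    have h1 : F.m v.1 - F.m w.1 ∈ F.L := (Submodule.Quotient.eq K).1 e
    rwa [sub_eq_add_neg, v_neg] at h1
  have hcard : Nat.card (F.M ⧸ K) = 16 := by
    have h1 := K.finrank_quotient_add_finrank
    have h2 : finrank (ZMod 2) K = 2 := by
      exact (Submodule.comapSubtypeEquivOfLe F.L_le_M).finrank_eq.trans (S.finrank_line F.t0)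
    rw [F.M6, h2] at h1
    rw [Module.natCard_eq_pow_finrank (K := ZMod 2), Nat.card_zmod, show finrank (ZMod 2) (F.M ⧸ K) = 4 by omega]
    norm_num
  haveI : Finite (F.M ⧸ K) := Finite.of_surjective _ (Submodule.Quotient.mk_surjective K)
  haveI : Finite F.A := Finite.of_injective _ hinj
  have hbij := (Nat.bijective_iff_injective_and_card φ).2 ⟨hinj, F.card_A.trans hcard.symm⟩
  obtain ⟨v, hv⟩ := hbij.2 (Submodule.Quotient.mk ⟨x, hx⟩)
  refine ⟨v.1, v.2, ?_⟩
  have h1 : F.m v.1 - x ∈ F.L := (Submodule.Quotient.eq K).1 hv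
  rwa [sub_eq_add_neg, v_neg, add_comm] at h1

/-- The image of `v + 1`. -/
theorem range_le [Finite V] {v : V ≃ₗ[ZMod 2] V} (hv : v ∈ F.A) :
    LinearMap.range (nMap v) ≤ F.L ⊔ S.line (F.m v) := by
  rintro _ ⟨x, rfl⟩
  obtain ⟨d, hd, l, hl, rfl⟩ := F.exists_decompose x F.B_f_om_t
  rw [map_add]
  refine Submodule.add_mem_sup (F.move_D hv hd) ?_
  rcases span_pair_eq hl with rfl | rfl | rfl | rfl
  · rw [map_zero]; exact zero_mem _
  · exact S.self_mem_line _
  · rw [(F.lin v hv).n_om]; exact S.stable_line _ _ (S.self_mem_line _)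
  · rw [map_add, (F.lin v hv).n_om]
    exact add_mem (S.self_mem_line _) (S.stable_line _ _ (S.self_mem_line _))

theorem L_le_range [Finite V] {v : V ≃ₗ[ZMod 2] V} (hv : v ∈ F.A) (hne : v ≠ 1) :
    F.L ≤ LinearMap.range (nMap v) := by
  obtain ⟨x, hx, hx1⟩ : ∃ x ∈ F.M, nMap v x ≠ 0 := by
    by_contra hcon
    push Not at hcon
    have hD : F.D ≤ LinearMap.ker (nMap v) := by
      rw [D_eq]
      refine sup_le (fun x hx => LinearMap.mem_ker.2 (hcon x hx)) ?_
      rintro _ ⟨x, hx, rfl⟩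
      exact (F.lin v hv).stable_ker _ (LinearMap.mem_ker.2 (hcon x hx))
    have h1 := Submodule.finrank_mono ((F.isIso v hv).range_le_orth (W := F.D)
      fun w hw => mem_ker_nMap.1 (hD hw))
    have h2 := S.finrank_orth F.D
    have h3 := F.rank v hv hne
    rw [F.finrank_D] at h2
    omega
  refine S.line_le (F.lin v hv).stable_range ⟨x, ?_⟩
  exact (span_singleton_cases (F.move v hv x hx)).resolve_left hx1

/-- The common fixed space is the line. -/
theorem mem_L_of_fixed [Finite V] {y : V} (h : ∀ v ∈ F.A, v y = y) : y ∈ F.L := by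
  obtain ⟨d, hd, l, hl, rfl⟩ := F.exists_decompose y F.B_f_om_t
  obtain ⟨v₀, hv₀, hv₁⟩ := F.exists_ne_one
  have hl0 : l = 0 := by
    by_contra hl0
    have hsum : nMap v₀ (d + l) = 0 := mem_ker_nMap.2 (h v₀ hv₀) |> LinearMap.mem_ker.1
    rw [map_add] at hsum
    have hlL : nMap v₀ l ∈ F.L := by
      rw [← v_eq_of_add_eq_zero hsum]
      exact F.move_D hv₀ hd
    have key : ∀ x, S.om x ∈ F.L → x ∈ F.L := fun x hx => by
      have := S.stable_line _ _ (S.stable_line _ _ hx)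
      rwa [S.om_cube] at this
    refine F.m_not_mem_L hv₀ hv₁ ?_
    rcases span_pair_eq hl with rfl | rfl | rfl | rfl
    · exact absurd rfl hl0
    · exact hlL
    · rw [(F.lin _ hv₀).n_om] at hlL
      exact key _ hlL
    · rw [map_add, (F.lin _ hv₀).n_om, add_comm, ← S.om_om] at hlL
      exact key _ (key _ hlL)
  subst hl0
  rw [add_zero] at h ⊢
  obtain ⟨a, ha, b, ⟨c, hc, rfl⟩, rfl⟩ := Submodule.mem_sup.1 (F.D_eq ▸ hd)
  have hzero : ∀ v ∈ F.A, S.B a (S.om (F.m v)) = 0 ∧ S.B c (S.om (F.m v)) = 0 := by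
    intro v hv
    have hfix : nMap v (a + S.om.toLinearMap c) = 0 :=
      LinearMap.mem_ker.1 (mem_ker_nMap.2 (h v hv))
    rw [map_add, F.move_eq hv F.B_f_t F.B_f_om_t ha] at hfix
    change _ + nMap v (S.om c) = 0 at hfix
    rw [(F.lin v hv).n_om, F.move_eq hv F.B_f_t F.B_f_om_t hc, map_smul] at hfix
    change S.B a (S.om (F.m v)) • F.t + S.B c (S.om (F.m v)) • S.om F.t = 0 at hfix
    rcases zmod2_cases (S.B a (S.om (F.m v))) with ha0 | ha0 <;>
      rcases zmod2_cases (S.B c (S.om (F.m v))) with hc0 | hc0 <;> rw [ha0, hc0] at hfix ⊢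
    · exact ⟨rfl, rfl⟩
    · rw [zero_smul, one_smul, zero_add] at hfix
      exact absurd hfix (by simp [F.t0])
    · rw [zero_smul, one_smul, add_zero] at hfix
      exact absurd hfix F.t0
    · rw [one_smul, one_smul] at hfix
      exact absurd (v_eq_of_add_eq_zero hfix).symm (S.om_ne F.t0)
  have hmem : ∀ x ∈ F.M, (∀ v ∈ F.A, S.B x (S.om (F.m v)) = 0) → x ∈ F.L := fun x hx hv => by
    rw [← orth_sup_eq F]
    refine S.mem_orth'.2 fun w hw => ?_
    obtain ⟨a', ha', b', ⟨c', hc', rfl⟩, rfl⟩ := Submodule.mem_sup.1 hw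
    rw [map_add, F.iso x hx a' ha', zero_add]
    obtain ⟨v, hvA, hvx⟩ := F.exists_m hc'
    have e : c' = (c' + F.m v) + F.m v := by rw [add_assoc, v_add_self, add_zero]
    show S.B x (S.om c') = 0
    rw [e, map_add, map_add, hv v hvA, F.iso x hx _ (F.L_le_M (S.stable_line _ _ hvx)), add_zero]
  exact add_mem (hmem a ha fun v hv => (hzero v hv).1)
    (S.stable_line _ _ (hmem c hc fun v hv => (hzero v hv).2))

/-- Linear isometries of the frame act on the attached vectors by conjugation modulo the line. -/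
theorem m_conj [Finite V] {g v : V ≃ₗ[ZMod 2] V} (hg : S.IsIso g) (hgl : S.Lin g)
    (hgt : g F.t = F.t) (hv : v ∈ F.A) (hgv : g * v * g⁻¹ ∈ F.A) :
    g (F.m v) + F.m (g * v * g⁻¹) ∈ F.L := by
  have e1 : g (F.m v) = nMap (g * v * g⁻¹) (g F.f) := by
    show g (nMap v F.f) = _
    simp only [nMap_apply, map_add, LinearEquiv.mul_apply]
    congr 1
    show g (v F.f) = g (v (g.symm (g F.f)))
    rw [LinearEquiv.symm_apply_apply]
  rw [e1]
  show nMap (g * v * g⁻¹) (g F.f) + nMap (g * v * g⁻¹) F.f ∈ F.L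
  rw [← map_add]
  refine F.move_D hgv (F.mem_D_of ?_ ?_)
  · rw [map_add, LinearMap.add_apply]
    conv_lhs => arg 1; rw [← hgt, hg.B]
    exact zmod2_add_self _
  · rw [map_add, LinearMap.add_apply]
    conv_lhs => arg 1; rw [← hgt, ← hgl F.t, hg.B]
    exact zmod2_add_self _

/-- An invariant functional on `M` killing the line vanishes. -/
theorem eq_zero_of_invariant [Finite V] (G0 : Set (V ≃ₗ[ZMod 2] V))
    (hG : ∀ g ∈ G0, S.IsIso g ∧ S.Lin g ∧ g F.t = F.t ∧ ∀ v ∈ F.A, g * v * g⁻¹ ∈ F.A)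
    (htrans : ∀ T : Set (V ≃ₗ[ZMod 2] V), T.Nonempty → (∀ v ∈ T, v ∈ F.A ∧ v ≠ 1) →
      (∀ g ∈ G0, ∀ v ∈ T, g * v * g⁻¹ ∈ T) → ∀ v ∈ F.A, v ≠ 1 → v ∈ T)
    (χ : V → ZMod 2) (hadd : ∀ x ∈ F.M, ∀ y ∈ F.M, χ (x + y) = χ x + χ y)
    (hL : ∀ x ∈ F.L, χ x = 0) (hinv : ∀ g ∈ G0, ∀ x ∈ F.M, χ (g x) = χ x) :
    ∀ x ∈ F.M, χ x = 0 := by
  obtain ⟨v₀, hv₀, hv₁⟩ := F.exists_ne_one
  have key : ∀ v ∈ F.A, v ≠ 1 → χ (F.m v) = χ (F.m v₀) := by
    intro v hv hne
    refine (htrans {v | v ∈ F.A ∧ v ≠ 1 ∧ χ (F.m v) = χ (F.m v₀)} ⟨v₀, hv₀, hv₁, rfl⟩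
      (fun w hw => ⟨hw.1, hw.2.1⟩) ?_ v hv hne).2.2
    rintro g hg w ⟨hwA, hw1, hwe⟩
    obtain ⟨hiso, hlin, hgt, hnorm⟩ := hG g hg
    refine ⟨hnorm w hwA, fun e => hw1 (conj_eq_one_iff.1 e), ?_⟩
    have hmem := F.m_conj hiso hlin hgt hwA (hnorm w hwA)
    have e : g (F.m w) = (g (F.m w) + F.m (g * w * g⁻¹)) + F.m (g * w * g⁻¹) := by
      rw [add_assoc, v_add_self, add_zero]
    have h2 : χ (g (F.m w)) = χ (F.m (g * w * g⁻¹)) := by
      rw [e, hadd _ (F.L_le_M hmem) _ (F.mm_mem (hnorm w hwA)), hL _ hmem, zero_add]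
    rw [← h2, hinv g hg _ (F.mm_mem hwA), hwe]
  have h0 : χ (F.m v₀) = 0 := by
    obtain ⟨w, hw, hw0, hw1⟩ : ∃ w ∈ F.A, w ≠ v₀ ∧ w ≠ 1 := by
      by_contra hcon
      push Not at hcon
      have hle : F.A ≤ Subgroup.zpowers v₀ := fun w hw => by
        by_cases h : w = v₀
        · exact h ▸ Subgroup.mem_zpowers _
        · rw [hcon w hw h]; exact one_mem _
      haveI : Finite ↥(Subgroup.zpowers v₀) :=
        Nat.finite_of_card_ne_zero (by
          rw [Nat.card_zpowers]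
          exact (orderOf_pos_iff.2 (isOfFinOrder_iff_pow_eq_one.2
            ⟨2, two_pos, (pow_two v₀).trans (LinearEquiv.ext (F.invol v₀ hv₀))⟩)).ne')
      have h1 := Subgroup.card_le_of_le hle
      rw [F.card_A, Nat.card_zpowers] at h1
      have h2 : orderOf v₀ ∣ 2 := orderOf_dvd_of_pow_eq_one
        ((pow_two v₀).trans (LinearEquiv.ext (F.invol v₀ hv₀)))
      have := Nat.le_of_dvd two_pos h2
      omega
    have hne : v₀ * w ≠ 1 := fun e => hw0 (by
      have hsq : v₀ * v₀ = 1 := LinearEquiv.ext (F.invol v₀ hv₀)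
      exact mul_left_cancel (e.trans hsq.symm))
    have e := key (v₀ * w) (mul_mem hv₀ hw) hne
    rw [F.m_mul hv₀ hw, hadd _ (add_mem (F.mm_mem hv₀) (F.mm_mem hw)) _
      (Submodule.smul_mem _ _ F.tM), hadd _ (F.mm_mem hv₀) _ (F.mm_mem hw),
      hL _ (Submodule.smul_mem _ _ F.t_mem_L), key w hw hw1, zmod2_add_self, zero_add] at e
    exact e.symm
  intro x hx
  obtain ⟨v, hv, hmem⟩ := F.exists_m hx
  have e : x = (x + F.m v) + F.m v := by rw [add_assoc, v_add_self, add_zero]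
  rw [e, hadd _ (F.L_le_M hmem) _ (F.mm_mem hv), hL _ hmem, zero_add]
  by_cases hne : v = 1
  · rw [hne, F.m_one]; exact hL _ (zero_mem _)
  · rw [key v hv hne, h0]

/-- No invariant hyperplane of `M` contains `t` and not its translate. -/
theorem no_hyperplane [Finite V] (G0 : Set (V ≃ₗ[ZMod 2] V))
    (hG : ∀ g ∈ G0, S.IsIso g ∧ S.Lin g ∧ g F.t = F.t ∧ ∀ v ∈ F.A, g * v * g⁻¹ ∈ F.A)
    (htrans : ∀ T : Set (V ≃ₗ[ZMod 2] V), T.Nonempty → (∀ v ∈ T, v ∈ F.A ∧ v ≠ 1) →
      (∀ g ∈ G0, ∀ v ∈ T, g * v * g⁻¹ ∈ T) → ∀ v ∈ F.A, v ≠ 1 → v ∈ T)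
    (S0 : Submodule (ZMod 2) V) (hle : S0 ≤ F.M) (ht : F.t ∈ S0) (hwt : S.om F.t ∉ S0)
    (hcov : ∀ x ∈ F.M, x ∈ S0 ∨ x + S.om F.t ∈ S0) (hinv : ∀ g ∈ G0, ∀ s ∈ S0, g s ∈ S0) :
    False := by
  have hM : S0 ⊔ Submodule.span (ZMod 2) {S.om F.t} = F.M := by
    refine le_antisymm (sup_le hle ((Submodule.span_singleton_le_iff_mem _ _).2 F.om_t_mem))
      fun x hx => ?_
    rcases hcov x hx with h | h
    · exact Submodule.mem_sup_left h
    · have : x = (x + S.om F.t) + S.om F.t := by rw [add_assoc, v_add_self, add_zero]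
      rw [this]
      exact Submodule.add_mem_sup h (Submodule.mem_span_singleton_self _)
  obtain ⟨f0, hf0, hf1⟩ : ∃ f0 ∈ S.orth S0, S.B f0 (S.om F.t) = 1 := by
    by_contra hcon
    push Not at hcon
    refine hwt ?_
    rw [← S.orth_orth S0]
    exact S.mem_orth.2 fun w hw => (zmod2_cases _).resolve_right (hcon w hw)
  have hft : S.B f0 F.t = 0 := S.mem_orth'.1 hf0 _ ht
  let Q : (V ≃ₗ[ZMod 2] V) → V → ZMod 2 := fun v f => S.B (nMap v f) (S.om f)
  have hQ : ∀ v ∈ F.A, ∀ x ∈ F.M, Q v (f0 + x) = Q v f0 := by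
    intro v hv x hx
    have hmem := F.m_mem hv hft
    show S.B (nMap v (f0 + x)) (S.om (f0 + x)) = S.B (nMap v f0) (S.om f0)
    rw [map_add, map_add, F.move_eq hv hft hf1 hx, map_add, map_smul, LinearMap.add_apply,
      map_add, map_add, LinearMap.smul_apply, LinearMap.smul_apply, F.B_t_om_of_dual hft hf1,
      F.B_L_M F.t_mem_L hx]
    have e : S.B (nMap v f0) (S.om x) = S.B x (S.om (nMap v f0)) := by
      rw [S.symm, S.B_om_left, S.om_om, map_add, F.iso x hx _ hmem, add_zero]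
    rw [e, smul_zero, add_zero, smul_eq_mul, mul_one, add_assoc, zmod2_add_self, add_zero]
  have hQg : ∀ g ∈ G0, ∀ v ∈ F.A, Q (g * v * g⁻¹) f0 = Q v f0 := by
    intro g hg v hv
    obtain ⟨hiso, hlin, hgt, hnorm⟩ := hG g hg
    have e1 : Q (g * v * g⁻¹) (g f0) = Q v f0 := by
      show S.B (nMap (g * v * g⁻¹) (g f0)) (S.om (g f0)) = _
      have e2 : nMap (g * v * g⁻¹) (g f0) = g (nMap v f0) := by
        simp only [nMap_apply, map_add, LinearEquiv.mul_apply]
        congr 1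
        show g (v (g.symm (g f0))) = g (v f0)
        rw [LinearEquiv.symm_apply_apply]
      rw [e2, ← hlin, hiso.B]
    have hd : g f0 + f0 ∈ F.M := by
      rw [← F.orth_M, ← hM]
      have hgS : ∀ s ∈ S0, S.B (g f0) s = 0 := fun s hs => by
        have hsur : ∃ s' ∈ S0, g s' = s := by
          obtain ⟨r, hr⟩ := Finite.surjective_of_injective
            (f := fun r : S0 => (⟨g r, hinv g hg r r.2⟩ : S0))
            (fun a b e => Subtype.ext (g.injective (congrArg Subtype.val e))) ⟨s, hs⟩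
          exact ⟨r, r.2, congrArg Subtype.val hr⟩
        obtain ⟨s', hs', rfl⟩ := hsur
        rw [hiso.B]
        exact S.mem_orth'.1 hf0 _ hs'
      refine S.mem_orth'.2 fun w hw => ?_
      obtain ⟨a, ha, b, hb, rfl⟩ := Submodule.mem_sup.1 hw
      rw [map_add, map_add, LinearMap.add_apply, LinearMap.add_apply, hgS a ha,
        S.mem_orth'.1 hf0 a ha, zero_add, zero_add]
      rcases span_singleton_cases hb with rfl | rfl
      · simp
      · rw [hf1]
        have : S.B (g f0) (S.om F.t) = 1 := by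
          conv_lhs => rw [← hgt, ← hlin, hiso.B]
          exact hf1
        rw [this]
        decide
    have e3 : g f0 = f0 + (g f0 + f0) := by rw [add_comm (g f0), v_add_cancel]
    rw [← e1, e3]
    exact (hQ _ (hnorm v hv) _ hd).symm
  obtain ⟨v₀, hv₀, hv₁⟩ := F.exists_ne_one
  have hconst : ∀ v ∈ F.A, v ≠ 1 → Q v f0 = Q v₀ f0 := fun v hv hne =>
    (htrans {v | v ∈ F.A ∧ v ≠ 1 ∧ Q v f0 = Q v₀ f0} ⟨v₀, hv₀, hv₁, rfl⟩
      (fun w hw => ⟨hw.1, hw.2.1⟩)
      (fun g hg w hw => ⟨(hG g hg).2.2.2 w hw.1, fun e => hw.2.1 (conj_eq_one_iff.1 e),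
        (hQg g hg w hw.1).trans hw.2.2⟩) v hv hne).2.2
  let μ : (V ≃ₗ[ZMod 2] V) → (V ≃ₗ[ZMod 2] V) → ZMod 2 := fun v w =>
    S.B (nMap w f0) (S.om (nMap v f0))
  have hmul : ∀ v ∈ F.A, ∀ w ∈ F.A,
      nMap (v * w) f0 = nMap v f0 + nMap w f0 + μ v w • F.t := fun v hv w hw => by
    rw [n_mul, F.move_eq hv hft hf1 (F.m_mem hw hft)]
  have hQmul : ∀ v ∈ F.A, ∀ w ∈ F.A, Q (v * w) f0 = Q v f0 + Q w f0 + μ v w :=
    fun v hv w hw => by
    show S.B (nMap (v * w) f0) (S.om f0) = _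
    rw [hmul v hv w hw, map_add, map_add, map_smul, LinearMap.add_apply, LinearMap.add_apply,
      LinearMap.smul_apply, F.B_t_om_of_dual hft hf1, smul_eq_mul, mul_one]
  have hμ : ∀ v ∈ F.A, ∀ w ∈ F.A, v ≠ 1 → w ≠ 1 → v ≠ w → μ v w = Q v₀ f0 := by
    intro v hv w hw h1 h2 h3
    have hne : v * w ≠ 1 := fun e => h3 (by
      have hsq : w * w = 1 := LinearEquiv.ext (F.invol w hw)
      exact mul_right_cancel (e.trans hsq.symm))
    have := hQmul v hv w hw
    rw [hconst _ (mul_mem hv hw) hne, hconst v hv h1, hconst w hw h2, zmod2_add_self, zero_add]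
      at this
    exact this.symm
  obtain ⟨w, hw, hw'⟩ : ∃ w ∈ F.A, w ∉ Subgroup.zpowers v₀ := by
    by_contra hcon
    push Not at hcon
    have hle : F.A ≤ Subgroup.zpowers v₀ := hcon
    haveI : Finite ↥(Subgroup.zpowers v₀) :=
      Nat.finite_of_card_ne_zero (by
        rw [Nat.card_zpowers]
        exact (orderOf_pos_iff.2 (isOfFinOrder_iff_pow_eq_one.2
          ⟨2, two_pos, (pow_two v₀).trans (LinearEquiv.ext (F.invol v₀ hv₀))⟩)).ne')
    have h1 := Subgroup.card_le_of_le hle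
    rw [F.card_A, Nat.card_zpowers] at h1
    have h2 : orderOf v₀ ∣ 2 := orderOf_dvd_of_pow_eq_one
      ((pow_two v₀).trans (LinearEquiv.ext (F.invol v₀ hv₀)))
    have := Nat.le_of_dvd two_pos h2
    omega
  have hμadd : ∀ v ∈ F.A, ∀ a ∈ F.A, ∀ b ∈ F.A, μ v (a * b) = μ v a + μ v b :=
    fun v hv a ha b hb => by
    show S.B (nMap (a * b) f0) (S.om (nMap v f0)) = _
    rw [hmul a ha b hb, map_add, map_add, map_smul, LinearMap.add_apply, LinearMap.add_apply,
      LinearMap.smul_apply, F.B_L_M F.t_mem_L (F.m_mem hv hft), smul_zero, add_zero]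
  have hc0 : Q v₀ f0 = 0 := by
    obtain ⟨u, hu, hu'⟩ : ∃ u ∈ F.A, u ∉ ({1, v₀, w, v₀ * w} : Set (V ≃ₗ[ZMod 2] V)) := by
      by_contra hcon
      push Not at hcon
      have h1 := F.card_A
      have h2 : Nat.card F.A ≤ 4 := by
        refine le_trans (le_of_eq (Nat.card_coe_set_eq (F.A : Set (V ≃ₗ[ZMod 2] V)))) ?_
        refine le_trans (Set.ncard_le_ncard (t := {1, v₀, w, v₀ * w}) (fun u hu => hcon u hu) (Set.toFinite _)) ?_
        refine le_trans (Set.ncard_insert_le _ _) ?_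
        refine le_trans (Nat.add_le_add_right (Set.ncard_insert_le _ _) 1) ?_
        refine le_trans (Nat.add_le_add_right (Nat.add_le_add_right (Set.ncard_insert_le _ _) 1) 1) ?_
        rw [Set.ncard_singleton]
      omega
    simp only [Set.mem_insert_iff, Set.mem_singleton_iff, not_or] at hu'
    have hwv : w ≠ v₀ := fun e => hw' (e ▸ Subgroup.mem_zpowers _)
    have hw1 : w ≠ 1 := fun e => hw' (e ▸ one_mem _)
    have hv0sq : v₀ * v₀ = 1 := LinearEquiv.ext (F.invol v₀ hv₀)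
    have huw : u * w ≠ 1 := fun e => hu'.2.2.1 (by
      have hsq : w * w = 1 := LinearEquiv.ext (F.invol w hw)
      exact mul_right_cancel (e.trans hsq.symm))
    have huwv : v₀ ≠ u * w := fun e => hu'.2.2.2 (by
      have hsq : w * w = 1 := LinearEquiv.ext (F.invol w hw)
      rw [e, mul_assoc, hsq, mul_one])
    have h1 := hμadd v₀ hv₀ u hu w hw
    rw [hμ v₀ hv₀ u hu hv₁ hu'.1 (Ne.symm hu'.2.1), hμ v₀ hv₀ w hw hv₁ hw1 (Ne.symm hwv),
      hμ v₀ hv₀ (u * w) (mul_mem hu hw) hv₁ huw huwv, zmod2_add_self] at h1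
    exact h1
  have hall : ∀ v ∈ F.A, ∀ a ∈ F.A, μ v a = 0 := by
    intro v hv a ha
    have hone : ∀ x, μ x 1 = 0 := fun x => by
      show S.B (nMap 1 f0) _ = 0
      rw [nMap_apply, show ((1 : V ≃ₗ[ZMod 2] V) f0 + f0) = 0 from v_add_self _, map_zero,
        LinearMap.zero_apply]
    by_cases ha1 : a = 1
    · rw [ha1, hone]
    by_cases hv1 : v = 1
    · rw [hv1]
      show S.B _ (S.om (nMap 1 f0)) = 0
      rw [nMap_apply (1 : V ≃ₗ[ZMod 2] V),
        show ((1 : V ≃ₗ[ZMod 2] V) f0 + f0) = 0 from v_add_self _, map_zero, map_zero]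
    by_cases hav : v = a
    · obtain ⟨b, hb, hb1, hbv⟩ : ∃ b ∈ F.A, b ≠ 1 ∧ b ≠ v := by
        by_cases h : v = v₀
        · exact ⟨w, hw, fun e => hw' (e ▸ one_mem _), fun e => hw' (e ▸ h ▸ Subgroup.mem_zpowers _)⟩
        · exact ⟨v₀, hv₀, hv₁, fun e => h e.symm⟩
      have hab : a * b ≠ 1 := fun e => hbv (by
        have hsq : a * a = 1 := LinearEquiv.ext (F.invol a ha)
        rw [hav]
        exact mul_left_cancel (e.trans hsq.symm))
      have habv : v ≠ a * b := fun e => hb1 (by rwa [hav, left_eq_mul] at e)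
      have h1 := hμadd v hv a ha b hb
      rw [hμ v hv b hb hv1 hb1 (Ne.symm hbv), hμ v hv (a * b) (mul_mem ha hb) hv1 hab habv, hc0,
        add_zero] at h1
      exact h1.symm
    · rw [hμ v hv a ha hv1 ha1 hav, hc0]
  refine F.m_not_mem_L hv₀ hv₁ ?_
  have hd : F.f + f0 ∈ F.D := by
    refine F.mem_D_of ?_ ?_ <;> rw [map_add, LinearMap.add_apply]
    · rw [F.B_f_t, hft, add_zero]
    · rw [F.B_f_om_t, hf1]
      decide
  have hdiff : F.m v₀ + nMap v₀ f0 ∈ F.L := by
    show nMap v₀ F.f + nMap v₀ f0 ∈ F.L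
    rw [← map_add]
    exact F.move_D hv₀ hd
  have hf0L : nMap v₀ f0 ∈ F.L := by
    rw [← orth_sup_eq F]
    refine S.mem_orth'.2 fun y hy => ?_
    obtain ⟨a, ha, b, ⟨c, hc, rfl⟩, rfl⟩ := Submodule.mem_sup.1 hy
    have hmem := F.m_mem hv₀ hft
    rw [map_add, F.iso _ hmem a ha, zero_add]
    show S.B (nMap v₀ f0) (S.om c) = 0
    obtain ⟨u, hu, hcu⟩ := F.exists_m hc
    have hfu : F.m u + nMap u f0 ∈ F.L := by
      show nMap u F.f + nMap u f0 ∈ F.L
      rw [← map_add]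
      exact F.move_D hu hd
    have e : c = (c + F.m u + (F.m u + nMap u f0)) + nMap u f0 := by
      rw [show c + F.m u + (F.m u + nMap u f0) + nMap u f0 =
        c + (F.m u + F.m u) + (nMap u f0 + nMap u f0) by abel, v_add_self, v_add_self, add_zero,
        add_zero]
    rw [e, map_add, map_add, F.iso _ hmem _ (F.L_le_M (S.stable_line _ _ (add_mem hcu hfu))),
      zero_add]
    exact hall u hu v₀ hv₀
  have e : F.m v₀ = (F.m v₀ + nMap v₀ f0) + nMap v₀ f0 := by rw [add_assoc, v_add_self, add_zero]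
  rw [e]
  exact add_mem hdiff hf0L

end Frame

end Space

end CfsgLib.JFourType
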