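import Cfsg.Agent.JFourType.Setup

/-!
# Inner and outer elements of the centralizer

Every element of `C(z)` is an element of `E` times one that commutes with or inverts `p`; the
former are the inner ones, and `C(z) ∩ C(p)` maps onto `M22` with kernel `⟨z⟩ × ⟨p⟩`.
-/

set_option autoImplicit false
set_option linter.style.haveILetI false

namespace CfsgLib.JFourType

open Cfsg CfsgLib.LargeExtraspecial Module

namespace Shape

variable {G : Type*} [Group G] (S : Shape G)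

open Classical in
/-- The image in the automorphism group of `M22`; trivial outside the centralizer. -/
noncomputable def piv (g : G) : MulAut M22g := if h : g ∈ S.H then S.π ⟨g, h⟩ else 1

/-- Inner elements. -/
def Inner (g : G) : Prop := S.piv g ∈ Inn M22g

/-- The element of `M22` giving the image of an inner element. -/
noncomputable def bar (g : G) : M22g := Function.invFun (fun a : M22g => MulAut.conj a) (S.piv g)

variable {S}

theorem piv_mul {g h : G} (hg : g ∈ S.H) (hh : h ∈ S.H) :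
    S.piv (g * h) = S.piv g * S.piv h := by
  rw [piv, piv, piv, dif_pos hg, dif_pos hh, dif_pos (mul_mem hg hh), ← map_mul]
  rfl

variable (S) in
/-- The restriction of `piv` to the centralizer, as a homomorphism. -/
noncomputable def pivHom : ↥S.H →* MulAut M22g :=
  MonoidHom.mk' (fun g => S.piv g) fun g h => piv_mul g.2 h.2

theorem piv_one : S.piv 1 = 1 := map_one S.pivHom

theorem piv_inv {g : G} (hg : g ∈ S.H) : S.piv g⁻¹ = (S.piv g)⁻¹ :=
  map_inv S.pivHom ⟨g, hg⟩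

theorem piv_pow {g : G} (hg : g ∈ S.H) (k : ℕ) : S.piv (g ^ k) = S.piv g ^ k :=
  map_pow S.pivHom ⟨g, hg⟩ k

theorem piv_surj (σ : MulAut M22g) : ∃ g ∈ S.H, S.piv g = σ := by
  obtain ⟨m, rfl⟩ := S.π_surj σ
  exact ⟨m, m.2, by rw [piv, dif_pos (show (m : G) ∈ S.H from m.2)]⟩

theorem piv_eq_one {g : G} (hg : g ∈ S.H) :
    S.piv g = 1 ↔ ∃ e ∈ S.E, ∃ k : ℕ, g = e * S.p ^ k := by
  rw [piv, dif_pos hg]
  exact S.π_ker _

theorem piv_E {e : G} (he : e ∈ S.E) : S.piv e = 1 :=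
  (piv_eq_one (S.E_le_H he)).2 ⟨e, he, 0, by simp⟩

theorem piv_z : S.piv S.z = 1 := piv_E S.sub.z_mem

theorem piv_p : S.piv S.p = 1 := (piv_eq_one S.p_mem_H).2 ⟨1, one_mem _, 1, by simp⟩

theorem piv_p_pow (k : ℕ) : S.piv (S.p ^ k) = 1 := by rw [piv_pow S.p_mem_H, piv_p, one_pow]

/-! ### Decomposition -/

/-- An element of order dividing three in `E p ^ k` is conjugate to `p ^ k`. -/
theorem exists_conj_pow [Finite G] {e : G} (he : e ∈ S.E) {k : ℕ} (hk : k = 1 ∨ k = 2)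
    (h3 : (e * S.p ^ k) ^ 3 = 1) : ∃ f ∈ S.E, f * (e * S.p ^ k) * f⁻¹ = S.p ^ k := by
  have hpH := S.p_pow_mem k
  obtain ⟨f, hf, hfe⟩ : ∃ f ∈ S.E, S.pr f + S.pr e + S.cj (S.p ^ k) (S.pr f) = 0 := by
    rcases hk with rfl | rfl
    · obtain ⟨f, hf, e1⟩ := pr_surj (S.space.om (S.pr e))
      refine ⟨f, hf, ?_⟩
      rw [e1, pow_one, ← space_om, S.space.om_om]
      rw [show S.space.om (S.pr e) + S.pr e + (S.space.om (S.pr e) + S.pr e) =
        (S.space.om (S.pr e) + S.pr e) + (S.space.om (S.pr e) + S.pr e) from rfl]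
      exact v_add_self _
    · obtain ⟨f, hf, e1⟩ := pr_surj (S.space.om (S.space.om (S.pr e)))
      refine ⟨f, hf, ?_⟩
      rw [e1, pow_two, S.cj_mul S.p_mem_H S.p_mem_H, ← space_om, ← space_om, S.space.om_cube,
        S.space.om_om]
      rw [add_assoc (S.space.om (S.pr e)), v_add_self, add_zero, v_add_self]
  refine ⟨f, hf, ?_⟩
  have hA : f * e * (S.p ^ k * f⁻¹ * (S.p ^ k)⁻¹) ∈ S.E :=
    mul_mem (mul_mem hf he) (S.conj_mem hpH (inv_mem hf))
  have hpr : S.pr (f * e * (S.p ^ k * f⁻¹ * (S.p ^ k)⁻¹)) = 0 := by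
    rw [pr_mul (mul_mem hf he) (S.conj_mem hpH (inv_mem hf)), pr_mul hf he,
      ← S.cj_pr hpH (inv_mem hf), pr_inv hf]
    exact hfe
  have hx : f * (e * S.p ^ k) * f⁻¹ = f * e * (S.p ^ k * f⁻¹ * (S.p ^ k)⁻¹) * S.p ^ k := by group
  rcases (pr_eq_zero hA).1 hpr with h1 | h1
  · rw [hx, h1, one_mul]
  · exfalso
    have hz : Commute S.z (S.p ^ k) := (show Commute S.p S.z from S.p_comm).symm.pow_right k
    have h6 : (f * (e * S.p ^ k) * f⁻¹) ^ 3 = 1 := by rw [conj_pow, h3]; simp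
    rw [hx, h1, hz.mul_pow, pow_succ, pow_two, S.z_mul_z, one_mul, ← pow_mul, mul_comm k 3, pow_mul,
      S.p_pow_three, one_pow, mul_one] at h6
    exact S.sub.ne_one h6

/-- Every element is one of `E` times one commuting with or inverting `p`. -/
theorem decompose [Finite G] {m : G} (hm : m ∈ S.H) :
    ∃ e ∈ S.E, ∃ n ∈ S.H, m = e * n ∧ (n * S.p = S.p * n ∨ n * S.p * n⁻¹ = S.p⁻¹) := by
  have hmp : m * S.p * m⁻¹ ∈ S.H := mul_mem (mul_mem hm S.p_mem_H) (inv_mem hm)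
  obtain ⟨e, he, k, hk⟩ := (piv_eq_one hmp).1 (by
    rw [piv_mul (mul_mem hm S.p_mem_H) (inv_mem hm), piv_mul hm S.p_mem_H, piv_p, mul_one,
      piv_inv hm, mul_inv_cancel])
  rw [S.p_pow_mod] at hk
  have h3 : (m * S.p * m⁻¹) ^ 3 = 1 := by rw [conj_pow, S.p_pow_three]; simp
  have hk12 : k % 3 = 1 ∨ k % 3 = 2 := by
    rcases (by omega : k % 3 = 0 ∨ k % 3 = 1 ∨ k % 3 = 2) with h | h | h
    · exfalso
      rw [h, pow_zero, mul_one] at hk
      have := S.conj_mem' hm (hk ▸ he)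
      exact S.p_not_mem_E (by simpa [mul_assoc] using this)
    · exact Or.inl h
    · exact Or.inr h
  obtain ⟨f, hf, hfp⟩ := exists_conj_pow he hk12 (hk ▸ h3)
  refine ⟨f⁻¹, inv_mem hf, f * m, mul_mem (S.E_le_H hf) hm, by group, ?_⟩
  have e1 : f * m * S.p * (f * m)⁻¹ = S.p ^ (k % 3) := by rw [← hfp, ← hk]; group
  rcases hk12 with h | h <;> rw [h] at e1
  · rw [pow_one] at e1
    exact Or.inl (mul_inv_eq_iff_eq_mul.1 e1)
  · rw [← S.p_inv] at e1
    exact Or.inr e1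

theorem inv_p_ne : S.p⁻¹ ≠ S.p := fun h => by
  have h2 : S.p * S.p = 1 := mul_eq_one_iff_eq_inv.2 h.symm
  have := orderOf_dvd_of_pow_eq_one ((pow_two S.p).trans h2)
  rw [S.p3] at this
  omega

/-- An element inverting `p` is not of the form "kernel times an element of `C`". -/
theorem not_ker_mul {n c : G} (hn : n ∈ S.H) (hinv : n * S.p * n⁻¹ = S.p⁻¹) (hc : c ∈ S.C) :
    S.piv n ≠ S.piv c := fun h => by
  have hcH := S.C_le_H hc
  obtain ⟨e, he, k, hk⟩ := (piv_eq_one (mul_mem (inv_mem hcH) hn)).1 (by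
    rw [piv_mul (inv_mem hcH) hn, piv_inv hcH, h, inv_mul_cancel])
  have hcp : S.p * c = c * S.p := ((S.mem_C.1 hc).2).symm
  have e1 : c⁻¹ * n * S.p * (c⁻¹ * n)⁻¹ = S.p⁻¹ := by
    calc c⁻¹ * n * S.p * (c⁻¹ * n)⁻¹ = c⁻¹ * (n * S.p * n⁻¹) * c := by group
      _ = c⁻¹ * (S.p⁻¹ * c) := by rw [hinv]; group
      _ = S.p⁻¹ := by
        rw [show S.p⁻¹ * c = c * S.p⁻¹ from
          ((show Commute S.p c from hcp).inv_left).eq]
        group
  have e2 : c⁻¹ * n * S.p * (c⁻¹ * n)⁻¹ = e * (S.p * e⁻¹ * S.p⁻¹) * S.p := by rw [hk]; group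
  have hE : e * (S.p * e⁻¹ * S.p⁻¹) ∈ S.E := mul_mem he (S.conj_mem S.p_mem_H (inv_mem he))
  rw [e2] at e1
  have hp1 : S.p ∈ S.E := by
    have : S.p = e * (S.p * e⁻¹ * S.p⁻¹) := by
      rw [← mul_inv_eq_iff_eq_mul.2 e1.symm]
      rw [S.p_inv, ← pow_add, S.p_pow_mod, pow_one]
    rw [this]
    exact hE
  exact S.p_not_mem_E hp1

/-- Every element of `M22` is the image of an element of `C`. -/
theorem exists_lift [Finite G] (a : M22g) : ∃ c ∈ S.C, S.piv c = MulAut.conj a := by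
  haveI := simple_M22g
  let A : Subgroup M22g :=
    { carrier := {a | ∃ c ∈ S.C, S.piv c = MulAut.conj a}
      one_mem' := ⟨1, one_mem _, by rw [piv_one, map_one]⟩
      mul_mem' := by
        rintro a b ⟨c, hc, e⟩ ⟨d, hd, e'⟩
        exact ⟨c * d, mul_mem hc hd, by rw [piv_mul (S.C_le_H hc) (S.C_le_H hd), e, e', map_mul]⟩
      inv_mem' := by
        rintro a ⟨c, hc, e⟩
        exact ⟨c⁻¹, inv_mem hc, by rw [piv_inv (S.C_le_H hc), e, map_inv]⟩ }
  have hsq : ∀ a, a * a ∈ A := fun a => by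
    obtain ⟨m, hm, hpm⟩ := piv_surj (S := S) (MulAut.conj a)
    obtain ⟨e, he, n, hn, rfl, hnp⟩ := decompose hm
    rw [piv_mul (S.E_le_H he) hn, piv_E he, one_mul] at hpm
    refine ⟨n * n, S.mem_C.2 ⟨S.mem_H.1 (mul_mem hn hn), ?_⟩, by rw [piv_mul hn hn, hpm, map_mul]⟩
    rcases hnp with h | h
    · exact (Commute.mul_left h h).eq
    · refine mul_inv_eq_iff_eq_mul.1 ?_
      calc n * n * S.p * (n * n)⁻¹ = n * (n * S.p * n⁻¹) * n⁻¹ := by group
        _ = n * S.p⁻¹ * n⁻¹ := by rw [h]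
        _ = (n * S.p * n⁻¹)⁻¹ := by group
        _ = S.p := by rw [h, inv_inv]
  have hnorm : A.Normal := ⟨fun x hx g => by
    have e : g * x * g⁻¹ = (g * g) * ((g⁻¹ * x) * (g⁻¹ * x)) * (x⁻¹ * x⁻¹) * x := by group
    rw [e]
    exact mul_mem (mul_mem (mul_mem (hsq _) (hsq _)) (hsq _)) hx⟩
  rcases hnorm.eq_bot_or_eq_top with h | h
  · refine absurd (fun a b => ?_) not_comm_M22g
    have h1 : ∀ a : M22g, a * a = 1 := fun a => by
      have := hsq a
      rwa [h, Subgroup.mem_bot] at this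
    have h2 : ∀ a : M22g, a⁻¹ = a := fun a => inv_eq_of_mul_eq_one_right (h1 a)
    rw [← h2 (a * b), mul_inv_rev, h2, h2]
  · exact (h ▸ Subgroup.mem_top a : a ∈ A)

theorem not_inner_of_invert [Finite G] {n : G} (hn : n ∈ S.H) (hinv : n * S.p * n⁻¹ = S.p⁻¹) :
    ¬ S.Inner n := fun ⟨a, ha⟩ => by
  obtain ⟨c, hc, e⟩ := exists_lift (S := S) a
  exact not_ker_mul hn hinv hc (ha.symm.trans e.symm)

theorem inner_of_C [Finite G] {c : G} (hc : c ∈ S.C) : S.Inner c := by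
  by_contra hne
  obtain ⟨τ, hτz, hτ⟩ := S.invert
  have hτH : τ ∈ S.H := S.mem_H.2 hτz
  have hcH := S.C_le_H hc
  refine not_inner_of_invert (mul_mem hcH hτH) ?_ ?_
  · calc c * τ * S.p * (c * τ)⁻¹ = c * (τ * S.p * τ⁻¹) * c⁻¹ := by group
      _ = c * S.p⁻¹ * c⁻¹ := by rw [hτ]
      _ = (c * S.p * c⁻¹)⁻¹ := by group
      _ = S.p⁻¹ := by rw [mul_inv_eq_iff_eq_mul.2 (S.mem_C.1 hc).2]
  · show S.piv (c * τ) ∈ Inn M22g
    rw [piv_mul hcH hτH, Subgroup.mul_mem_iff_of_index_two inn_index]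
    exact iff_of_false hne (not_inner_of_invert hτH hτ)

theorem inner_iff [Finite G] {m : G} (hm : m ∈ S.H) :
    S.Inner m ↔ ∃ e ∈ S.E, ∃ c ∈ S.C, m = e * c := by
  refine ⟨fun hin => ?_, ?_⟩
  · obtain ⟨e, he, n, hn, rfl, h | h⟩ := decompose hm
    · exact ⟨e, he, n, S.mem_C.2 ⟨S.mem_H.1 hn, h⟩, rfl⟩
    · refine absurd ?_ (not_inner_of_invert hn h)
      rw [Inner, piv_mul (S.E_le_H he) hn, piv_E he, one_mul] at hin
      exact hin
  · rintro ⟨e, he, c, hc, rfl⟩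
    show S.piv _ ∈ _
    rw [piv_mul (S.E_le_H he) (S.C_le_H hc), piv_E he, one_mul]
    exact inner_of_C hc

theorem inner_E {e : G} (he : e ∈ S.E) : S.Inner e := by
  show S.piv e ∈ _
  rw [piv_E he]
  exact one_mem _

theorem inner_mul {m n : G} (hm : m ∈ S.H) (hn : n ∈ S.H) (h : S.Inner m) (h' : S.Inner n) :
    S.Inner (m * n) := by
  show S.piv _ ∈ _
  rw [piv_mul hm hn]
  exact mul_mem h h'

theorem inner_inv {m : G} (hm : m ∈ S.H) (h : S.Inner m) : S.Inner m⁻¹ := by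
  show S.piv _ ∈ _
  rw [piv_inv hm]
  exact inv_mem h

theorem inner_sq {m : G} (hm : m ∈ S.H) : S.Inner (m * m) := by
  show S.piv _ ∈ _
  rw [piv_mul hm hm, Subgroup.mul_mem_iff_of_index_two inn_index]

theorem inner_mul_iff {m n : G} (hm : m ∈ S.H) (hn : n ∈ S.H) :
    S.Inner (m * n) ↔ (S.Inner m ↔ S.Inner n) := by
  show S.piv _ ∈ _ ↔ _
  rw [piv_mul hm hn, Subgroup.mul_mem_iff_of_index_two inn_index]
  rfl

theorem inner_conj_iff {m g : G} (hm : m ∈ S.H) (hg : g ∈ S.H) :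
    S.Inner (g * m * g⁻¹) ↔ S.Inner m := by
  show S.piv _ ∈ _ ↔ S.piv _ ∈ _
  rw [piv_mul (mul_mem hg hm) (inv_mem hg), piv_mul hg hm, piv_inv hg]
  exact ((inferInstance : (Inn M22g).Normal).mem_comm_iff).trans (by
    rw [← mul_assoc, inv_mul_cancel, one_mul])

theorem inner_comm {m g : G} (hm : m ∈ S.H) (hg : g ∈ S.H) :
    S.Inner (g * m * g⁻¹ * m⁻¹) := by
  rw [inner_mul_iff (mul_mem (mul_mem hg hm) (inv_mem hg)) (inv_mem hm), inner_conj_iff hm hg]
  exact ⟨inner_inv hm, fun h => by simpa using inner_inv (inv_mem hm) h⟩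

theorem inner_of_odd {m : G} (hm : m ∈ S.H) (h : Odd (orderOf m)) : S.Inner m := by
  obtain ⟨k, hk⟩ := h
  have e : m = m ^ (k + 1) * m ^ (k + 1) := by
    rw [← pow_add, show k + 1 + (k + 1) = 2 * k + 1 + 1 by omega, pow_succ, ← hk,
      pow_orderOf_eq_one, one_mul]
  rw [e]
  exact inner_sq (pow_mem hm _)

theorem conj_bar {m : G} (h : S.Inner m) : MulAut.conj (S.bar m) = S.piv m :=
  Function.invFun_eq (f := fun a : M22g => MulAut.conj a) h

theorem bar_eq {m : G} {a : M22g} (h : S.piv m = MulAut.conj a) : S.bar m = a :=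
  conj_injective_M22g ((conj_bar ⟨a, h.symm⟩).trans h)

theorem bar_mul {m n : G} (hm : m ∈ S.H) (hn : n ∈ S.H) (h : S.Inner m) (h' : S.Inner n) :
    S.bar (m * n) = S.bar m * S.bar n := by
  refine bar_eq ?_
  rw [piv_mul hm hn, map_mul, conj_bar h, conj_bar h']

theorem bar_eq_one_iff {m : G} (h : S.Inner m) : S.bar m = 1 ↔ S.piv m = 1 := by
  constructor
  · intro e
    rw [← conj_bar h, e, map_one]
  · exact fun e => bar_eq (by rw [e, map_one])

theorem bar_E {e : G} (he : e ∈ S.E) : S.bar e = 1 := (bar_eq_one_iff (inner_E he)).2 (piv_E he)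

theorem bar_one : S.bar 1 = 1 := bar_E (one_mem _)

/-- The image on `C`, as a homomorphism. -/
noncomputable def barC [Finite G] (S : Shape G) : ↥S.C →* M22g :=
  MonoidHom.mk' (fun c => S.bar c) fun c d =>
    bar_mul (S.C_le_H c.2) (S.C_le_H d.2) (inner_of_C c.2) (inner_of_C d.2)

theorem barC_surj [Finite G] : Function.Surjective S.barC := fun a => by
  obtain ⟨c, hc, e⟩ := exists_lift (S := S) a
  exact ⟨⟨c, hc⟩, bar_eq e⟩

theorem bar_pow [Finite G] {c : G} (hc : c ∈ S.C) (k : ℕ) : S.bar (c ^ k) = S.bar c ^ k :=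
  map_pow S.barC ⟨c, hc⟩ k

theorem bar_inv [Finite G] {c : G} (hc : c ∈ S.C) : S.bar c⁻¹ = (S.bar c)⁻¹ :=
  map_inv S.barC ⟨c, hc⟩

theorem exists_bar [Finite G] (a : M22g) : ∃ c ∈ S.C, S.bar c = a := by
  obtain ⟨c, e⟩ := barC_surj (S := S) a
  exact ⟨c, c.2, e⟩

/-- The elements of `E` in `C` are the powers of `z`. -/
theorem E_inf_C {x : G} (hx : x ∈ S.E) (hc : x ∈ S.C) : x = 1 ∨ x = S.z :=
  S.fixp x hx (S.mem_C.1 hc).2.symm

/-- The kernel on `C`. -/
theorem eq_of_piv_eq_one [Finite G] {c : G} (hc : c ∈ S.C) (h : S.piv c = 1) :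
    ∃ k : ℕ, k < 3 ∧ (c = S.p ^ k ∨ c = S.z * S.p ^ k) := by
  obtain ⟨e, he, k, rfl⟩ := (piv_eq_one (S.C_le_H hc)).1 h
  refine ⟨k % 3, Nat.mod_lt _ (by norm_num), ?_⟩
  rw [← S.p_pow_mod]
  have hec : e ∈ S.C := by
    have := mul_mem hc (inv_mem (pow_mem S.p_mem_C k))
    rwa [mul_inv_cancel_right] at this
  rcases E_inf_C he hec with rfl | rfl
  · exact Or.inl (one_mul _)
  · exact Or.inr rfl

theorem C_sq [Finite G] {c : G} (hc : c ∈ S.C) (h : c * c ∈ S.E) : c * c = 1 ∨ c * c = S.z :=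
  E_inf_C h (mul_mem hc hc)

/-- Lift of an element with involutive image to one with square in `⟨z⟩`. -/
theorem exists_lift_sq [Finite G] {a : M22g} (ha : a * a = 1) :
    ∃ c ∈ S.C, S.bar c = a ∧ c * c ∈ S.E := by
  obtain ⟨c, hc, e⟩ := exists_bar (S := S) a
  refine ⟨c ^ 3, pow_mem hc 3, ?_, ?_⟩
  · rw [bar_pow hc, e, pow_succ, pow_two, ha, one_mul]
  · have h1 : S.piv (c * c) = 1 := by
      rw [← bar_eq_one_iff (inner_of_C (mul_mem hc hc))]
      rw [← pow_two, bar_pow hc, e, pow_two, ha]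
    obtain ⟨k, -, hk | hk⟩ := eq_of_piv_eq_one (mul_mem hc hc) h1 <;>
      rw [show c ^ 3 * c ^ 3 = (c * c) ^ 3 by rw [← pow_two c, ← pow_mul, ← pow_add], hk]
    · rw [← pow_mul, mul_comm, pow_mul, S.p_pow_three, one_pow]
      exact one_mem _
    · rw [((show Commute S.p S.z from S.p_comm).symm.pow_right k).mul_pow, ← pow_mul, mul_comm k,
        pow_mul, S.p_pow_three, one_pow, mul_one]
      exact pow_mem S.sub.z_mem 3

/-- Elements of `C` with squares in `E` and equal image differ by a power of `z`. -/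
theorem eq_of_bar_eq [Finite G] {c d : G} (hc : c ∈ S.C) (hd : d ∈ S.C) (h : S.bar c = S.bar d)
    (hc2 : c * c ∈ S.E) (hd2 : d * d ∈ S.E) : d = c ∨ d = S.z * c := by
  have h1 : S.piv (c⁻¹ * d) = 1 := by
    rw [← bar_eq_one_iff (inner_of_C (mul_mem (inv_mem hc) hd)),
      bar_mul (S.C_le_H (inv_mem hc)) (S.C_le_H hd) (inner_of_C (inv_mem hc)) (inner_of_C hd),
      bar_inv hc, h, inv_mul_cancel]
  have hcp : Commute c S.p := (S.mem_C.1 hc).2
  have hcz : Commute c S.z := (S.mem_C.1 hc).1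
  obtain ⟨k, hk3, hk⟩ := eq_of_piv_eq_one (mul_mem (inv_mem hc) hd) h1
  have key : ∀ i : ℕ, i < 2 → d = c * (S.z ^ i * S.p ^ k) → k = 0 := by
    intro i _ e
    have hzp : Commute S.z S.p := (show Commute S.p S.z from S.p_comm).symm
    have e2 : d * d = c * c * (S.z ^ (2 * i) * S.p ^ (2 * k)) := by
      rw [e, ← pow_two, ((hcz.pow_right i).mul_right (hcp.pow_right k)).mul_pow, pow_two,
        (hzp.pow_pow i k).mul_pow, ← pow_mul, ← pow_mul, mul_comm i, mul_comm k]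
    have hp : S.p ^ (2 * k) ∈ S.E := by
      have e3 : S.p ^ (2 * k) = (S.z ^ (2 * i))⁻¹ * ((c * c)⁻¹ * (d * d)) := by rw [e2]; group
      rw [e3]
      exact mul_mem (inv_mem (pow_mem S.sub.z_mem _)) (mul_mem (inv_mem hc2) hd2)
    have h3 := orderOf_dvd_of_pow_eq_one (S.p_pow_mem_E hp)
    rw [S.p3] at h3
    omega
  rcases hk with hk | hk <;> rw [inv_mul_eq_iff_eq_mul] at hk
  · obtain rfl := key 0 (by norm_num) (by simpa using hk)
    exact Or.inl (by simpa using hk)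
  · obtain rfl := key 1 (by norm_num) (by simpa using hk)
    refine Or.inr ?_
    rw [hk, pow_zero, mul_one]
    exact hcz.eq

/-! ### The action -/

theorem cj_commute_p [Finite G] {c : G} (hc : c ∈ S.C) (v : S.Vec) :
    S.cj c (S.space.om v) = S.space.om (S.cj c v) := by
  rw [space_om, space_om, ← S.cj_mul (S.C_le_H hc) S.p_mem_H, (S.mem_C.1 hc).2,
    S.cj_mul S.p_mem_H (S.C_le_H hc)]

theorem cj_mul_E [Finite G] {e n : G} (he : e ∈ S.E) (hn : n ∈ S.H) : S.cj (e * n) = S.cj n :=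
  LinearEquiv.ext fun v => by rw [S.cj_mul (S.E_le_H he) hn, S.cj_E he]

theorem lin_of_C [Finite G] {c : G} (hc : c ∈ S.C) : S.space.Lin (S.cj c) := cj_commute_p hc

theorem lin_of_inner [Finite G] {m : G} (hm : m ∈ S.H) (h : S.Inner m) :
    S.space.Lin (S.cj m) := by
  obtain ⟨e, he, c, hc, rfl⟩ := (inner_iff hm).1 h
  rw [cj_mul_E he (S.C_le_H hc)]
  exact lin_of_C hc

theorem semi_of_outer [Finite G] {m : G} (hm : m ∈ S.H) (h : ¬ S.Inner m) :
    S.space.Semi (S.cj m) := by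
  obtain ⟨e, he, n, hn, rfl, h1 | h1⟩ := decompose hm
  · exact absurd ((inner_iff hm).2 ⟨e, he, n, S.mem_C.2 ⟨S.mem_H.1 hn, h1⟩, rfl⟩) h
  · intro v
    rw [cj_mul_E he hn, space_om, space_om, space_om, ← S.cj_mul S.p_mem_H S.p_mem_H,
      ← S.cj_mul hn S.p_mem_H, ← S.cj_mul (mul_mem S.p_mem_H S.p_mem_H) hn, ← pow_two, ← S.p_inv,
      ← mul_inv_eq_iff_eq_mul.1 h1]

theorem lin_or_semi [Finite G] {m : G} (hm : m ∈ S.H) :
    S.space.Lin (S.cj m) ∨ S.space.Semi (S.cj m) :=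
  (em (S.Inner m)).imp (lin_of_inner hm) (semi_of_outer hm)

theorem inner_of_lin [Finite G] {m : G} (hm : m ∈ S.H) (hl : S.space.Lin (S.cj m)) :
    S.Inner m := by
  by_contra h
  have hs := semi_of_outer hm h
  obtain ⟨v, hv⟩ : ∃ v : S.Vec, v ≠ 0 := by
    by_contra hcon
    push Not at hcon
    haveI : Subsingleton S.Vec := ⟨fun a b => (hcon a).trans (hcon b).symm⟩
    have := S.space.dim
    rw [finrank_zero_of_subsingleton] at this
    omega
  have e := (hl v).symm.trans (hs v)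
  have h1 := S.space.om_ne (x := S.space.om (S.cj m v)) ?_
  · exact h1 e.symm
  · simpa using hv

theorem cj_sq [Finite G] {m : G} (hm : m ∈ S.H) (h : m * m ∈ S.E) (v : S.Vec) :
    S.cj m (S.cj m v) = v := by rw [← S.cj_mul hm hm, S.cj_E h]

theorem inv_mul_mem_E_of_cj [Finite G] {m n : G} (hm : m ∈ S.H) (hn : n ∈ S.H)
    (h : S.cj m = S.cj n) : m⁻¹ * n ∈ S.E :=
  mem_E_of_cj (mul_mem (inv_mem hm) hn) fun v => by
    rw [S.cj_mul (inv_mem hm) hn, ← h, S.cj_inv]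

theorem cj_ne_refl [Finite G] {m : G} (hm : m ∈ S.H) (h : m ∉ S.E) :
    S.cj m ≠ LinearEquiv.refl (ZMod 2) S.Vec := fun e =>
  h (mem_E_of_cj hm fun v => by rw [e]; rfl)

end Shape

end CfsgLib.JFourType
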