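import Cfsg.Agent.JFourType.TwinLift

/-!
# Carrying the lifts into `E ∩ E_t`

With `t'` the `p`-conjugate of `t`, the vector of `t'` in `E_t / ⟨t⟩` is a translate of that of
`z`; a power `a` of the element of order three of `t` then conjugates the lifts into `E ∩ E_t`,
compatibly with their normalising elements, and `z` outside `⟨z, t⟩`.
-/

set_option autoImplicit false
set_option linter.style.haveILetI false
set_option linter.unusedVariables false
set_option linter.unusedSectionVars false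
set_option linter.overlappingInstances false

namespace CfsgLib.JFourType

open Cfsg CfsgLib.LargeExtraspecial Module

namespace Shape

variable {G : Type*} [Group G] [Finite G] {S T : Shape G}

/-- Conjugate shapes with the same involution have the same extraspecial subgroup. -/
theorem conj_E_congr (S : Shape G) {a b : G} (e : a * S.z * a⁻¹ = b * S.z * b⁻¹) :
    (S.conj a).E = (S.conj b).E := by
  have hx : b⁻¹ * a ∈ S.H := by
    rw [mem_H]
    calc b⁻¹ * a * S.z = b⁻¹ * (a * S.z * a⁻¹) * a := by group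
      _ = b⁻¹ * (b * S.z * b⁻¹) * a := by rw [e]
      _ = S.z * (b⁻¹ * a) := by group
  ext x
  rw [mem_conj_E, mem_conj_E]
  constructor
  · intro hh
    have := S.conj_mem hx hh
    simpa [mul_assoc] using this
  · intro hh
    have := S.conj_mem' hx hh
    simpa [mul_assoc] using this

theorem Twin.mem_cent_of_D (h : Twin S T) {x : G} (hx : x ∈ S.pre h.frame.D) : x ∈ S.cent T := by
  rw [h.cent_eq_pre]
  refine ⟨hx.1, S.space.orth_anti ?_ hx.2⟩
  exact (Submodule.span_singleton_le_iff_mem _ _).2 h.frame.t_mem_L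

theorem Twin.inner_meet (h : Twin S T) {x : G} (hx : x ∈ S.meet T) : T.Inner x := inner_E hx.2

open Classical in
/-- Zero exactly when the lifts of the translate are inner for `t`. -/
noncomputable def outerBit [Finite G] (S T : Shape G) (v : S.Vec) : ZMod 2 :=
  if ∀ x ∈ S.E, S.pr x = S.space.om v → T.Inner x then 0 else 1

/-- Every element over the orthogonal space of the line is inner for `t`. -/
theorem Twin.inner_of_D (h : Twin S T) (hn : Normed S T) {x : G} (hx : x ∈ S.pre h.frame.D) :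
    T.Inner x := by
  classical
  have hT : ∀ y ∈ S.pre h.frame.D, y ∈ T.H := fun y hy => (h.mem_cent_of_D hy).2
  have hwell : ∀ y ∈ S.pre h.frame.D, ∀ w ∈ S.E, S.pr w = S.pr y → (T.Inner w ↔ T.Inner y) := by
    intro y hy w hw e
    rcases (pr_eq_iff hw hy.1).1 e with rfl | rfl
    · exact Iff.rfl
    · rw [inner_mul_iff (T.E_le_H h.mem') (hT y hy)]
      exact ⟨fun k => k.1 (inner_E h.mem'), fun k => iff_of_true (inner_E h.mem') k⟩
  have hlift : ∀ v ∈ h.frame.M, ∃ y ∈ S.pre h.frame.D, S.pr y = S.space.om v := fun v hv => by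
    obtain ⟨y, hy, e⟩ := pr_surj (S.space.om v)
    exact ⟨y, ⟨hy, e ▸ h.frame.stable_D _ (h.frame.M_le_D hv)⟩, e⟩
  have hbit : ∀ v, ∀ y ∈ S.pre h.frame.D, S.pr y = S.space.om v →
      outerBit S T v = if T.Inner y then 0 else 1 := fun v y hy e => by
    unfold outerBit
    by_cases hi : T.Inner y
    · rw [if_pos hi, if_pos fun w hw ew => (hwell y hy w hw (ew.trans e.symm)).2 hi]
    · rw [if_neg hi, if_neg fun k => hi (k y hy.1 e)]
  have hadd : ∀ a ∈ h.frame.M, ∀ b ∈ h.frame.M,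
      outerBit S T (a + b) = outerBit S T a + outerBit S T b := fun a ha b hb => by
    obtain ⟨y, hy, ey⟩ := hlift a ha
    obtain ⟨w, hw, ew⟩ := hlift b hb
    rw [hbit a y hy ey, hbit b w hw ew,
      hbit (a + b) (y * w) (mul_mem hy hw) (by rw [pr_mul hy.1 hw.1, ey, ew, map_add])]
    simp only [inner_mul_iff (hT y hy) (hT w hw)]
    by_cases h1 : T.Inner y <;> by_cases h2 : T.Inner w <;>
      simp [h1, h2, zmod2_add_self]
  have hL : ∀ a ∈ h.frame.L, outerBit S T a = 0 := fun a ha => by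
    obtain ⟨y, hy, ey⟩ := hlift a (h.frame.L_le_M ha)
    have hyL : y ∈ S.lineSub T.z := ⟨hy.1, ey ▸ S.space.stable_line _ _ ha⟩
    rw [hbit a y hy ey, if_pos (inner_E (h.lineSub_le_meet hyL).2)]
  have hinv : ∀ u ∈ S.cj '' mover h, ∀ a ∈ h.frame.M, outerBit S T (u a) = outerBit S T a := by
    rintro _ ⟨k, hk, rfl⟩ a ha
    obtain ⟨y, hy, ey⟩ := hlift a ha
    obtain ⟨hiso, hlin, hkt, -⟩ := mover_frame h hk
    have hkH := S.C_le_H hk.1
    have e1 : S.pr (k * y * k⁻¹) = S.space.om (S.cj k a) := by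
      rw [← S.cj_pr hkH hy.1, ey]
      exact hlin a
    have hy' : k * y * k⁻¹ ∈ S.pre h.frame.D := by
      refine ⟨S.conj_mem hkH hy.1, ?_⟩
      refine h.frame.mem_D_of ?_ ?_
      · rw [← S.cj_pr hkH hy.1, ← hkt, hiso.B]
        exact S.space.mem_orth'.1 hy.2 _ h.frame.t_mem_L
      · rw [← S.cj_pr hkH hy.1, ← hkt, ← hlin, hiso.B]
        exact S.space.mem_orth'.1 hy.2 _ (S.space.stable_line _ _ h.frame.t_mem_L)
    rw [hbit a y hy ey, hbit _ _ hy' e1]
    simp only [inner_conj_iff (hT y hy) (T.mem_H.2 hk.2.2.1)]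
  have hzero := h.frame.eq_zero_of_invariant (S.cj '' mover h)
    (by rintro _ ⟨k, hk, rfl⟩; exact mover_frame h hk) (mover_trans h) (outerBit S T) hadd hL hinv
  have hxv := hx.2
  rw [h.frame.D_eq] at hxv
  obtain ⟨a, ha, b, hb, e⟩ := Submodule.mem_sup.1 hxv
  obtain ⟨c, hc, rfl⟩ := hb
  obtain ⟨r, hr, hrE, er⟩ : a ∈ S.vecs (S.meet T) := ha
  obtain ⟨y, hy, ey⟩ := hlift c hc
  have hyi : T.Inner y := by
    have h0 := hzero c hc
    rw [hbit c y hy ey] at h0
    by_contra hno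
    rw [if_neg hno] at h0
    exact one_ne_zero h0
  have hry : S.pr (r * y) = S.pr x := by rw [pr_mul hrE hy.1, er, ey]; exact e
  have hryD : r * y ∈ S.pre h.frame.D := ⟨mul_mem hrE hy.1, hry ▸ hx.2⟩
  exact ((hwell _ hryD x hx.1 hry.symm)).2
    (inner_mul (T.E_le_H hr.2) (hT y hy) (inner_E hr.2) hyi)

/-- The inner part for `t` of `E ∩ C(t)` lies over the orthogonal space of the line. -/
theorem Twin.mem_D_of_inner (h : Twin S T) (hn : Normed S T) {x : G} (hx : x ∈ S.cent T)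
    (hi : T.Inner x) : x ∈ S.pre h.frame.D := by
  refine ⟨hx.1, ?_⟩
  by_contra hxD
  obtain ⟨y, hy, hyo⟩ := h.symm.exists_outer
  refine hyo ?_
  set O := S.space.orth (Submodule.span (ZMod 2) {S.pr T.z}) with hO
  have hxO : S.pr x ∈ O := ((h.cent_eq_pre ▸ hx : x ∈ S.pre O)).2
  have hyO : S.pr y ∈ O := ((h.cent_eq_pre ▸ hy : y ∈ S.pre O)).2
  have hDO : h.frame.D ≤ O :=
    S.space.orth_anti ((Submodule.span_singleton_le_iff_mem _ _).2 h.frame.t_mem_L)
  have htop : h.frame.D ⊔ Submodule.span (ZMod 2) {S.pr x} = O := by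
    refine Submodule.eq_of_le_of_finrank_le
      (sup_le hDO ((Submodule.span_singleton_le_iff_mem _ _).2 hxO)) ?_
    have hlt : h.frame.D < h.frame.D ⊔ Submodule.span (ZMod 2) {S.pr x} :=
      lt_of_le_of_ne le_sup_left fun e => hxD (e ▸
        Submodule.mem_sup_right (Submodule.mem_span_singleton_self _))
    have h1 := Submodule.finrank_lt_finrank_of_lt hlt
    rw [h.frame.finrank_D] at h1
    rw [h.finrank_orth_t]
    omega
  rw [← htop] at hyO
  obtain ⟨d, hd, w, hw, e⟩ := Submodule.mem_sup.1 hyO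
  obtain ⟨d', hd', rfl⟩ := pr_surj d
  have hdi : T.Inner d' := h.inner_of_D hn ⟨hd', hd⟩
  have hdT : d' ∈ T.H := (h.mem_cent_of_D ⟨hd', hd⟩).2
  rcases Space.span_singleton_cases hw with rfl | rfl
  · rw [add_zero] at e
    rcases (pr_eq_iff hy.1 hd').1 e.symm with rfl | rfl
    · exact hdi
    · exact inner_mul (T.E_le_H h.mem') hdT (inner_E h.mem') hdi
  · rw [← pr_mul hd' hx.1] at e
    have hdx : T.Inner (d' * x) := inner_mul hdT hx.2 hdi hi
    rcases (pr_eq_iff hy.1 (mul_mem hd' hx.1)).1 e.symm with rfl | rfl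
    · exact hdx
    · exact inner_mul (T.E_le_H h.mem') (mul_mem hdT hx.2) (inner_E h.mem') hdx

/-- The translate of `t`. -/
def shift (S T : Shape G) : G := S.p * T.z * S.p⁻¹

theorem Twin.shift_mem (h : Twin S T) : S.shift T ∈ S.lineSub T.z := by
  have := h.conj_p_mem_lineSub 1 h.t_mem_lineSub
  rwa [pow_one] at this

theorem Twin.pr_shift (h : Twin S T) : S.pr (S.shift T) = S.space.om (S.pr T.z) := by
  rw [shift, space_om, S.cj_pr S.p_mem_H h.mem]

theorem Twin.exists_shift_power (h : Twin S T) (hn : Normed S T) :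
    ∃ a ∈ T.H, (a * S.z * a⁻¹ = S.shift T ∨ a * S.z * a⁻¹ = T.z * S.shift T) ∧
      a * T.z = T.z * a ∧
      (a⁻¹ * S.z * a = S.z * S.shift T ∨ a⁻¹ * S.z * a = T.z * (S.z * S.shift T)) ∧
      (∀ k ∈ T.H, T.Inner k → k * a * k⁻¹ * a⁻¹ ∈ T.E) := by
  have hs := h.lineSub_le_meet h.shift_mem
  have hsv : T.pr (S.shift T) ∈ h.symm.frame.L := by
    refine h.symm.frame.mem_L_of_fixed fun v hv => ?_
    obtain ⟨y, hy, rfl⟩ := mem_linPart.1 hv
    have hyD := h.mem_D_of_inner hn hy.1 hy.2.2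
    have hc : y * S.shift T = S.shift T * y :=
      (space_B_eq_zero hyD.1 hs.1).1 (S.space.mem_orth'.1 hyD.2 _ h.shift_mem.2)
    rw [T.cj_pr hy.2.1 hs.2, mul_inv_eq_iff_eq_mul.2 hc]
  have hne0 : T.pr (S.shift T) ≠ 0 := fun e => by
    have h1 := h.pr_shift
    rcases (pr_eq_zero hs.2).1 e with e | e <;> rw [e] at h1
    · rw [pr_one] at h1
      exact h.pr_t_ne (S.space.om.map_eq_zero_iff.1 h1.symm)
    · exact S.space.om_ne h.pr_t_ne h1.symm
  have hnez : T.pr (S.shift T) ≠ T.pr S.z := fun e => by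
    have h1 := h.pr_shift
    rcases (pr_eq_iff hs.2 h.mem').1 e with e | e <;> rw [e] at h1
    · rw [pr_z] at h1
      exact h.pr_t_ne (S.space.om.map_eq_zero_iff.1 h1.symm)
    · rw [pr_mul h.mem S.sub.z_mem, pr_z, add_zero] at h1
      exact S.space.om_ne h.pr_t_ne h1.symm
  have hcommk : ∀ j : ℕ, ∀ k ∈ T.H, T.Inner k → k * T.p ^ j * k⁻¹ * (T.p ^ j)⁻¹ ∈ T.E :=
    fun j k hk hki => by
    refine mem_E_of_cj (mul_mem (mul_mem (mul_mem hk (T.p_pow_mem j)) (inv_mem hk))
      (inv_mem (T.p_pow_mem j))) fun v => ?_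
    have hl := lin_of_inner hk hki
    have hlj : ∀ (i : ℕ) (w : T.Vec), T.cj k (T.cj (T.p ^ i) w) = T.cj (T.p ^ i) (T.cj k w) := by
      intro i
      induction i with
      | zero => simp
      | succ i ih =>
        intro w
        rw [pow_succ', T.cj_mul T.p_mem_H (T.p_pow_mem i), ← space_om, hl, ih,
          T.cj_mul T.p_mem_H (T.p_pow_mem i), space_om]
    rw [T.cj_mul (mul_mem (mul_mem hk (T.p_pow_mem j)) (inv_mem hk)) (inv_mem (T.p_pow_mem j)),
      T.cj_mul (mul_mem hk (T.p_pow_mem j)) (inv_mem hk), T.cj_mul hk (T.p_pow_mem j), hlj,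
      ← T.cj_mul hk (inv_mem hk), mul_inv_cancel, cj_one,
      ← T.cj_mul (T.p_pow_mem j) (inv_mem (T.p_pow_mem j)), mul_inv_cancel, cj_one]
  have key : ∀ j : ℕ, T.cj (T.p ^ j) (T.pr S.z) = T.pr (S.shift T) →
      T.cj (T.p ^ j)⁻¹ (T.pr S.z) = T.pr S.z + T.pr (S.shift T) →
      ∃ a ∈ T.H, (a * S.z * a⁻¹ = S.shift T ∨ a * S.z * a⁻¹ = T.z * S.shift T) ∧
      a * T.z = T.z * a ∧
      (a⁻¹ * S.z * a = S.z * S.shift T ∨ a⁻¹ * S.z * a = T.z * (S.z * S.shift T)) ∧
      (∀ k ∈ T.H, T.Inner k → k * a * k⁻¹ * a⁻¹ ∈ T.E) := fun j e1 e2 => by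
    refine ⟨T.p ^ j, T.p_pow_mem j, ?_, T.mem_H.1 (T.p_pow_mem j), ?_, hcommk j⟩
    · rw [T.cj_pr (T.p_pow_mem j) h.mem'] at e1
      exact (pr_eq_iff (T.conj_mem (T.p_pow_mem j) h.mem') hs.2).1 e1
    · rw [T.cj_pr (inv_mem (T.p_pow_mem j)) h.mem', inv_inv, ← pr_mul h.mem' hs.2] at e2
      exact (pr_eq_iff (T.conj_mem' (T.p_pow_mem j) h.mem') (mul_mem h.mem' hs.2)).1 e2
  rcases span_pair_eq hsv with e | e | e | e
  · exact absurd e hne0
  · exact absurd e hnez
  · refine key 1 (by rw [pow_one, ← space_om]; exact e.symm) ?_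
    rw [pow_one, T.p_inv, pow_two, T.cj_mul T.p_mem_H T.p_mem_H, ← space_om, ← space_om,
      T.space.om_om, e, add_comm]
    rfl
  · refine key 2 ?_ ?_
    · rw [pow_two, T.cj_mul T.p_mem_H T.p_mem_H, ← space_om, ← space_om, T.space.om_om, e, add_comm]
      rfl
    · rw [← T.p_inv, inv_inv, ← space_om, e]
      show T.space.om (T.pr S.z) = T.pr S.z + (T.pr S.z + T.space.om (T.pr S.z))
      rw [v_add_cancel]

/-- The element carrying the lifts into `E ∩ E_t`. -/
structure Carrier (h : Twin S T) (a : G) : Prop where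
  mem : a ∈ T.H
  maps : ∀ c ∈ lifts h, a⁻¹ * c * a ∈ S.meet T
  equiv : ∀ k ∈ mover h, ∀ c ∈ lifts h,
    S.pr (a⁻¹ * (k * c * k⁻¹) * a) + S.cj k (S.pr (a⁻¹ * c * a)) ∈
      Submodule.span (ZMod 2) ({S.pr T.z} : Set S.Vec)
  z_image : S.pr (a⁻¹ * S.z * a) + S.space.om (S.pr T.z) ∈
      Submodule.span (ZMod 2) ({S.pr T.z} : Set S.Vec)
  lift_inter : ∀ c ∈ lifts h, a⁻¹ * c * a ∈ Subgroup.closure ({S.z, T.z} : Set G) → c = 1

theorem Twin.exists_carrier {g : G} (h : Twin S (S.conj g)) (hn : Normed S (S.conj g)) :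
    ∃ a, Carrier h a := by
  set T := S.conj g with hT
  obtain ⟨a, haT, ha1, hat, ha2, hcom⟩ := h.exists_shift_power hn
  have hsL := h.shift_mem
  have hs := h.lineSub_le_meet hsL
  -- `E_{t'}` contains the lifts
  have hP : ∀ c ∈ lifts h, c ∈ (S.conj (S.p * g)).E := fun c hc => by
    rw [mem_conj_E]
    have h1 := lifts_le_TE h hn hc
    rw [hT, mem_conj_E] at h1
    have e : (S.p * g)⁻¹ * c * (S.p * g) = g⁻¹ * c * g := by
      rw [show (S.p * g)⁻¹ * c * (S.p * g) = g⁻¹ * (S.p⁻¹ * (c * S.p)) * g by group,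
        (S.mem_C.1 hc.1).2]
      group
    rwa [e]
  have hPz : S.shift T = (S.p * g) * S.z * (S.p * g)⁻¹ := by
    show S.p * (g * S.z * g⁻¹) * S.p⁻¹ = _
    group
  have hPt : T.z ∈ (S.conj (S.p * g)).E := by
    rw [mem_conj_E]
    have h2 : S.p ^ 2 * T.z * (S.p ^ 2)⁻¹ ∈ (S.conj g).E :=
      (h.lineSub_le_meet (h.conj_p_mem_lineSub 2 h.t_mem_lineSub)).2
    rw [mem_conj_E] at h2
    have e : (S.p * g)⁻¹ * T.z * (S.p * g) = g⁻¹ * (S.p ^ 2 * T.z * (S.p ^ 2)⁻¹) * g := by
      rw [← S.p_inv]; group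
    rwa [e]
  have hmaps : ∀ c ∈ lifts h, a⁻¹ * c * a ∈ S.meet T := fun c hc => by
    refine ⟨?_, T.conj_mem' haT (lifts_le_TE h hn hc)⟩
    rcases ha1 with e | e
    · have hE := S.conj_E_congr (e.trans hPz)
      exact (S.mem_conj_E _).1 (hE ▸ hP c hc)
    · obtain ⟨q, hq, hqs⟩ := T.sub.exists_not_commute (s := S.shift T) (fun e1 => by
        have h1 := h.pr_shift
        rw [e1, pr_one] at h1
        exact h.pr_t_ne (S.space.om.map_eq_zero_iff.1 h1.symm)) (fun e1 => by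
        have h1 := h.pr_shift
        rw [e1] at h1
        exact S.space.om_ne h.pr_t_ne h1.symm)
      have hq' := T.sub.conj_of_not_commute hq hs.2 hqs
      have hE := S.conj_E_congr (a := a) (b := q * (S.p * g)) (by
        rw [e, ← hq', hPz]; group)
      refine (S.mem_conj_E _).1 (hE ▸ ?_)
      rw [mem_conj_E]
      have hqc : q⁻¹ * c * q ∈ (S.conj (S.p * g)).E := by
        rcases T.sub.conj_eq (inv_mem hq) (lifts_le_TE h hn hc) with e1 | e1 <;>
          rw [inv_inv] at e1 <;> rw [e1]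
        · exact hP c hc
        · exact mul_mem hPt (hP c hc)
      rw [mem_conj_E] at hqc
      simpa [mul_assoc] using hqc
  have hzlift : ∀ c ∈ lifts h, a * (a⁻¹ * c * a) * a⁻¹ = c := fun c hc => by group
  have hzi : S.pr (a⁻¹ * S.z * a) + S.space.om (S.pr T.z) ∈
      Submodule.span (ZMod 2) ({S.pr T.z} : Set S.Vec) := by
    have hzs : S.z * S.shift T ∈ S.E := mul_mem S.sub.z_mem hs.1
    rcases ha2 with e | e <;> rw [e]
    · rw [pr_mul S.sub.z_mem hs.1, pr_z, zero_add, h.pr_shift, v_add_self]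
      exact zero_mem _
    · rw [pr_mul h.mem hzs, pr_mul S.sub.z_mem hs.1, pr_z, zero_add, h.pr_shift, add_assoc,
        v_add_self, add_zero]
      exact Submodule.mem_span_singleton_self _
  refine ⟨a, haT, hmaps, fun k hk c hc => ?_, hzi, ?_⟩
  · have hkH := S.C_le_H hk.1
    have hkT : k ∈ T.H := T.mem_H.2 hk.2.2.1
    have hε := hcom k⁻¹ (inv_mem hkT) (inner_inv hkT (inner_of_odd hkT hk.2.1))
    rw [inv_inv] at hε
    set r := a⁻¹ * c * a with hr
    have hrm := hmaps c hc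
    set δ := k⁻¹ * a⁻¹ * k * a with hδdef
    have hδ : δ ∈ T.E := by
      have : δ = a⁻¹ * (k⁻¹ * a * k * a⁻¹)⁻¹ * a := by rw [hδdef]; group
      rw [this]
      exact T.conj_mem' haT (inv_mem hε)
    have e : a⁻¹ * (k * c * k⁻¹) * a = k * (δ * r * δ⁻¹) * k⁻¹ := by rw [hδdef, hr]; group
    rw [e]
    rcases T.sub.conj_eq hδ hrm.2 with e1 | e1 <;> rw [e1]
    · rw [← S.cj_pr hkH hrm.1, v_add_self]
      exact zero_mem _
    · rw [← S.cj_pr hkH (mul_mem h.mem hrm.1), pr_mul h.mem hrm.1, map_add, add_assoc, v_add_self,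
        add_zero, S.cj_pr hkH h.mem, mul_inv_eq_iff_eq_mul.2 hk.2.2.1]
      exact Submodule.mem_span_singleton_self _
  · intro c hc hcl
    let K : Subgroup G := (Subgroup.closure ({S.z, T.z} : Set G)).map (MulAut.conj a).toMonoidHom
    have hcK : c ∈ K := ⟨_, hcl, by simp [mul_assoc]⟩
    have hle : K ≤ S.lineSub T.z := by
      rw [show K = Subgroup.closure ((MulAut.conj a).toMonoidHom '' {S.z, T.z}) from
        MonoidHom.map_closure _ _, Subgroup.closure_le]
      rintro _ ⟨x, rfl | rfl, rfl⟩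
      · show a * S.z * a⁻¹ ∈ _
        rcases ha1 with e | e <;> rw [e]
        · exact hsL
        · exact mul_mem h.t_mem_lineSub hsL
      · show a * T.z * a⁻¹ ∈ _
        rw [hat, mul_inv_cancel_right]
        exact h.t_mem_lineSub
    rcases E_inf_C (hle hcK).1 hc.1 with e | e
    · exact e
    · exfalso
      subst e
      have hle2 : Subgroup.closure ({S.z, T.z} : Set G) ≤
          S.pre (Submodule.span (ZMod 2) {S.pr T.z}) := by
        rw [Subgroup.closure_le]
        rintro x (rfl | rfl)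
        · exact z_mem_pre _
        · exact ⟨h.mem, Submodule.mem_span_singleton_self _⟩
      have h3 := add_mem (hle2 hcl).2 hzi
      rw [← add_assoc, v_add_self, zero_add] at h3
      rcases Space.span_singleton_cases h3 with e | e
      · exact h.pr_t_ne (S.space.om.map_eq_zero_iff.1 e)
      · exact S.space.om_ne h.pr_t_ne e

namespace Carrier

variable {h : Twin S T} {a : G}

/-- The vector of the image of a lift. -/
theorem vec_mem (K : Carrier h a) {c : G} (hc : c ∈ lifts h) :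
    S.pr (a⁻¹ * c * a) ∈ h.frame.M :=
  mem_vecs_of_mem (K.maps c hc) (K.maps c hc).1

theorem vec_mul (K : Carrier h a) {c d : G} (hc : c ∈ lifts h) (hd : d ∈ lifts h) :
    S.pr (a⁻¹ * (c * d) * a) = S.pr (a⁻¹ * c * a) + S.pr (a⁻¹ * d * a) := by
  rw [← pr_mul (K.maps c hc).1 (K.maps d hd).1]
  congr 1
  group

theorem vec_inv (K : Carrier h a) {c : G} (hc : c ∈ lifts h) :
    S.pr (a⁻¹ * c⁻¹ * a) = S.pr (a⁻¹ * c * a) := by
  rw [← pr_inv (K.maps c hc).1]
  congr 1
  group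

theorem eq_one_of_vec (K : Carrier h a) {c : G} (hc : c ∈ lifts h)
    (hv : S.pr (a⁻¹ * c * a) ∈ Submodule.span (ZMod 2) ({S.pr T.z} : Set S.Vec)) : c = 1 := by
  refine K.lift_inter c hc ?_
  have hz : S.z ∈ Subgroup.closure ({S.z, T.z} : Set G) := Subgroup.subset_closure (by simp)
  have ht : T.z ∈ Subgroup.closure ({S.z, T.z} : Set G) := Subgroup.subset_closure (by simp)
  rcases Space.span_singleton_cases hv with e | e
  · rcases (pr_eq_zero (K.maps c hc).1).1 e with e | e <;> rw [e]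
    · exact one_mem _
    · exact hz
  · rcases (pr_eq_iff (K.maps c hc).1 h.mem).1 e with e | e <;> rw [e]
    · exact ht
    · exact mul_mem hz ht

theorem surj (K : Carrier h a) {v : S.Vec} (hv : v ∈ h.frame.M) :
    ∃ c ∈ lifts h, S.pr (a⁻¹ * c * a) + v ∈ Submodule.span (ZMod 2) ({S.pr T.z} : Set S.Vec) := by
  let L1 : Submodule (ZMod 2) h.frame.M :=
    (Submodule.span (ZMod 2) ({S.pr T.z} : Set S.Vec)).comap h.frame.M.subtype
  let φ : ↥(lifts h) → h.frame.M ⧸ L1 := fun c => Submodule.Quotient.mk ⟨_, K.vec_mem c.2⟩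
  have hinj : Function.Injective φ := fun c d e => by
    have h1 : S.pr (a⁻¹ * (c : G) * a) - S.pr (a⁻¹ * (d : G) * a) ∈
        Submodule.span (ZMod 2) ({S.pr T.z} : Set S.Vec) := (Submodule.Quotient.eq L1).1 e
    rw [sub_eq_add_neg, v_neg, ← K.vec_inv d.2, ← K.vec_mul c.2 (inv_mem d.2)] at h1
    exact Subtype.ext (mul_inv_eq_one.1 (K.eq_one_of_vec (mul_mem c.2 (inv_mem d.2)) h1))
  haveI : Finite (h.frame.M ⧸ L1) := Finite.of_surjective _ (Submodule.Quotient.mk_surjective L1)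
  have hcard : Nat.card (h.frame.M ⧸ L1) = 32 := by
    have h1 := L1.finrank_quotient_add_finrank
    have h2 : finrank (ZMod 2) L1 = 1 :=
      ((Submodule.comapSubtypeEquivOfLe ((Submodule.span_singleton_le_iff_mem _ _).2
        h.frame.tM)).finrank_eq).trans (finrank_span_singleton h.pr_t_ne)
    rw [h.frame.M6, h2] at h1
    rw [Module.natCard_eq_pow_finrank (K := ZMod 2), Nat.card_zmod,
      show finrank (ZMod 2) (h.frame.M ⧸ L1) = 5 by omega]
    norm_num
  obtain ⟨c, hc⟩ := ((Nat.bijective_iff_injective_and_card φ).2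
    ⟨hinj, (card_lifts h).trans hcard.symm⟩).2 (Submodule.Quotient.mk ⟨v, hv⟩)
  refine ⟨c, c.2, ?_⟩
  have h1 : S.pr (a⁻¹ * (c : G) * a) - v ∈ Submodule.span (ZMod 2) ({S.pr T.z} : Set S.Vec) :=
    (Submodule.Quotient.eq L1).1 hc
  rwa [sub_eq_add_neg, v_neg] at h1

/-- There is no invariant complement to `⟨z⟩` among the lifts. -/
theorem no_complement (K : Carrier h a) (Y : Subgroup G) (hY : Y ≤ lifts h) (hz : S.z ∉ Y)
    (hcov : ∀ c ∈ lifts h, c ∈ Y ∨ c * S.z ∈ Y)
    (hinv : ∀ k ∈ mover h, ∀ c ∈ Y, k * c * k⁻¹ ∈ Y) : False := by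
  set sp := Submodule.span (ZMod 2) ({S.pr T.z} : Set S.Vec) with hsp
  let S0 : Submodule (ZMod 2) S.Vec :=
    { carrier := {v | ∃ c ∈ Y, S.pr (a⁻¹ * c * a) + v ∈ sp}
      zero_mem' := ⟨1, one_mem _, by simp⟩
      add_mem' := by
        rintro u v ⟨c, hc, hu⟩ ⟨d, hd, hv⟩
        refine ⟨c * d, mul_mem hc hd, ?_⟩
        rw [K.vec_mul (hY hc) (hY hd), add_add_add_comm]
        exact add_mem hu hv
      smul_mem' := by
        rintro r v ⟨c, hc, hv⟩
        rcases zmod2_cases r with rfl | rfl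
        · exact ⟨1, one_mem _, by simp⟩
        · exact ⟨c, hc, by rwa [one_smul]⟩ }
  have hsub : sp ≤ h.frame.M := (Submodule.span_singleton_le_iff_mem _ _).2 h.frame.tM
  have hzl := z_mem_lifts h
  refine h.frame.no_hyperplane (S.cj '' mover h) (by rintro _ ⟨k, hk, rfl⟩; exact mover_frame h hk)
    (mover_trans h) S0 ?_ ⟨1, one_mem _, by
      rw [mul_one, inv_mul_cancel, pr_one, zero_add, Twin.frame_t]
      exact Submodule.mem_span_singleton_self _⟩ ?_ ?_ ?_
  · rintro v ⟨c, hc, hv⟩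
    have e : v = S.pr (a⁻¹ * c * a) + (S.pr (a⁻¹ * c * a) + v) := (v_add_cancel _ _).symm
    rw [e]
    exact add_mem (K.vec_mem (hY hc)) (hsub hv)
  · rintro ⟨c, hc, hv⟩
    have h2 := add_mem hv K.z_image
    rw [show S.pr (a⁻¹ * c * a) + S.space.om h.frame.t +
        (S.pr (a⁻¹ * S.z * a) + S.space.om (S.pr T.z)) =
      S.pr (a⁻¹ * c * a) + S.pr (a⁻¹ * S.z * a) +
        (S.space.om (S.pr T.z) + S.space.om (S.pr T.z)) by
      rw [Twin.frame_t]; abel, v_add_self, add_zero, ← K.vec_mul (hY hc) hzl] at h2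
    have h3 := K.eq_one_of_vec (mul_mem (hY hc) hzl) h2
    rw [mul_eq_one_iff_eq_inv, S.z_inv] at h3
    exact hz (h3 ▸ hc)
  · intro v hv
    obtain ⟨c, hc, hcv⟩ := K.surj hv
    rcases hcov c hc with hcY | hcY
    · exact Or.inl ⟨c, hcY, hcv⟩
    · refine Or.inr ⟨_, hcY, ?_⟩
      rw [K.vec_mul hc hzl, add_add_add_comm]
      exact add_mem hcv K.z_image
  · rintro _ ⟨k, hk, rfl⟩ v ⟨c, hc, hv⟩
    refine ⟨k * c * k⁻¹, hinv k hk c hc, ?_⟩
    have h2 : S.cj k (S.pr (a⁻¹ * c * a) + v) ∈ sp := by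
      rcases Space.span_singleton_cases hv with e | e <;> rw [e]
      · rw [map_zero]; exact zero_mem _
      · rw [show S.cj k (S.pr T.z) = S.pr T.z from (mover_frame h hk).2.2.1]
        exact Submodule.mem_span_singleton_self _
    have h3 := add_mem (K.equiv k hk c (hY hc)) h2
    rwa [map_add, add_assoc, v_add_cancel] at h3

end Carrier

end Shape

end CfsgLib.JFourType
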