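import Cfsg.Agent.JFourType.M22Facts

/-!
# The normalizer of a Sylow 3-subgroup of `M22` has order 72
-/

set_option autoImplicit false
set_option maxRecDepth 10000
set_option linter.style.haveILetI false

namespace CfsgLib.JFourType

open Cfsg CfsgLib.Mathieu CfsgLib.Schur.Pc CfsgLib.SporadicOut CfsgLib.TwoBlockMathieu

/-- In the list of the centralizer of the representative, only the Sylow subgroup normalises it. -/
def normOK : Bool :=
  let T := M22Data.three.map EltCert.t
  T.contains M22Data.rep0.a && T.all (fun t => M22Data.rep0.L.contains t) &&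
    M22Data.rep0.L.all fun g => !(T.all fun t => T.any fun s => prodEq g t s g) || T.contains g

theorem normOK_holds : normOK = true := by decide +kernel

theorem factorization_M22g : (Nat.card M22g).factorization 3 = 2 := by
  haveI : Fact (Nat.Prime 3) := ⟨Nat.prime_three⟩
  rw [show Nat.card M22g = 443520 from Mathieu.card_SporM22,
    show (443520 : ℕ) = 3 ^ 2 * 49280 by norm_num,
    Nat.factorization_mul (by norm_num) (by norm_num), Finsupp.add_apply,
    Nat.Prime.factorization_pow Nat.prime_three, Finsupp.single_eq_same,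
    Nat.factorization_eq_zero_of_not_dvd (by norm_num)]

/-- The Sylow subgroup of the data, as a Sylow subgroup. -/
noncomputable def threeSylowS : Sylow 3 M22g :=
  haveI : Fact (Nat.Prime 3) := ⟨Nat.prime_three⟩
  Sylow.ofCard threeSylow (by rw [card_threeSylow, factorization_M22g]; norm_num)

theorem coe_threeSylowS : (threeSylowS : Subgroup M22g) = threeSylow := rfl

open TwoBlockMathieu.M22Data in
theorem card_normalizer_threeSylow :
    Nat.card (Subgroup.normalizer (threeSylow : Set M22g)) = 72 := by
  classical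
  haveI : Fact (Nat.Prime 3) := ⟨Nat.prime_three⟩
  haveI : IsMulCommutative threeSylow :=
    ⟨⟨fun a b => Subtype.ext ((threeSylow_elementary a.2).2 b b.2)⟩⟩
  haveI : IsMulCommutative (threeSylowS : Subgroup M22g) := by
    rw [coe_threeSylowS]; infer_instance
  have hk := normOK_holds
  simp only [normOK, Bool.and_eq_true, List.all_eq_true, Bool.or_eq_true, Bool.not_eq_true',
    List.contains_iff_mem] at hk
  obtain ⟨⟨hrep, hTL⟩, hnorm⟩ := hk
  let i0 : Fin cert.cls.length := ⟨0, by decide +kernel⟩
  set a := elt valid i0 with ha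
  have hcls : cert.cls[i0] = rep0 := rfl
  have ra : Rep enc a.1 rep0.a := by
    have := rep_elt valid i0
    rwa [hcls] at this
  have haQ : a ∈ threeSylow := ⟨_, hrep, ra⟩
  have ha3 : orderOf a = 3 := by
    rw [ha, orderOf_elt valid i0, hcls]
    rfl
  have ha1 : a ≠ 1 := fun e => by simp [e] at ha3
  set N := Subgroup.normalizer (threeSylow : Set M22g) with hN
  have hfix : ∀ n ∈ N, n * a = a * n → n ∈ threeSylow := by
    intro n hn hc
    obtain ⟨t, ht, r⟩ := centralizer_tables valid i0 (g := n)
      (Subgroup.mem_centralizer_singleton_iff.2 hc)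
    rw [hcls] at ht
    refine ⟨t, (hnorm t ht).resolve_left fun hf => ?_, r⟩
    have hall : ((M22Data.three.map EltCert.t).all fun u =>
        (M22Data.three.map EltCert.t).any fun s => prodEq t u s t) = true := by
      simp only [List.all_eq_true, List.any_eq_true]
      intro u hu
      have hin : ∀ w ∈ M22Data.three.map EltCert.t, inM22 w = true :=
        List.all_eq_true.1 (by decide +kernel)
      obtain ⟨x, rx⟩ := exists_elt (hin u hu)
      obtain ⟨s, hs, rs⟩ := (Subgroup.mem_normalizer_iff.1 hn x).1 ⟨u, hu, rx⟩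
      exact ⟨s, hs, (mul_eq_mul_iff r rx rs r).2 (by group)⟩
    rw [hall] at hf
    exact Bool.noConfusion hf
  have htrans : ∀ b : {b : threeSylow // b ≠ 1}, ∃ n ∈ N, n * a * n⁻¹ = b.1.1 := by
    intro b
    have hb3 : orderOf (b.1 : M22g) = 3 :=
      orderOf_eq_prime (threeSylow_elementary b.1.2).1 fun e => b.2 (Subtype.ext e)
    obtain ⟨c, hc⟩ := isConj_iff.1 (isConj_three ha3 hb3)
    obtain ⟨n, hn, e⟩ := threeSylowS.conj_eq_normalizer_conj_of_mem a c⁻¹ haQ (by
      rw [inv_inv, hc]; exact b.1.2)
    rw [inv_inv, hc] at e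
    exact ⟨n⁻¹, inv_mem hn, by rw [inv_inv]; exact e.symm⟩
  choose s hs hsa using htrans
  have hQN : threeSylow ≤ N := Subgroup.le_normalizer
  have hmem : ∀ n : N, (n : M22g) * a * (n : M22g)⁻¹ ∈ threeSylow := fun n =>
    (Subgroup.mem_normalizer_iff.1 n.2 a).1 haQ
  let e : N ≃ {b : threeSylow // b ≠ 1} × threeSylow :=
    { toFun := fun n =>
        let b : {b : threeSylow // b ≠ 1} := ⟨⟨_, hmem n⟩, fun e =>
          ha1 (conj_eq_one_iff.1 (congrArg Subtype.val e))⟩
        (b, ⟨(s b)⁻¹ * n, hfix _ (mul_mem (inv_mem (hs b)) n.2) (by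
          have := hsa b
          calc (s b)⁻¹ * (n : M22g) * a = (s b)⁻¹ * ((n : M22g) * a * (n : M22g)⁻¹) * n := by group
            _ = (s b)⁻¹ * (s b * a * (s b)⁻¹) * n := by rw [this]
            _ = a * ((s b)⁻¹ * n) := by group)⟩)
      invFun := fun bq => ⟨s bq.1 * bq.2.1, mul_mem (hs bq.1) (hQN bq.2.2)⟩
      left_inv := fun n => Subtype.ext (mul_inv_cancel_left _ _)
      right_inv := fun ⟨b, q⟩ => by
        have hb : s b * (q : M22g) * a * (s b * (q : M22g))⁻¹ = b.1.1 := by
          rw [mul_assoc (s b), (threeSylow_elementary q.2).2 a haQ, ← hsa b]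
          group
        refine Prod.ext (Subtype.ext (Subtype.ext hb)) (Subtype.ext ?_)
        simp only [hb]
        exact inv_mul_cancel_left _ _ }
  rw [Nat.card_congr e, Nat.card_prod, card_threeSylow]
  have h8 : Nat.card {b : threeSylow // b ≠ 1} = 8 := by
    have := Fintype.ofFinite threeSylow
    rw [Nat.card_eq_fintype_card, Fintype.card_subtype_compl, Fintype.card_subtype_eq,
      ← Nat.card_eq_fintype_card, card_threeSylow]
  rw [h8]

end CfsgLib.JFourType
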