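import Cfsg.Agent.JFourType.M22Data
import Cfsg.Agent.TwoBlockMathieu.M22Valid
import Cfsg.Agent.Mathieu.SmallSimple
import Cfsg.Agent.M24Classes.PairM22
import Cfsg.Agent.SporadicOut.M22Data
import Cfsg.Agent.S2062

/-!
# The involutions and the elementary abelian subgroups of order sixteen of `M22`

One class of involutions; every elementary abelian subgroup of order sixteen is conjugate to one
of two listed ones; the one centralised by an outer automorphism has a transitive group of
automorphisms of odd order on its involutions and meets another of its conjugates.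
-/

set_option autoImplicit false
set_option maxRecDepth 10000

namespace CfsgLib.JFourType

open Cfsg CfsgLib.Mathieu CfsgLib.Schur.Pc CfsgLib.SporadicOut CfsgLib.TwoBlockMathieu
open CfsgLib.JFourType

/-- The point stabiliser under study. -/
abbrev M22g := Spor.M22

/-! ### Tables -/

theorem exists_elt {t : ℕ} (h : inM22 t = true) : ∃ g : M22g, Rep enc g.1 t := by
  obtain ⟨σ, hσ, r⟩ := inGroup_of_inM22 h
  exact ⟨⟨σ, hσ⟩, r⟩

/-- `c` is the table of the product of the members with tables `a`, `b`. -/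
def isProd (a b c : ℕ) : Bool := allBelow 24 fun i => app c i == app a (app b i)

theorem rep_of_isProd {g h : M22g} {a b c : ℕ} (hg : Rep enc g.1 a) (hh : Rep enc h.1 b)
    (e : isProd a b c = true) : Rep enc (g * h).1 c := fun x => by
  simp only [isProd, allBelow_iff, beq_iff_eq] at e
  rw [e _ (enc x).isLt, hh x, hg]
  rfl

theorem eq_of_rep {g h : M22g} {a : ℕ} (hg : Rep enc g.1 a) (hh : Rep enc h.1 a) : g = h :=
  Subtype.ext (Rep.unique hg hh)

theorem mul_eq_mul_iff {g h g' h' : M22g} {a b a' b' : ℕ} (hg : Rep enc g.1 a) (hh : Rep enc h.1 b)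
    (hg' : Rep enc g'.1 a') (hh' : Rep enc h'.1 b') : prodEq a b a' b' = true ↔ g * h = g' * h' := by
  refine ⟨fun e => Subtype.ext (mul_eq_of_prodEq hg hh hg' hh' e), fun e => ?_⟩
  simp only [prodEq, allBelow_iff, beq_iff_eq]
  intro i hi
  have key : ∀ (u v : M22g) (s w : ℕ), Rep enc u.1 s → Rep enc v.1 w →
      app s (app w i) = idx ((u * v : M22g).1 (pt i)) := fun u v s w hu hv => by
    have e1 := hv (pt i)
    rw [show (enc (pt i)).val = i from idx_pt hi] at e1
    rw [e1, hu]
    rfl
  rw [key g h a b hg hh, key g' h' a' b' hg' hh', e]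

theorem pow_eq_one_iff_powId {g : M22g} {a : ℕ} (hg : Rep enc g.1 a) (n : ℕ) :
    powId a n = true ↔ g ^ n = 1 := by
  rw [powId_iff hg n, ← SubmonoidClass.coe_pow, OneMemClass.coe_eq_one]

theorem eq_one_iff_powId {g : M22g} {a : ℕ} (hg : Rep enc g.1 a) : powId a 1 = true ↔ g = 1 := by
  rw [pow_eq_one_iff_powId hg, pow_one]

/-- The members with tables in `L`. -/
def inList (L : List ℕ) : Set M22g := {g | ∃ t ∈ L, Rep enc g.1 t}

/-- The list is closed under products. -/
def closedOK (L : List ℕ) : Bool :=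
  L.any (fun t => powId t 1) && L.all inM22 && L.all fun a => L.all fun b => L.any (isProd a b)

/-- A checked list as a subgroup. -/
def listGroup (L : List ℕ) (hL : closedOK L = true) : Subgroup M22g where
  carrier := inList L
  mul_mem' := by
    rintro g h ⟨a, ha, ra⟩ ⟨b, hb, rb⟩
    simp only [closedOK, Bool.and_eq_true, List.all_eq_true, List.any_eq_true] at hL
    obtain ⟨c, hc, e⟩ := hL.2 a ha b hb
    exact ⟨c, hc, rep_of_isProd ra rb e⟩
  one_mem' := by
    simp only [closedOK, Bool.and_eq_true, List.all_eq_true, List.any_eq_true] at hL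
    obtain ⟨⟨⟨t, ht, e⟩, hin⟩, -⟩ := hL
    obtain ⟨g, r⟩ := exists_elt (hin t ht)
    rw [(eq_one_iff_powId r).1 e] at r
    exact ⟨t, ht, r⟩
  inv_mem' {g} hg := by
    have hL' := hL
    simp only [closedOK, Bool.and_eq_true, List.all_eq_true, List.any_eq_true] at hL
    obtain ⟨⟨⟨t, ht, e⟩, hin⟩, hc⟩ := hL
    have hpow : ∀ n : ℕ, g ^ n ∈ inList L := fun n => by
      induction n with
      | zero =>
        obtain ⟨h, r⟩ := exists_elt (hin t ht)
        rw [(eq_one_iff_powId r).1 e] at r
        exact ⟨t, ht, by simpa using r⟩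
      | succ n ih =>
        obtain ⟨a, ha, ra⟩ := ih
        obtain ⟨b, hb, rb⟩ := hg
        obtain ⟨c, hc', e'⟩ := hc a ha b hb
        exact ⟨c, hc', by rw [pow_succ]; exact rep_of_isProd ra rb e'⟩
    have h : g⁻¹ = g ^ (orderOf g - 1) := by
      refine inv_eq_of_mul_eq_one_right ?_
      rw [← pow_succ', Nat.sub_add_cancel (orderOf_pos g), pow_orderOf_eq_one]
    rw [h]
    exact hpow _

theorem card_inList {L : List ℕ} (hin : L.all inM22 = true) (hnorm : L.all (fun t => normT t == t) = true)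
    (hnd : L.Nodup) : Nat.card (inList L) = L.length := by
  classical
  simp only [List.all_eq_true, beq_iff_eq] at hin hnorm
  rw [← List.toFinset_card_of_nodup hnd, ← Nat.card_eq_finsetCard]
  choose f hf hr using fun g : inList L => g.2
  refine Nat.card_eq_of_bijective (fun g => ⟨f g, List.mem_toFinset.2 (hf g)⟩) ⟨fun g g' e => ?_, ?_⟩
  · have e' : f g = f g' := congrArg Subtype.val e
    exact Subtype.ext (eq_of_rep (hr g) (e' ▸ hr g'))
  · rintro ⟨t, ht⟩
    rw [List.mem_toFinset] at ht
    obtain ⟨g, r⟩ := exists_elt (hin t ht)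
    exact ⟨⟨g, t, ht, r⟩, Subtype.ext (table_unique (hr ⟨g, t, ht, r⟩) r (hnorm _ (hf _)) (hnorm t ht))⟩

/-! ### The Sylow 2-subgroup -/

/-- The checks on the Sylow 2-subgroup. -/
def sylOK : Bool :=
  Data.syl.all inM22 && Data.sylGens.all inM22 && Data.syl.all (fun t => normT t == t) &&
  powId (Data.syl.getD 0 0) 1 &&
  (List.range 127).all (fun k => Nat.blt (Data.sylEdges.getD k (0, 0)).2 (k + 1) &&
    Nat.blt (Data.sylEdges.getD k (0, 0)).1 3 &&
    isProd (Data.sylGens.getD (Data.sylEdges.getD k (0, 0)).1 0)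
      (Data.syl.getD (Data.sylEdges.getD k (0, 0)).2 0) (Data.syl.getD (k + 1) 0)) &&
  (List.range 3).all fun j => (List.range 128).all fun i =>
    Nat.blt ((Data.sylLeft.getD j []).getD i 0) 128 &&
    isProd (Data.sylGens.getD j 0) (Data.syl.getD i 0)
      (Data.syl.getD ((Data.sylLeft.getD j []).getD i 0) 0)

theorem sylOK_holds : sylOK = true := by decide +kernel

theorem syl_length : Data.syl.length = 128 := by decide +kernel

theorem sylGens_length : Data.sylGens.length = 3 := by decide +kernel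

theorem syl_nodup : Data.syl.Nodup := by decide +kernel

theorem mem_of_getD {L : List ℕ} {i : ℕ} (hi : i < L.length) : L.getD i 0 ∈ L := by
  rw [List.getD_eq_getElem _ _ hi]
  exact List.getElem_mem _

theorem getD_of_mem {L : List ℕ} {t : ℕ} (ht : t ∈ L) : ∃ i < L.length, L.getD i 0 = t := by
  obtain ⟨i, hi, rfl⟩ := List.getElem_of_mem ht
  exact ⟨i, hi, List.getD_eq_getElem _ _ hi⟩

/-- A Sylow 2-subgroup, as the closure of its generators. -/
def sylGroup : Subgroup M22g := Subgroup.closure (inList Data.sylGens)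

theorem coe_sylGroup : (sylGroup : Set M22g) = inList Data.syl := by
  have h := sylOK_holds
  simp only [sylOK, Bool.and_eq_true, List.all_eq_true, List.mem_range, Nat.blt_eq] at h
  obtain ⟨⟨⟨⟨⟨hin, hgin⟩, -⟩, hone⟩, hedge⟩, hleft⟩ := h
  have hzero : ∀ g : M22g, Rep enc g.1 (Data.syl.getD 0 0) → g = 1 := fun g r =>
    (eq_one_iff_powId r).1 hone
  refine Set.Subset.antisymm ?_ ?_
  · intro g hg
    have hg' : g ∈ Submonoid.closure (inList Data.sylGens) := by
      rw [← Subgroup.closure_toSubmonoid_of_finite]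
      exact hg
    clear hg
    induction hg' using Submonoid.closure_induction_left with
    | one =>
      obtain ⟨g, r⟩ := exists_elt (hin _ (mem_of_getD (i := 0) (by rw [syl_length]; norm_num)))
      exact ⟨_, mem_of_getD (by rw [syl_length]; norm_num), hzero g r ▸ r⟩
    | mul_left x hx y _ hy =>
      obtain ⟨a, ha, ra⟩ := hx
      obtain ⟨b, hb, rb⟩ := hy
      obtain ⟨j, hj, rfl⟩ := getD_of_mem ha
      obtain ⟨i, hi, rfl⟩ := getD_of_mem hb
      obtain ⟨hlt, e⟩ := hleft j (sylGens_length ▸ hj) i (syl_length ▸ hi)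
      exact ⟨_, mem_of_getD (syl_length ▸ hlt), rep_of_isProd ra rb e⟩
  · rintro g ⟨t, ht, r⟩
    obtain ⟨i, hi, rfl⟩ := getD_of_mem ht
    rw [syl_length] at hi
    clear ht
    induction i using Nat.strong_induction_on generalizing g with
    | _ i ih =>
      cases i with
      | zero => rw [hzero g r]; exact one_mem _
      | succ k =>
        obtain ⟨⟨hlt, hg3⟩, e⟩ := hedge k (by omega)
        obtain ⟨x, rx⟩ := exists_elt (hgin _ (mem_of_getD (sylGens_length ▸ hg3)))
        obtain ⟨y, ry⟩ := exists_elt (hin _ (mem_of_getD (i := (Data.sylEdges.getD k (0, 0)).2)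
          (by rw [syl_length]; omega)))
        have := rep_of_isProd rx ry e
        rw [eq_of_rep r this]
        exact mul_mem (Subgroup.subset_closure ⟨_, mem_of_getD (sylGens_length ▸ hg3), rx⟩)
          (ih _ hlt (by omega) ry)

theorem card_sylGroup : Nat.card sylGroup = 128 := by
  have h := sylOK_holds
  simp only [sylOK, Bool.and_eq_true] at h
  have e : Nat.card sylGroup = Nat.card (inList Data.syl) := by rw [← coe_sylGroup]; rfl
  rw [e, card_inList h.1.1.1.1.1 h.1.1.1.2 syl_nodup, syl_length]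

theorem exists_conj_mem_sylGroup {A : Subgroup M22g} (hA : IsPGroup 2 A) :
    ∃ c : M22g, ∀ a ∈ A, c * a * c⁻¹ ∈ sylGroup := by
  have : Fact (Nat.Prime 2) := ⟨Nat.prime_two⟩
  obtain ⟨S, hS⟩ := hA.exists_le_sylow
  have hf : Nat.card sylGroup = 2 ^ (Nat.card M22g).factorization 2 := by
    rw [card_sylGroup, card_SporM22, show (443520 : ℕ) = 2 ^ 7 * 3465 by norm_num,
      Nat.factorization_mul (by norm_num) (by norm_num), Finsupp.coe_add, Pi.add_apply,
      Nat.Prime.factorization_pow Nat.prime_two, Finsupp.single_eq_same,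
      Nat.factorization_eq_zero_of_not_dvd (by norm_num)]; norm_num
  obtain ⟨c, hc⟩ := MulAction.exists_smul_eq M22g S (Sylow.ofCard _ hf)
  refine ⟨c, fun a ha => ?_⟩
  have he := congrArg (fun S : Sylow 2 M22g => (S : Subgroup M22g)) hc
  simp only [Sylow.coe_ofCard, Sylow.coe_subgroup_smul] at he
  rw [← he]
  exact ⟨a, hS ha, rfl⟩

/-! ### Involutions -/

/-- The checks on the involutions. -/
def invOK : Bool :=
  Data.syl.all (fun t => powId t 1 || !powId t 2 || Data.invs.contains t) &&
  Data.invs.all inM22 && inM22 Data.invOne &&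
  (List.range Data.invs.length).all (fun i => inM22 (Data.conjs.getD i 0) &&
    prodEq (Data.conjs.getD i 0) Data.invOne (Data.invs.getD i 0) (Data.conjs.getD i 0))

theorem invOK_holds : invOK = true := by decide +kernel

theorem mem_invs {g : M22g} (hg : g ∈ sylGroup) (h2 : g * g = 1) (h1 : g ≠ 1) :
    ∃ t ∈ Data.invs, Rep enc g.1 t := by
  have hmem : g ∈ (sylGroup : Set M22g) := hg
  rw [coe_sylGroup] at hmem
  obtain ⟨t, ht, r⟩ := hmem
  have h := invOK_holds
  simp only [invOK, Bool.and_eq_true, List.all_eq_true, Bool.or_eq_true, Bool.not_eq_true',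
    List.contains_iff_mem] at h
  rcases h.1.1.1 t ht with (e | e) | e
  · exact absurd ((eq_one_iff_powId r).1 e) h1
  · have e' : powId t 2 = true := (pow_eq_one_iff_powId r 2).2 ((pow_two g).trans h2)
    rw [e'] at e
    exact absurd e (by simp)
  · exact ⟨t, e, r⟩

theorem isPGroup_zpowers {g : M22g} (h2 : g * g = 1) : IsPGroup 2 (Subgroup.zpowers g) := by
  intro x
  obtain ⟨k, hk⟩ := Subgroup.mem_zpowers_iff.1 x.2
  refine ⟨1, Subtype.ext ?_⟩
  rw [SubmonoidClass.coe_pow, OneMemClass.coe_one, ← hk, ← zpow_natCast, ← zpow_mul, mul_comm,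
    zpow_mul, zpow_natCast, pow_one, pow_two, h2, one_zpow]

/-- The involutions form one class. -/
theorem isConj_involutions {g h : M22g} (hg : orderOf g = 2) (hh : orderOf h = 2) : IsConj g h := by
  obtain ⟨u, ru⟩ := exists_elt (t := Data.invOne) (by decide +kernel)
  suffices key : ∀ g : M22g, orderOf g = 2 → IsConj u g from (key g hg).symm.trans (key h hh)
  intro g hg
  have h2 : g * g = 1 := by rw [← pow_two, ← hg]; exact pow_orderOf_eq_one g
  have h1 : g ≠ 1 := fun e => by simp [e] at hg
  obtain ⟨c, hc⟩ := exists_conj_mem_sylGroup (isPGroup_zpowers h2)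
  have hcg := hc g (Subgroup.mem_zpowers g)
  obtain ⟨t, ht, r⟩ := mem_invs hcg (by
      rw [show c * g * c⁻¹ * (c * g * c⁻¹) = c * (g * g) * c⁻¹ by group, h2, mul_one,
        mul_inv_cancel])
    (fun e => h1 (conj_eq_one_iff.1 e))
  obtain ⟨i, hi, rfl⟩ := getD_of_mem ht
  have hk := invOK_holds
  simp only [invOK, Bool.and_eq_true, List.all_eq_true, List.mem_range] at hk
  obtain ⟨hcin, e⟩ := hk.2 i hi
  obtain ⟨d, rd⟩ := exists_elt hcin
  have e' := (mul_eq_mul_iff rd ru r rd).1 e
  exact (isConj_iff.2 ⟨d, by rw [e', mul_inv_cancel_right]⟩ : IsConj u (c * g * c⁻¹)).trans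
    (isConj_iff.2 ⟨c⁻¹, by group⟩)

theorem exists_order_four : ∃ g : M22g, orderOf g = 4 := by
  have h : Data.syl.any (fun t => inM22 t && (powId t 4 && !powId t 2)) = true := by decide +kernel
  simp only [List.any_eq_true, Bool.and_eq_true, Bool.not_eq_true'] at h
  obtain ⟨t, -, hin, h4, h2⟩ := h
  obtain ⟨g, r⟩ := exists_elt hin
  have : Fact (Nat.Prime 2) := ⟨Nat.prime_two⟩
  refine ⟨g, orderOf_eq_prime_pow (p := 2) (n := 1) (fun e => ?_) ((pow_eq_one_iff_powId r 4).1 h4)⟩
  rw [show powId t 2 = true from (pow_eq_one_iff_powId r 2).2 (by simpa using e)] at h2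
  exact absurd h2 (by simp)

/-! ### Elementary abelian subgroups of order sixteen -/

theorem hexad_closed : closedOK Data.hexad = true := by decide +kernel

theorem pentad_closed : closedOK Data.pentad = true := by decide +kernel

/-- The standard hexad subgroup. -/
def hexadGroup : Subgroup M22g := listGroup Data.hexad hexad_closed

/-- The standard pentad subgroup. -/
def pentadGroup : Subgroup M22g := listGroup Data.pentad pentad_closed

theorem card_hexadGroup : Nat.card hexadGroup = 16 :=
  (card_inList (L := Data.hexad) (by decide +kernel) (by decide +kernel) (by decide +kernel)).trans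
    (by decide +kernel)

theorem card_pentadGroup : Nat.card pentadGroup = 16 :=
  (card_inList (L := Data.pentad) (by decide +kernel) (by decide +kernel) (by decide +kernel)).trans
    (by decide +kernel)

/-- Each involution outside the two subgroups commutes with fewer than fifteen listed ones. -/
def fewOK : Bool :=
  Data.invs.all fun t => Data.hexad.contains t || Data.pentad.contains t ||
    Nat.blt (Data.invs.filter fun s => prodEq t s s t).length 15

theorem fewOK_holds : fewOK = true := by decide +kernel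

theorem eq_of_elementary_sylGroup {A : Subgroup M22g} (h2 : ∀ a ∈ A, a * a = 1)
    (hc : Nat.card A = 16) (hA : A ≤ sylGroup) : A = hexadGroup ∨ A = pentadGroup := by
  classical
  have hsub : ∀ a ∈ A, a ∈ hexadGroup ∨ a ∈ pentadGroup := by
    intro a ha
    by_cases h1 : a = 1
    · exact Or.inl (h1 ▸ one_mem _)
    obtain ⟨t, ht, r⟩ := mem_invs (hA ha) (h2 a ha) h1
    have hk := fewOK_holds
    simp only [fewOK, List.all_eq_true, Bool.or_eq_true, List.contains_iff_mem, Nat.blt_eq] at hk
    rcases hk t ht with (e | e) | e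
    · exact Or.inl ⟨t, e, r⟩
    · exact Or.inr ⟨t, e, r⟩
    exfalso
    have hx : ∀ x : {x : A // x ≠ 1}, ∃ s ∈ (Data.invs.filter fun s => prodEq t s s t),
        Rep enc x.1.1.1 s := by
      intro x
      have hne : (x.1 : M22g) ≠ 1 := fun e => x.2 (Subtype.ext e)
      obtain ⟨s, hs, rs⟩ := mem_invs (hA x.1.2) (h2 _ x.1.2) hne
      refine ⟨s, List.mem_filter.2 ⟨hs, (mul_eq_mul_iff r rs rs r).2 ?_⟩, rs⟩
      have e1 := h2 _ (mul_mem ha x.1.2)
      have ea : a⁻¹ = a := inv_eq_of_mul_eq_one_right (h2 a ha)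
      have ex : (x.1 : M22g)⁻¹ = x.1 := inv_eq_of_mul_eq_one_right (h2 _ x.1.2)
      calc a * (x.1 : M22g) = (a * (x.1 : M22g))⁻¹ := (inv_eq_of_mul_eq_one_right e1).symm
        _ = (x.1 : M22g) * a := by rw [mul_inv_rev, ea, ex]
    choose f hf hr using hx
    have hinj : Function.Injective fun x => (⟨f x, List.mem_toFinset.2 (hf x)⟩ :
        (Data.invs.filter fun s => prodEq t s s t).toFinset) := fun x y e => by
      have e' : f x = f y := congrArg Subtype.val e
      exact Subtype.ext (Subtype.ext (eq_of_rep (hr x) (e' ▸ hr y)))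
    have hle := Nat.card_le_card_of_injective _ hinj
    rw [Nat.card_eq_finsetCard] at hle
    have := Fintype.ofFinite A
    have h15 : Nat.card {x : A // x ≠ 1} = 15 := by
      rw [Nat.card_eq_fintype_card, Fintype.card_subtype_compl, Fintype.card_subtype_eq,
        ← Nat.card_eq_fintype_card, hc]
    have := hle.trans (List.toFinset_card_le _)
    omega
  by_cases hH : A ≤ hexadGroup
  · exact Or.inl (Subgroup.eq_of_le_of_card_ge hH (by rw [hc, card_hexadGroup]))
  · refine Or.inr (Subgroup.eq_of_le_of_card_ge (fun a ha => ?_) (by rw [hc, card_pentadGroup]))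
    obtain ⟨b, hb, hbH⟩ := SetLike.not_le_iff_exists.1 hH
    rcases hsub a ha with h | h
    · rcases hsub _ (mul_mem ha hb) with h' | h'
      · exact absurd ((Subgroup.mul_mem_cancel_left _ h).1 h') hbH
      · exact (Subgroup.mul_mem_cancel_right _ ((hsub b hb).resolve_left hbH)).1 h'
    · exact h

theorem exists_conj_eq {A : Subgroup M22g} (h2 : ∀ a ∈ A, a * a = 1) (hc : Nat.card A = 16) :
    ∃ c : M22g, A.map (MulAut.conj c).toMonoidHom = hexadGroup ∨
      A.map (MulAut.conj c).toMonoidHom = pentadGroup := by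
  obtain ⟨c, hc'⟩ := exists_conj_mem_sylGroup (IsPGroup.of_card (n := 4) (by rw [hc]; norm_num) :
    IsPGroup 2 A)
  refine ⟨c, eq_of_elementary_sylGroup ?_ ?_ ?_⟩
  · rintro _ ⟨a, ha, rfl⟩
    show MulAut.conj c a * MulAut.conj c a = 1
    rw [← map_mul, h2 a ha, map_one]
  · rw [Subgroup.card_map_of_injective (MulAut.conj c).injective, hc]
  · rintro _ ⟨a, ha, rfl⟩
    exact hc' a ha

/-- An elementary abelian 2-subgroup has order at most sixteen. -/
theorem card_elementary_le {A : Subgroup M22g} (h2 : ∀ a ∈ A, a * a = 1) : Nat.card A ≤ 16 := by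
  classical
  by_contra hlt
  push Not at hlt
  have : Fact (Nat.Prime 2) := ⟨Nat.prime_two⟩
  have hp : IsPGroup 2 A := fun a => ⟨1, Subtype.ext (by
    rw [SubmonoidClass.coe_pow, pow_one, pow_two]; exact h2 a a.2)⟩
  obtain ⟨c, hc⟩ := exists_conj_mem_sylGroup hp
  set B := A.map (MulAut.conj c).toMonoidHom with hB
  have hB2 : ∀ b ∈ B, b * b = 1 := by
    rintro _ ⟨a, ha, rfl⟩
    show MulAut.conj c a * MulAut.conj c a = 1
    rw [← map_mul, h2 a ha, map_one]
  have hBc : Nat.card B = Nat.card A := Subgroup.card_map_of_injective (MulAut.conj c).injective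
  have hBS : B ≤ sylGroup := by
    rintro _ ⟨a, ha, rfl⟩
    exact hc a ha
  obtain ⟨n, hn⟩ := IsPGroup.iff_card.1 hp
  have hn5 : 5 ≤ n := by
    by_contra h
    have : 2 ^ n ≤ 2 ^ 4 := Nat.pow_le_pow_right (by norm_num) (by omega)
    omega
  have hd : 2 ^ 4 ∣ Nat.card B := by rw [hBc, hn]; exact pow_dvd_pow 2 (by omega)
  have all : ∀ b ∈ B, b ∈ hexadGroup ∨ b ∈ pentadGroup := by
    intro b hb
    have hz : Nat.card (Subgroup.zpowers (⟨b, hb⟩ : B)) ∣ 2 ^ 4 := by
      rw [Nat.card_zpowers]
      refine (orderOf_dvd_of_pow_eq_one (n := 2) ?_).trans (dvd_pow_self 2 (by norm_num))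
      exact Subtype.ext ((pow_two b).trans (hB2 b hb))
    obtain ⟨m, hm, hm'⟩ := (Nat.dvd_prime_pow Nat.prime_two).1 hz
    obtain ⟨K, hK, hle⟩ := Sylow.exists_subgroup_card_pow_prime_le (G := B) 2 hd _ hm' hm
    have hKc : Nat.card (K.map B.subtype) = 16 := by
      rw [Subgroup.card_map_of_injective B.subtype_injective, hK]; norm_num
    have hmem : b ∈ K.map B.subtype := ⟨⟨b, hb⟩, hle (Subgroup.mem_zpowers _), rfl⟩
    rcases eq_of_elementary_sylGroup (fun x hx => hB2 x (Subgroup.map_subtype_le K hx)) hKc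
      ((Subgroup.map_subtype_le K).trans hBS) with e | e
    · exact Or.inl (e ▸ hmem)
    · exact Or.inr (e ▸ hmem)
  have hle : Nat.card B ≤ 16 := by
    by_cases hH : B ≤ hexadGroup
    · exact card_hexadGroup ▸ Subgroup.card_le_of_le hH
    obtain ⟨b, hb, hbH⟩ := SetLike.not_le_iff_exists.1 hH
    have : B ≤ pentadGroup := fun a ha => by
      rcases all a ha with h | h
      · rcases all _ (mul_mem ha hb) with h' | h'
        · exact absurd ((Subgroup.mul_mem_cancel_left _ h).1 h') hbH
        · exact (Subgroup.mul_mem_cancel_right _ ((all b hb).resolve_left hbH)).1 h'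
      · exact h
    exact card_pentadGroup ▸ Subgroup.card_le_of_le this
  omega

theorem exists_four_group : ∃ a b : M22g, a * a = 1 ∧ b * b = 1 ∧ a * b = b * a ∧
    a ≠ 1 ∧ b ≠ 1 ∧ a * b ≠ 1 := by
  obtain ⟨a, ra⟩ := exists_elt (t := Data.pentad.getD 1 0) (by decide +kernel)
  obtain ⟨b, rb⟩ := exists_elt (t := Data.pentad.getD 2 0) (by decide +kernel)
  have e1 : prodEq (Data.pentad.getD 1 0) (Data.pentad.getD 2 0) (Data.pentad.getD 2 0)
      (Data.pentad.getD 1 0) = true := by decide +kernel
  refine ⟨a, b, (pow_two a).symm.trans ((pow_eq_one_iff_powId ra 2).1 (by decide +kernel)),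
    (pow_two b).symm.trans ((pow_eq_one_iff_powId rb 2).1 (by decide +kernel)),
    (mul_eq_mul_iff ra rb rb ra).1 e1, fun e => ?_, fun e => ?_, fun e => ?_⟩
  · exact absurd ((eq_one_iff_powId ra).2 e) (by decide +kernel)
  · exact absurd ((eq_one_iff_powId rb).2 e) (by decide +kernel)
  · obtain ⟨o, ro⟩ := exists_elt (t := Data.pentad.getD 0 0) (by decide +kernel)
    have ho : o = 1 := (eq_one_iff_powId ro).1 (by decide +kernel)
    have : prodEq (Data.pentad.getD 1 0) (Data.pentad.getD 2 0) (Data.pentad.getD 0 0)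
        (Data.pentad.getD 0 0) = true := (mul_eq_mul_iff ra rb ro ro).2 (by rw [e, ho, mul_one])
    exact absurd this (by decide +kernel)

/-! ### Outer automorphisms fixing a subgroup of order sixteen -/

/-- The checks on the hexad subgroup: regular on the points outside its fixed octad. -/
def regularOK : Bool :=
  (List.range 24).all (fun i => if Data.movedMask.testBit i then
    Data.hexad.any (fun t => app t 2 == i) else Data.hexad.all (fun t => app t i == i)) &&
  Data.movedMask.testBit 2 && Data.hexad.any (fun t => app t 2 != 2) &&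
  derivesAll Data.movedMask [] Data.derivation

/-- An automorphism that is not inner is conjugation by a member of `M24` swapping the two points. -/
theorem exists_perm_of_not_inner {σ : MulAut M22g} (hσ : σ ∉ Inn M22g) :
    ∃ s ∈ M24, s none = some 0 ∧ s (some 0) = none ∧
      ∀ x : M22g, (σ x).1 = s * x.1 * s⁻¹ := by
  have ht : (inM24 SporadicOut.M22Data.outer && app SporadicOut.M22Data.outer 23 == 0 &&
      app SporadicOut.M22Data.outer 0 == 23) = true := by decide +kernel
  simp only [Bool.and_eq_true, beq_iff_eq] at ht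
  obtain ⟨⟨hin, h23⟩, h0⟩ := ht
  obtain ⟨π, hπ, rπ⟩ := inGroup_of_inM24 hin
  have p1 : π none = some 0 := rπ.apply_eq enc (by
    change app _ (idx none) = idx (some 0); exact h23)
  have p2 : π (some 0) = none := rπ.apply_eq enc (by
    change app _ (idx (some 0)) = idx none; exact h0)
  have i1 : π⁻¹ none = some 0 := (Equiv.symm_apply_eq π).2 p2.symm
  have i2 : π⁻¹ (some 0) = none := (Equiv.symm_apply_eq π).2 p1.symm
  have hstab : ∀ (s : Equiv.Perm GolayPt), s ∈ M24 → s none = some 0 → s (some 0) = none →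
      s⁻¹ none = some 0 → s⁻¹ (some 0) = none → ∀ x : M22g, s * x.1 * s⁻¹ ∈ Spor.M22 := by
    intro s hs e1 e2 e3 e4 x
    obtain ⟨⟨hx24, hxn⟩, hx0⟩ := mem_SporM22.1 x.2
    refine mem_SporM22.2 ⟨⟨mul_mem (mul_mem hs hx24) (inv_mem hs), ?_⟩, ?_⟩
    · rw [Equiv.Perm.mul_apply, Equiv.Perm.mul_apply, e3, hx0, e2]
    · rw [Equiv.Perm.mul_apply, Equiv.Perm.mul_apply, e4, hxn, e1]
  let ψ : MulAut M22g :=
    { toFun := fun x => ⟨π * x.1 * π⁻¹, hstab π hπ p1 p2 i1 i2 x⟩
      invFun := fun x => ⟨π⁻¹ * x.1 * π, by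
        simpa using hstab π⁻¹ (inv_mem hπ) i1 i2 (by simpa using p1) (by simpa using p2) x⟩
      left_inv := fun x => Subtype.ext (by simp [mul_assoc])
      right_inv := fun x => Subtype.ext (by simp [mul_assoc])
      map_mul' := fun x y => Subtype.ext (by simp [mul_assoc]) }
  have hψ : ψ ∉ Inn M22g := by
    rintro ⟨h, hh⟩
    refine M24Classes.not_inner_SporM22 π hπ p1 p2 ⟨h.1, h.2, fun x hx => ?_⟩
    exact (congrArg Subtype.val (DFunLike.congr_fun hh ⟨x, hx⟩)).symm
  have h2 : Nat.card (Cfsg.Out M22g) = 2 := Cfsg.Agent.S2062.result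
  have hindex : (Inn M22g).index = 2 := h2
  have hmem : σ * ψ⁻¹ ∈ Inn M22g := by
    rw [Subgroup.mul_mem_iff_of_index_two hindex, inv_mem_iff]
    exact iff_of_false hσ hψ
  obtain ⟨h, hh⟩ := hmem
  obtain ⟨⟨hh24, hhn⟩, hh0⟩ := mem_SporM22.1 h.2
  refine ⟨h.1 * π, mul_mem hh24 hπ, ?_, ?_, fun x => ?_⟩
  · rw [Equiv.Perm.mul_apply, p1, hh0]
  · rw [Equiv.Perm.mul_apply, p2, hhn]
  · have e : σ = MulAut.conj h * ψ := by
      have : (MulAut.conj h : MulAut M22g) = σ * ψ⁻¹ := hh
      rw [this, inv_mul_cancel_right]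
    rw [e]
    show h.1 * (π * x.1 * π⁻¹) * h.1⁻¹ = _
    group

theorem hexad_no_outer {σ : MulAut M22g} (hσ : σ ∉ Inn M22g) :
    ∃ a ∈ hexadGroup, σ a ≠ a := by
  by_contra hcon
  push Not at hcon
  obtain ⟨s, hs, e1, e2, hconj⟩ := exists_perm_of_not_inner hσ
  have hk : regularOK = true := by decide +kernel
  simp only [regularOK, Bool.and_eq_true, List.all_eq_true, List.mem_range, List.any_eq_true,
    bne_iff_ne] at hk
  obtain ⟨⟨⟨hreg, h2m⟩, ⟨t', ht', hne⟩⟩, hder⟩ := hk
  have hcomm : ∀ a ∈ hexadGroup, ∀ p, s (a.1 p) = a.1 (s p) := fun a ha p => by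
    have e := hconj a
    rw [hcon a ha] at e
    conv_rhs => rw [e]
    simp
  have hin : ∀ t ∈ Data.hexad, inM22 t = true := List.all_eq_true.1 (by decide +kernel)
  have hget : ∀ (t : ℕ), t ∈ Data.hexad → ∃ a ∈ hexadGroup, Rep enc a.1 t := fun t ht => by
    obtain ⟨a, ra⟩ := exists_elt (hin t ht)
    exact ⟨a, ⟨t, ht, ra⟩, ra⟩
  have key : ∀ (g : Equiv.Perm GolayPt), g ∈ M24 → (∀ a ∈ hexadGroup, ∀ p, g (a.1 p) = a.1 (g p)) →
      g (pt 2) = pt 2 → g = 1 := by
    intro g hg hgc h2
    refine derivesAll_sound hg _ _ _ (fun p hp => ?_) (by simp) hder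
    obtain ⟨i, hi, rfl⟩ : ∃ i, i < 24 ∧ pt i = p := ⟨idx p, idx_lt p, pt_idx p⟩
    rw [mem_setOf24, idx_pt hi] at hp
    have h := hreg i hi
    rw [if_pos hp] at h
    simp only [List.any_eq_true, beq_iff_eq] at h
    obtain ⟨t, ht, e⟩ := h
    obtain ⟨a, ha, ra⟩ := hget t ht
    have ea : a.1 (pt 2) = pt i := ra.apply_eq enc (by
      change app t (idx (pt 2)) = idx (pt i); rw [idx_pt (by norm_num : 2 < 24), idx_pt hi, e])
    rw [← ea, hgc a ha, h2]
  by_cases hj : Data.movedMask.testBit (idx (s (pt 2))) = true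
  · have h := hreg _ (idx_lt (s (pt 2)))
    rw [if_pos hj] at h
    simp only [List.any_eq_true, beq_iff_eq] at h
    obtain ⟨t, ht, e⟩ := h
    obtain ⟨a, ha, ra⟩ := hget t ht
    have ea : a.1 (pt 2) = s (pt 2) := ra.apply_eq enc (by
      change app t (idx (pt 2)) = _; rw [idx_pt (by norm_num : 2 < 24), e]; rfl)
    obtain ⟨⟨ha24, han⟩, ha0⟩ := mem_SporM22.1 a.2
    have h1 : a.1⁻¹ * s = 1 := key _ (mul_mem (inv_mem ha24) hs) (fun b hb p => by
        have hab : a * b = b * a := by
          refine Subtype.ext (Equiv.ext fun q => ?_)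
          obtain ⟨tb, htb, rb⟩ := hb
          have e' : prodEq t tb tb t = true :=
            List.all_eq_true.1 (List.all_eq_true.1 (show (Data.hexad.all fun x => Data.hexad.all
              fun y => prodEq x y y x) = true by decide +kernel) t ht) tb htb
          rw [(mul_eq_mul_iff ra rb rb ra).1 e']
        have hab' : ∀ q, a.1⁻¹ (b.1 q) = b.1 (a.1⁻¹ q) := fun q => by
          apply a.1.injective
          rw [perm_apply_inv]
          have := congrArg (fun x : M22g => x.1 (a.1⁻¹ q)) hab
          simp only [Subgroup.coe_mul, Equiv.Perm.mul_apply, perm_apply_inv] at this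
          exact this.symm
        rw [Equiv.Perm.mul_apply, hcomm b hb, Equiv.Perm.mul_apply, hab'])
      (by rw [Equiv.Perm.mul_apply, ← ea, perm_inv_apply])
    have es : s = a.1 := by rw [← mul_one a.1, ← h1, mul_inv_cancel_left]
    rw [es, han] at e1
    exact Option.some_ne_none _ e1.symm
  · have h := hreg _ (idx_lt (s (pt 2)))
    rw [if_neg hj] at h
    simp only [List.all_eq_true, beq_iff_eq] at h
    obtain ⟨a, ha, ra⟩ := hget t' ht'
    have ea : a.1 (s (pt 2)) = s (pt 2) := ra.apply_eq enc (by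
      change app t' (idx (s (pt 2))) = _; rw [h t' ht']; rfl)
    rw [← hcomm a ha] at ea
    refine hne ?_
    have e := ra (pt 2)
    rw [s.injective ea] at e
    change app t' (idx (pt 2)) = idx (pt 2) at e
    rwa [idx_pt (by norm_num : 2 < 24)] at e

end CfsgLib.JFourType
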