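import Cfsg.Agent.JFourType.Three

/-!
# Conjugates of a shape, and the shape of a group of Janko-four type
-/

set_option autoImplicit false
set_option linter.style.haveILetI false

namespace CfsgLib.JFourType

open Cfsg CfsgLib.LargeExtraspecial

namespace Shape

variable {G : Type*} [Group G]

theorem conj_centralizer_mem (S : Shape G) (g : G) {m : G}
    (hm : m ∈ Subgroup.centralizer ({g * S.z * g⁻¹} : Set G)) :
    g⁻¹ * m * g ∈ Subgroup.centralizer ({S.z} : Set G) := by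
  rw [Subgroup.mem_centralizer_singleton_iff] at hm ⊢
  calc g⁻¹ * m * g * S.z = g⁻¹ * (m * (g * S.z * g⁻¹)) * g := by group
    _ = g⁻¹ * (g * S.z * g⁻¹ * m) * g := by rw [hm]
    _ = S.z * (g⁻¹ * m * g) := by group

/-- The conjugate shape. -/
noncomputable def conj (S : Shape G) (g : G) : Shape G where
  z := g * S.z * g⁻¹
  E := S.E.map (MulAut.conj g).toMonoidHom
  sub := S.sub.conj g
  card_E := by
    rw [Subgroup.card_map_of_injective (MulAut.conj g).injective]
    exact S.card_E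
  p := g * S.p * g⁻¹
  p3 := by
    rw [show g * S.p * g⁻¹ = MulAut.conj g S.p from rfl, MulEquiv.orderOf_eq]
    exact S.p3
  p_comm := by
    rw [show g * S.p * g⁻¹ * (g * S.z * g⁻¹) = g * (S.p * S.z) * g⁻¹ by group, S.p_comm]
    group
  fixp := by
    rintro _ ⟨e, he, rfl⟩ h
    have h' : g * (S.p * e) * g⁻¹ = g * (e * S.p) * g⁻¹ := by
      calc g * (S.p * e) * g⁻¹ = g * S.p * g⁻¹ * (g * e * g⁻¹) := by group
        _ = g * e * g⁻¹ * (g * S.p * g⁻¹) := h
        _ = g * (e * S.p) * g⁻¹ := by group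
    rcases S.fixp e he (mul_left_cancel (mul_right_cancel h')) with rfl | rfl
    · exact Or.inl (map_one _)
    · exact Or.inr rfl
  π :=
    { toFun := fun m => S.π ⟨g⁻¹ * m * g, S.conj_centralizer_mem g m.2⟩
      map_one' := by
        rw [← map_one S.π]
        congr 1
        ext
        simp
      map_mul' := fun a b => by
        rw [← map_mul]
        congr 1
        ext
        simp [mul_assoc] }
  π_surj σ := by
    obtain ⟨m, hm⟩ := S.π_surj σ
    refine ⟨⟨g * m * g⁻¹, ?_⟩, ?_⟩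
    · rw [Subgroup.mem_centralizer_singleton_iff]
      have := Subgroup.mem_centralizer_singleton_iff.1 m.2
      calc g * m * g⁻¹ * (g * S.z * g⁻¹) = g * (m * S.z) * g⁻¹ := by group
        _ = g * (S.z * m) * g⁻¹ := by rw [this]
        _ = g * S.z * g⁻¹ * (g * m * g⁻¹) := by group
    · rw [← hm]
      show S.π _ = S.π m
      congr 1
      ext
      simp [mul_assoc]
  π_ker m := by
    show S.π _ = 1 ↔ _
    rw [S.π_ker]
    constructor
    · rintro ⟨e, he, k, hk⟩
      refine ⟨g * e * g⁻¹, ⟨e, he, rfl⟩, k, ?_⟩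
      rw [conj_pow, show g * e * g⁻¹ * (g * S.p ^ k * g⁻¹) = g * (e * S.p ^ k) * g⁻¹ by group, ← hk]
      group
    · rintro ⟨_, ⟨e, he, rfl⟩, k, hk⟩
      refine ⟨e, he, k, ?_⟩
      show g⁻¹ * (m : G) * g = _
      rw [hk, conj_pow]
      simp [mul_assoc]
  invert := by
    obtain ⟨τ, h1, h2⟩ := S.invert
    refine ⟨g * τ * g⁻¹, ?_, ?_⟩
    · rw [show g * τ * g⁻¹ * (g * S.z * g⁻¹) = g * (τ * S.z) * g⁻¹ by group, h1]
      group
    · rw [show g * τ * g⁻¹ * (g * S.p * g⁻¹) * (g * τ * g⁻¹)⁻¹ = g * (τ * S.p * τ⁻¹) * g⁻¹ by group,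
        h2]
      group
  derived := by
    have h : g * S.p * g⁻¹ ∈ (⁅S.C, S.C⁆).map (MulAut.conj g).toMonoidHom :=
      ⟨S.p, S.derived, rfl⟩
    rw [Subgroup.map_commutator] at h
    refine Subgroup.commutator_mono ?_ ?_ h <;>
      rintro _ ⟨c, hc, rfl⟩ <;>
      obtain ⟨hz, hp⟩ := S.mem_C.1 hc <;>
      refine ⟨Subgroup.mem_centralizer_singleton_iff.2 ?_,
        Subgroup.mem_centralizer_singleton_iff.2 ?_⟩
    all_goals
      show g * c * g⁻¹ * (g * _ * g⁻¹) = g * _ * g⁻¹ * (g * c * g⁻¹)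
    · rw [show g * c * g⁻¹ * (g * S.z * g⁻¹) = g * (c * S.z) * g⁻¹ by group, hz]
      group
    · rw [show g * c * g⁻¹ * (g * S.p * g⁻¹) = g * (c * S.p) * g⁻¹ by group, hp]
      group
    · rw [show g * c * g⁻¹ * (g * S.z * g⁻¹) = g * (c * S.z) * g⁻¹ by group, hz]
      group
    · rw [show g * c * g⁻¹ * (g * S.p * g⁻¹) = g * (c * S.p) * g⁻¹ by group, hp]
      group

variable (S : Shape G) (g : G)

@[simp] theorem conj_z : (S.conj g).z = g * S.z * g⁻¹ := rfl

@[simp] theorem conj_p : (S.conj g).p = g * S.p * g⁻¹ := rfl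

theorem mem_conj_E {x : G} : x ∈ (S.conj g).E ↔ g⁻¹ * x * g ∈ S.E := by
  constructor
  · rintro ⟨e, he, rfl⟩
    simpa [mul_assoc] using he
  · exact fun h => ⟨_, h, by simp [mul_assoc]⟩

theorem conj_E_eq_of_mem {g : G} (hg : g ∈ S.H) : (S.conj g).E = S.E := by
  ext x
  rw [mem_conj_E]
  refine ⟨fun h => ?_, fun h => S.conj_mem' hg h⟩
  have := S.conj_mem hg h
  simpa [mul_assoc] using this

theorem conj_z_eq_of_mem {g : G} (hg : g ∈ S.H) : (S.conj g).z = S.z := by
  rw [conj_z, mul_inv_eq_iff_eq_mul.2 (S.mem_H.1 hg)]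

/-- A group of Janko-four type has a shape. -/
theorem exists_of_isOfJankoFourTypeWith [Finite G] {z : G} {P : Subgroup G}
    (hJ : Cfsg.IsOfJankoFourTypeWith z P) : ∃ S : Shape G, S.z = z ∧ Subgroup.zpowers S.p = P := by
  obtain ⟨hz2, hext, hcard, hself, ⟨N, hEN, hNH, -, hNcard, ⟨hNn, ⟨φ⟩⟩, hPN⟩, hP3, hfix, hinv,
    hder⟩ := hJ
  have := Fact.mk Nat.prime_three
  have := Fact.mk Nat.prime_two
  set E := twoCoreOfCentralizer z with hEdef
  set H := Subgroup.centralizer ({z} : Set G) with hH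
  have hEH : E ≤ H := Subgroup.map_subtype_le _
  have hnorm : H ≤ Subgroup.normalizer (E : Set G) := by
    haveI := pCore_normal' 2 ↥H
    intro h hh
    refine Subgroup.mem_normalizer_iff.2 fun x => ⟨?_, fun hx => ?_⟩
    · rintro ⟨y, hy, rfl⟩
      exact ⟨⟨h, hh⟩ * y * ⟨h, hh⟩⁻¹, (pCore_normal' 2 ↥H).conj_mem _ hy _, rfl⟩
    · obtain ⟨y, hy, e⟩ := hx
      refine ⟨⟨h, hh⟩⁻¹ * y * ⟨h, hh⟩, ?_, ?_⟩
      · simpa using (pCore_normal' 2 ↥H).conj_mem _ hy (⟨h, hh⟩⁻¹)
      · show h⁻¹ * (y : G) * h = x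
        rw [show (y : G) = h * x * h⁻¹ from e]
        group
  have hzE : z ∈ E := by
    have h : z ∈ E ⊓ Subgroup.centralizer (P : Set G) := hfix ▸ Subgroup.mem_zpowers z
    exact h.1
  have hzc : ∀ x ∈ E, x * z = z * x := fun x hx =>
    Subgroup.mem_centralizer_singleton_iff.1 (hEH hx)
  have hcenter : (Subgroup.center E).map E.subtype = Subgroup.zpowers z := by
    have hz : (⟨z, hzE⟩ : E) ∈ Subgroup.center E :=
      Subgroup.mem_center_iff.2 fun x => Subtype.ext (hzc x x.2)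
    have hle : Subgroup.zpowers z ≤ (Subgroup.center E).map E.subtype :=
      Subgroup.zpowers_le.2 ⟨_, hz, rfl⟩
    refine (Subgroup.eq_of_le_of_card_ge hle ?_).symm
    rw [Subgroup.card_map_of_injective E.subtype_injective, hext.2, Nat.card_zpowers, hz2]
  have hsub : IsZSub E z := by
    refine ⟨hext, le_antisymm (fun c hc => ?_) ?_, ?_, hcenter, hz2⟩
    · have hcE : c ∈ E := hself
        ⟨Subgroup.mem_centralizer_singleton_iff.2
          (Subgroup.mem_centralizer_iff.1 hc z hzE).symm, hc⟩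
      exact ⟨⟨c, hcE⟩, Subgroup.mem_center_iff.2 fun x =>
        Subtype.ext (Subgroup.mem_centralizer_iff.1 hc x x.2), rfl⟩
    · rintro _ ⟨c, hc, rfl⟩
      exact Subgroup.mem_centralizer_iff.2 fun x hx =>
        congrArg Subtype.val (Subgroup.mem_center_iff.1 hc ⟨x, hx⟩)
    · rw [hcenter, centralizer_zpowers]
      exact hnorm
  obtain ⟨p, hpmem, hp1⟩ : ∃ p ∈ P, p ≠ 1 := by
    by_contra hcon
    push Not at hcon
    rw [(Subgroup.eq_bot_iff_forall _).2 hcon, Subgroup.card_bot] at hP3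
    omega
  have hp3 : orderOf p = 3 := by
    refine orderOf_eq_prime ?_ hp1
    have := congrArg Subtype.val (pow_card_eq_one' (x := (⟨p, hpmem⟩ : P)))
    rwa [hP3] at this
  have hPp : Subgroup.zpowers p = P :=
    Subgroup.eq_of_le_of_card_ge (Subgroup.zpowers_le.2 hpmem) (by rw [hP3, Nat.card_zpowers, hp3])
  have hpH : p ∈ H := hNH (hPN hpmem)
  have hcent : Subgroup.centralizer (P : Set G) = Subgroup.centralizer ({p} : Set G) := by
    rw [← hPp, Subgroup.zpowers_eq_closure, Subgroup.centralizer_closure]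
  have hpE : p ∉ E := fun h => by
    have h2 : IsPGroup 2 E := hext.1.1
    obtain ⟨n, hn⟩ := h2 ⟨p, h⟩
    have hpow : p ^ 2 ^ n = 1 := congrArg Subtype.val hn
    have hd := orderOf_dvd_of_pow_eq_one hpow
    rw [hp3] at hd
    exact absurd (Nat.prime_three.dvd_of_dvd_pow hd) (by norm_num)
  let N' : Subgroup ↥H := N.subgroupOf H
  let π : ↥H →* MulAut M22g := φ.toMonoidHom.comp (QuotientGroup.mk' N')
  have hπker : ∀ m : ↥H, π m = 1 ↔ (m : G) ∈ N := fun m => by
    show φ (QuotientGroup.mk' N' m) = 1 ↔ _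
    rw [map_eq_one_iff _ φ.injective]
    exact (QuotientGroup.eq_one_iff m).trans Subgroup.mem_subgroupOf
  have hN : ∀ x, x ∈ N ↔ ∃ e ∈ E, ∃ k : ℕ, x = e * p ^ k := by
    have hpn : p ∈ N := hPN hpmem
    let U : Subgroup G :=
      { carrier := {x | ∃ e ∈ E, ∃ k : ℕ, x = e * p ^ k}
        one_mem' := ⟨1, one_mem _, 0, by simp⟩
        mul_mem' := by
          rintro _ _ ⟨e, he, k, rfl⟩ ⟨f, hf, l, rfl⟩
          refine ⟨e * (p ^ k * f * (p ^ k)⁻¹), mul_mem he ((Subgroup.mem_normalizer_iff.1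
            (hnorm (pow_mem hpH k)) f).1 hf), k + l, ?_⟩
          rw [pow_add]
          group
        inv_mem' := by
          rintro _ ⟨e, he, k, rfl⟩
          refine ⟨(p ^ k)⁻¹ * e⁻¹ * (p ^ k)⁻¹⁻¹, (Subgroup.mem_normalizer_iff.1
            (hnorm (inv_mem (pow_mem hpH k))) e⁻¹).1 (inv_mem he), 2 * k, ?_⟩
          have h3 : p ^ (3 * k) = 1 := by rw [pow_mul, ← hp3, pow_orderOf_eq_one, one_pow]
          rw [inv_inv, mul_assoc, ← pow_add, show k + 2 * k = 3 * k by ring, h3, mul_one,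
            mul_inv_rev] }
    have hUN : U ≤ N := by
      rintro _ ⟨e, he, k, rfl⟩
      exact mul_mem (hEN he) (pow_mem hpn k)
    have hEU : E ≤ U := fun e he => ⟨e, he, 0, by simp⟩
    have hlt : E ≠ U := fun e => hpE (e ▸ ⟨1, one_mem _, 1, by simp⟩)
    have hcardU : Nat.card N ≤ Nat.card U := by
      obtain ⟨a, ha⟩ := Subgroup.card_dvd_of_le hEU
      obtain ⟨b, hb⟩ := Subgroup.card_dvd_of_le hUN
      rw [hNcard, ha, mul_assoc, mul_comm 3] at hb
      have hab : a * b = 3 := (Nat.eq_of_mul_eq_mul_left Nat.card_pos hb).symm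
      rcases (Nat.dvd_prime Nat.prime_three).1 (Dvd.intro b hab) with h | h
      · exact absurd (Subgroup.eq_of_le_of_card_ge hEU (by rw [ha, h, mul_one])) hlt
      · rw [hNcard, ha, h, mul_comm]
    have hU := Subgroup.eq_of_le_of_card_ge hUN hcardU
    intro x
    rw [← hU]
    rfl
  refine ⟨{
    z := z, E := E, sub := hsub, card_E := hcard, p := p, p3 := hp3
    p_comm := Subgroup.mem_centralizer_singleton_iff.1 hpH
    fixp := fun e he h => ?_
    π := π
    π_surj := φ.surjective.comp (QuotientGroup.mk'_surjective _)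
    π_ker := fun m => (hπker m).trans (hN m)
    invert := ?_
    derived := ?_ }, rfl, hPp⟩
  · have h' : e ∈ E ⊓ Subgroup.centralizer (P : Set G) :=
      ⟨he, hcent ▸ Subgroup.mem_centralizer_singleton_iff.2 h.symm⟩
    rw [hfix] at h'
    exact mem_zpowers_two hz2 h'
  · by_contra hcon
    push Not at hcon
    refine hinv (le_antisymm (fun m ⟨hm, hn⟩ => ⟨hm, ?_⟩) fun m ⟨hm, hc⟩ =>
      ⟨hm, (Subgroup.centralizer_le_normalizer _) hc⟩)
    rw [hcent]
    refine Subgroup.mem_centralizer_singleton_iff.2 ?_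
    have hmp : m * p * m⁻¹ ∈ Subgroup.zpowers p :=
      hPp.symm ▸ (Subgroup.mem_normalizer_iff.1 hn p).1 hpmem
    obtain ⟨k, hk⟩ := (isOfFinOrder_of_finite p).mem_powers_iff_mem_zpowers.2 hmp
    simp only at hk
    rw [← pow_mod_orderOf, hp3] at hk
    rcases (by omega : k % 3 = 0 ∨ k % 3 = 1 ∨ k % 3 = 2) with h | h | h <;> rw [h] at hk
    · exact absurd (conj_eq_one_iff.1 (by rw [← hk, pow_zero])) hp1
    · rw [pow_one] at hk
      exact mul_inv_eq_iff_eq_mul.1 hk.symm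
    · refine absurd ?_ (hcon m (Subgroup.mem_centralizer_singleton_iff.1 hm))
      rw [← hk]
      refine (inv_eq_of_mul_eq_one_right ?_).symm
      rw [← pow_succ', show (2 : ℕ) + 1 = 3 from rfl, ← hp3, pow_orderOf_eq_one]
  · rw [hcent] at hder
    exact hder hpmem

end Shape

end CfsgLib.JFourType
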