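import Cfsg.Agent.JFourType.Bounds
import Cfsg.Agent.JFourType.Shapes

/-!
# Two shapes with commuting involutions

For shapes `S`, `T` with `T.z` in `C(S.z)`: the group `X = E ∩ C(t)` and its interplay with the
subgroup `R = E ∩ E_t`.
-/

set_option autoImplicit false
set_option linter.style.haveILetI false

namespace CfsgLib.JFourType

open Cfsg CfsgLib.LargeExtraspecial Module

namespace Shape

variable {G : Type*} [Group G] {S T : Shape G}

/-- An element of `C` commutes with what it fixes modulo `⟨z⟩` together with its translate. -/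
theorem comm_of_fix [Finite G] {c x : G} (hc : c ∈ S.C) (hx : x ∈ S.E)
    (h : S.cj c (S.pr x) = S.pr x) : c * x = x * c := by
  have hcH := S.C_le_H hc
  obtain ⟨a, ha, ea⟩ : ∃ a : G, (a = 1 ∨ a = S.z) ∧ c * x * c⁻¹ = a * x := by
    rw [S.cj_pr hcH hx] at h
    rcases (pr_eq_iff (S.conj_mem hcH hx) hx).1 h with e | e
    · exact ⟨1, Or.inl rfl, by rw [e, one_mul]⟩
    · exact ⟨S.z, Or.inr rfl, e⟩
  have hcp : Commute c S.p := (S.mem_C.1 hc).2
  have ap : ∀ k : ℕ, Commute a (S.p ^ k) := fun k => by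
    rcases ha with rfl | rfl
    · exact Commute.one_left _
    · exact ((show Commute S.p S.z from S.p_comm).symm).pow_right k
  have hk : ∀ k : ℕ, c * (S.p ^ k * x * (S.p ^ k)⁻¹) * c⁻¹ = a * (S.p ^ k * x * (S.p ^ k)⁻¹) :=
    fun k => by
      calc c * (S.p ^ k * x * (S.p ^ k)⁻¹) * c⁻¹
          = (c * S.p ^ k) * x * (c * S.p ^ k)⁻¹ := by group
        _ = (S.p ^ k * c) * x * (S.p ^ k * c)⁻¹ := by rw [(hcp.pow_right k).eq]
        _ = S.p ^ k * (c * x * c⁻¹) * (S.p ^ k)⁻¹ := by group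
        _ = S.p ^ k * a * x * (S.p ^ k)⁻¹ := by rw [ea]; group
        _ = a * (S.p ^ k * x * (S.p ^ k)⁻¹) := by rw [← (ap k).eq]; group
  set y := S.p ^ 1 * x * (S.p ^ 1)⁻¹ with hy
  set w := S.p ^ 2 * x * (S.p ^ 2)⁻¹ with hw
  have hyE : y ∈ S.E := S.conj_mem (S.p_pow_mem 1) hx
  have hwE : w ∈ S.E := S.conj_mem (S.p_pow_mem 2) hx
  have hsum : x * y * w = 1 ∨ x * y * w = S.z := by
    rw [← pr_eq_zero (mul_mem (mul_mem hx hyE) hwE), pr_mul (mul_mem hx hyE) hwE, pr_mul hx hyE]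
    rw [hy, hw, ← S.cj_pr (S.p_pow_mem 1) hx, ← S.cj_pr (S.p_pow_mem 2) hx, pow_one, pow_two,
      S.cj_mul S.p_mem_H S.p_mem_H, ← space_om, ← space_om]
    rw [← S.space.om_sum (S.pr x)]
    abel
  have aE : ∀ u ∈ S.E, Commute u a := fun u hu => by
    rcases ha with rfl | rfl
    · exact Commute.one_right _
    · exact S.sub.z_comm hu
  have hfix : c * (x * y * w) * c⁻¹ = x * y * w := by
    rcases hsum with e | e <;> rw [e]
    · simp
    · exact mul_inv_eq_iff_eq_mul.2 (S.mem_C.1 hc).1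
  have h3 : c * (x * y * w) * c⁻¹ = a * a * a * (x * y * w) := by
    calc c * (x * y * w) * c⁻¹ = (c * x * c⁻¹) * (c * y * c⁻¹) * (c * w * c⁻¹) := by group
      _ = (a * x) * (a * y) * (a * w) := by rw [ea, hk 1, hk 2]
      _ = a * (x * a) * y * a * w := by group
      _ = a * (a * x) * y * a * w := by rw [(aE x hx).eq]
      _ = a * a * (x * y * a) * w := by group
      _ = a * a * (a * (x * y)) * w := by rw [(aE _ (mul_mem hx hyE)).eq]
      _ = _ := by group
  rw [hfix] at h3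
  have ha3 : a * a * a = 1 := mul_eq_right.1 h3.symm
  have ha1 : a = 1 := by
    rcases ha with rfl | rfl
    · rfl
    · rwa [S.z_mul_z, one_mul] at ha3
  rw [ha1, one_mul] at ea
  exact mul_inv_eq_iff_eq_mul.1 ea

/-- `E ∩ E_t`. -/
def meet (S T : Shape G) : Subgroup G := S.E ⊓ T.E

/-- `E ∩ C(t)`. -/
def cent (S T : Shape G) : Subgroup G := S.E ⊓ T.H

theorem meet_comm : S.meet T = T.meet S := inf_comm _ _

theorem z_mem_cent (h : T.z ∈ S.H) : S.z ∈ S.cent T :=
  ⟨S.sub.z_mem, T.mem_H.2 ((S.mem_H.1 h).symm)⟩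

theorem meet_le_cent : S.meet T ≤ S.cent T := fun _ hx => ⟨hx.1, T.E_le_H hx.2⟩

theorem mem_cent_iff {x : G} : x ∈ S.cent T ↔ x ∈ S.E ∧ x * T.z = T.z * x :=
  Subgroup.mem_inf.trans (and_congr Iff.rfl T.mem_H)

theorem z_not_mem_meet (h : S.z ∉ T.E) : S.z ∉ S.meet T := fun hz => h hz.2

theorem cent_comm_meet (hz : S.z ∉ T.E) {x r : G} (hx : x ∈ S.cent T) (hr : r ∈ S.meet T) :
    x * r = r * x := by
  rcases S.sub.comm_eq hx.1 hr.1 with e | e
  · exact mul_inv_eq_iff_eq_mul.1 (mul_inv_eq_one.1 e)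
  · exact absurd (e ▸ mul_mem (T.conj_mem hx.2 hr.2) (inv_mem hr.2)) hz

theorem meet_sq (hz : S.z ∉ T.E) {r : G} (hr : r ∈ S.meet T) : r * r = 1 :=
  (S.sub.sq_eq hr.1).resolve_right fun e => hz (e ▸ mul_mem hr.2 hr.2)

theorem card_meet [Finite G] (hz : S.z ∉ T.E) :
    Nat.card (S.meet T) = 2 ^ finrank (ZMod 2) (S.vecs (S.meet T)) :=
  card_of_z_not_mem inf_le_left (z_not_mem_meet hz)

theorem z_comm_z (h : T.z ∈ S.H) : T.z * S.z = S.z * T.z := S.mem_H.1 h

theorem z_cj_sq [Finite G] (h : T.z ∈ S.H) (v : S.Vec) : S.cj T.z (S.cj T.z v) = v :=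
  cj_sq h (by rw [T.z_mul_z]; exact one_mem _) v

theorem vecs_cent_le_ker (h : T.z ∈ S.H) :
    S.vecs (S.cent T) ≤ LinearMap.ker (nMap (S.cj T.z)) := by
  rintro _ ⟨x, hx, hxE, rfl⟩
  rw [mem_ker_nMap, S.cj_pr h hxE, mul_inv_eq_iff_eq_mul.2 (mem_cent_iff.1 hx).2.symm]

theorem vecs_meet_le_cent : S.vecs (S.meet T) ≤ S.vecs (S.cent T) := by
  rintro _ ⟨x, hx, hxE, rfl⟩
  exact mem_vecs_of_mem (meet_le_cent hx) hxE

/-- The involution centralises its fixed space in `E`. -/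
def LamZero (S T : Shape G) : Prop :=
  ∀ e ∈ S.E, S.cj T.z (S.pr e) = S.pr e → T.z * e = e * T.z

theorem pre_le_cent_of_lamZero (hl : LamZero S T) :
    S.pre (LinearMap.ker (nMap (S.cj T.z))) ≤ S.cent T := fun e he =>
  mem_cent_iff.2 ⟨he.1, (hl e he.1 (mem_ker_nMap.1 he.2)).symm⟩

theorem vecs_cent_eq_of_lamZero [Finite G] (h : T.z ∈ S.H) (hl : LamZero S T) :
    S.vecs (S.cent T) = LinearMap.ker (nMap (S.cj T.z)) :=
  le_antisymm (vecs_cent_le_ker h) fun v hv => by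
    obtain ⟨e, he, rfl⟩ := pr_surj v
    exact mem_vecs_of_mem (pre_le_cent_of_lamZero hl ⟨he, hv⟩) he

theorem finrank_cent_ge [Finite G] (h : T.z ∈ S.H) :
    finrank (ZMod 2) (LinearMap.ker (nMap (S.cj T.z))) ≤
      finrank (ZMod 2) (S.vecs (S.cent T)) + 1 := by
  set W := LinearMap.ker (nMap (S.cj T.z)) with hW
  by_cases hl : LamZero S T
  · rw [hW, ← vecs_cent_eq_of_lamZero h hl]
    omega
  obtain ⟨w, hw, hwv, hwc⟩ : ∃ w ∈ S.E, S.cj T.z (S.pr w) = S.pr w ∧ T.z * w ≠ w * T.z := by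
    by_contra hcon
    push Not at hcon
    exact hl hcon
  have hle : W ≤ S.vecs (S.cent T) ⊔ Submodule.span (ZMod 2) {S.pr w} := by
    intro v hv
    obtain ⟨y, hy, rfl⟩ := pr_surj v
    by_cases hyc : T.z * y = y * T.z
    · exact Submodule.mem_sup_left (mem_vecs_of_mem (mem_cent_iff.2 ⟨hy, hyc.symm⟩) hy)
    rw [hW, mem_ker_nMap] at hv
    have hflip : ∀ u ∈ S.E, S.cj T.z (S.pr u) = S.pr u → T.z * u ≠ u * T.z →
        T.z * u * T.z⁻¹ = S.z * u := fun u hu hfix hne => by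
      rw [S.cj_pr h hu] at hfix
      exact ((pr_eq_iff (S.conj_mem h hu) hu).1 hfix).resolve_left fun e =>
        hne (mul_inv_eq_iff_eq_mul.1 e)
    have hyw : T.z * (y * w) * T.z⁻¹ = y * w := by
      rw [show T.z * (y * w) * T.z⁻¹ = (T.z * y * T.z⁻¹) * (T.z * w * T.z⁻¹) by group,
        hflip y hy hv hyc, hflip w hw hwv hwc,
        show S.z * y * (S.z * w) = S.z * (y * S.z) * w by group, S.sub.z_comm hy, ← mul_assoc,
        S.z_mul_z, one_mul]
    have hmem := mem_vecs_of_mem (S := S) (X := S.cent T)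
      (mem_cent_iff.2 ⟨mul_mem hy hw, (mul_inv_eq_iff_eq_mul.1 hyw).symm⟩) (mul_mem hy hw)
    rw [pr_mul hy hw] at hmem
    have := add_mem (Submodule.mem_sup_left
      (T := Submodule.span (ZMod 2) {S.pr w}) hmem)
      (Submodule.mem_sup_right (S := S.vecs (S.cent T)) (Submodule.mem_span_singleton_self (S.pr w)))
    rwa [add_assoc, v_add_self, add_zero] at this
  have h1 : finrank (ZMod 2) (Submodule.span (ZMod 2) ({S.pr w} : Set S.Vec)) ≤ 1 :=
    le_trans (finrank_span_le_card {S.pr w}) (by simp)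
  exact ((Submodule.finrank_mono hle).trans (Submodule.finrank_add_le_finrank_add_finrank _ _)).trans
    (Nat.add_le_add_left h1 _)

theorem card_cent [Finite G] (h : T.z ∈ S.H) :
    Nat.card (S.cent T) = 2 * 2 ^ finrank (ZMod 2) (S.vecs (S.cent T)) :=
  card_of_z_mem inf_le_left (z_mem_cent h)

theorem six_le_finrank_ker [Finite G] (h : T.z ∈ S.H) :
    6 ≤ finrank (ZMod 2) (LinearMap.ker (nMap (S.cj T.z))) := by
  have h2 : T.z * T.z ∈ S.E := by rw [T.z_mul_z]; exact one_mem _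
  by_cases hi : S.Inner T.z
  · by_cases hE : T.z ∈ S.E
    · have : nMap (S.cj T.z) = 0 := Space.nMap_eq_zero_iff.2 (LinearEquiv.ext (S.cj_E hE))
      rw [this, LinearMap.ker_zero, finrank_top, S.space.dim]
      norm_num
    · rw [finrank_ker_inner h hi h2 hE]
      norm_num
  · rw [finrank_ker_outer h hi h2]

theorem sixty_four_le_card_cent [Finite G] (h : T.z ∈ S.H) : 64 ≤ Nat.card (S.cent T) := by
  have h1 := finrank_cent_ge h
  have h2 := six_le_finrank_ker h
  rw [card_cent h]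
  calc 64 = 2 * 2 ^ 5 := by norm_num
    _ ≤ _ := Nat.mul_le_mul_left _ (Nat.pow_le_pow_right (by norm_num) (by omega))

/-- A pair whose vectors of `E ∩ C(t)` fill more than half the space: `z` is inner for `t`. -/
theorem inner_of_seven_le [Finite G] (h : T.z ∈ S.H)
    (h7 : 7 ≤ finrank (ZMod 2) (S.vecs (S.cent T))) : T.Inner S.z := by
  by_contra hno
  have hab : ∀ x ∈ S.cent T, ∀ y ∈ S.cent T, x * y = y * x := fun x hx y hy => by
    rcases S.sub.comm_eq hx.1 hy.1 with e | e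
    · exact mul_inv_eq_iff_eq_mul.1 (mul_inv_eq_one.1 e)
    · exact absurd (e ▸ inner_comm hy.2 hx.2) hno
  have hle : S.vecs (S.cent T) ≤ S.space.orth (S.vecs (S.cent T)) := by
    rintro _ ⟨x, hx, hxE, rfl⟩
    refine S.space.mem_orth'.2 ?_
    rintro _ ⟨y, hy, hyE, rfl⟩
    exact (space_B_eq_zero hxE hyE).2 (hab x hx y hy)
  have h1 := Submodule.finrank_mono hle
  have h2 := S.space.finrank_orth (S.vecs (S.cent T))
  omega

/-- Many elements commute with the involution of the other side when it is inner there. -/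
theorem two_pow_eight_le_card_cent [Finite G] (h : T.z ∈ S.H) (hi : S.Inner T.z) :
    2 ^ 8 ≤ Nat.card (S.cent T) := by
  have h1 := finrank_cent_ge h
  have h8 : 8 ≤ finrank (ZMod 2) (LinearMap.ker (nMap (S.cj T.z))) := by
    by_cases hE : T.z ∈ S.E
    · have : nMap (S.cj T.z) = 0 := Space.nMap_eq_zero_iff.2 (LinearEquiv.ext (S.cj_E hE))
      rw [this, LinearMap.ker_zero, finrank_top, S.space.dim]
      norm_num
    · rw [finrank_ker_inner h hi (by rw [T.z_mul_z]; exact one_mem _) hE]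
  rw [card_cent h]
  calc 2 ^ 8 = 2 * 2 ^ 7 := by norm_num
    _ ≤ _ := Nat.mul_le_mul_left _ (Nat.pow_le_pow_right (by norm_num) (by omega))

end Shape

end CfsgLib.JFourType
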