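import Cfsg.Agent.JFourType.Pair
import Cfsg.Agent.ZStar.Theorem

/-!
# The involution has a further conjugate in its extraspecial subgroup
-/

set_option autoImplicit false
set_option linter.style.haveILetI false

namespace CfsgLib.JFourType

open Cfsg CfsgLib.LargeExtraspecial Module

namespace Shape

variable {G : Type*} [Group G] {S T : Shape G}

/-- The involution is the only one of its class in its extraspecial subgroup. -/
def Alone (T : Shape G) : Prop := ∀ g : G, g * T.z * g⁻¹ ∈ T.E → g * T.z * g⁻¹ = T.z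

theorem comm_of_alone (ha : T.Alone) {e : G} (h : T.z * e * T.z⁻¹ * e⁻¹ ∈ T.E) :
    T.z * e = e * T.z := by
  have h1 : e * T.z * e⁻¹ ∈ T.E := by
    rw [show e * T.z * e⁻¹ = (T.z⁻¹ * (T.z * e * T.z⁻¹ * e⁻¹))⁻¹ by group]
    exact inv_mem (mul_mem (inv_mem T.sub.z_mem) h)
  exact (mul_inv_eq_iff_eq_mul.1 (ha e h1)).symm

/-- A lift of a vector of the image. -/
theorem pr_commutator [Finite G] (h : T.z ∈ S.H) {e : G} (he : e ∈ S.E) :
    T.z * e * T.z⁻¹ * e⁻¹ ∈ S.E ∧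
      S.pr (T.z * e * T.z⁻¹ * e⁻¹) = nMap (S.cj T.z) (S.pr e) := by
  refine ⟨mul_mem (S.conj_mem h he) (inv_mem he), ?_⟩
  rw [pr_mul (S.conj_mem h he) (inv_mem he), pr_inv he, nMap_apply, S.cj_pr h he]

/-- Without sign change, `R ∩ im` has the pairing property. -/
theorem pairRule_of_alone [Finite G] (h : T.z ∈ S.H) (ht : S.z ∉ T.E) (ha : T.Alone) :
    S.space.PairRule (S.cj T.z) (S.vecs (S.meet T) ⊓ LinearMap.range (nMap (S.cj T.z))) := by
  refine ⟨inf_le_right, fun a b hA hB ha0 hb0 hab => ?_⟩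
  obtain ⟨e₁, he₁, rfl⟩ := pr_surj a
  obtain ⟨e₂, he₂, rfl⟩ := pr_surj b
  obtain ⟨y₁, hy₁, hy₁E, ey₁⟩ := hA.1
  obtain ⟨y₂, hy₂, hy₂E, ey₂⟩ := hB.1
  have key : ∀ e ∈ S.E, ∀ y ∈ S.meet T, S.pr y = nMap (S.cj T.z) (S.pr e) →
      nMap (S.cj T.z) (S.pr e) ≠ 0 → T.z * e * T.z⁻¹ * e⁻¹ = S.z * y := fun e he y hy ey hne => by
    obtain ⟨hmem, hpr⟩ := pr_commutator h he
    refine ((pr_eq_iff hmem hy.1).1 (hpr.trans ey.symm)).resolve_left fun e1 => hne ?_
    have hc := comm_of_alone ha (show T.z * e * T.z⁻¹ * e⁻¹ ∈ T.E from e1.symm ▸ hy.2)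
    rw [← hpr, show T.z * e * T.z⁻¹ * e⁻¹ = 1 by rw [hc]; group, pr_one]
  have k₁ := key e₁ he₁ y₁ hy₁ ey₁ ha0
  have k₂ := key e₂ he₂ y₂ hy₂ ey₂ hb0
  by_contra hB1
  have hB0 : S.space.B (nMap (S.cj T.z) (S.pr e₂)) (S.pr e₁) = 0 := by
    rcases zmod2_cases (S.space.B (nMap (S.cj T.z) (S.pr e₂)) (S.pr e₁)) with e | e
    · exact e
    · exfalso
      refine hB1 ?_
      rw [(isIso_cj h).B_symm_n (z_cj_sq h), S.space.symm]
      exact e
  rw [← ey₂, space_B_eq_zero hy₂E he₁] at hB0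
  have hcomm : T.z * (e₁ * e₂) * T.z⁻¹ * (e₁ * e₂)⁻¹ = y₁ * y₂ := by
    calc T.z * (e₁ * e₂) * T.z⁻¹ * (e₁ * e₂)⁻¹
        = (T.z * e₁ * T.z⁻¹ * e₁⁻¹) * e₁ * (T.z * e₂ * T.z⁻¹ * e₂⁻¹) * e₁⁻¹ := by group
      _ = S.z * y₁ * e₁ * (S.z * y₂) * e₁⁻¹ := by rw [k₁, k₂]
      _ = S.z * (y₁ * e₁ * S.z) * y₂ * e₁⁻¹ := by group
      _ = S.z * (S.z * (y₁ * e₁)) * y₂ * e₁⁻¹ := by rw [S.sub.z_comm (mul_mem hy₁E he₁)]
      _ = y₁ * e₁ * y₂ * e₁⁻¹ := by rw [← mul_assoc S.z S.z, S.z_mul_z, one_mul]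
      _ = y₁ * (e₁ * y₂) * e₁⁻¹ := by group
      _ = y₁ * y₂ := by rw [← hB0]; group
  have hc := comm_of_alone ha (hcomm ▸ mul_mem hy₁.2 hy₂.2)
  have h12 : y₁ * y₂ = 1 := by rw [← hcomm, hc]; group
  refine hab ?_
  rw [← ey₁, ← ey₂, eq_inv_of_mul_eq_one_left h12, pr_inv hy₂E]

/-- With a sign change, `R` avoids the image. -/
theorem inf_range_eq_bot [Finite G] (h : T.z ∈ S.H) (ha : T.Alone) (hl : ¬ LamZero S T) :
    S.vecs (S.meet T) ⊓ LinearMap.range (nMap (S.cj T.z)) = ⊥ := by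
  obtain ⟨w, hw, hwv, hwc⟩ : ∃ w ∈ S.E, S.cj T.z (S.pr w) = S.pr w ∧ T.z * w ≠ w * T.z := by
    by_contra hcon
    push Not at hcon
    exact hl hcon
  have hwz : T.z * w * T.z⁻¹ * w⁻¹ = S.z := by
    rw [S.cj_pr h hw] at hwv
    refine mul_inv_eq_iff_eq_mul.2 ?_
    exact ((pr_eq_iff (S.conj_mem h hw) hw).1 hwv).resolve_left fun e =>
      hwc (mul_inv_eq_iff_eq_mul.1 e)
  refine (Submodule.eq_bot_iff _).2 fun v hv => ?_
  obtain ⟨⟨y, hy, hyE, rfl⟩, a, ea⟩ := hv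
  obtain ⟨e, he, rfl⟩ := pr_surj a
  obtain ⟨hmem, hpr⟩ := pr_commutator h he
  suffices hy1 : y = 1 by rw [hy1, pr_one]
  rcases (pr_eq_iff hmem hyE).1 (hpr.trans ea) with e1 | e1
  · have hc := comm_of_alone ha (e1.symm ▸ hy.2)
    rw [← e1, hc]
    group
  · have e2 : T.z * (e * w) * T.z⁻¹ * (e * w)⁻¹ = y := by
      calc T.z * (e * w) * T.z⁻¹ * (e * w)⁻¹
          = (T.z * e * T.z⁻¹ * e⁻¹) * e * (T.z * w * T.z⁻¹ * w⁻¹) * e⁻¹ := by group
        _ = S.z * y * (e * S.z) * e⁻¹ := by rw [e1, hwz]; group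
        _ = S.z * (y * S.z) * e * e⁻¹ := by rw [S.sub.z_comm he]; group
        _ = y := by
          rw [S.sub.z_comm hyE, ← mul_assoc S.z S.z, S.z_mul_z, one_mul, mul_inv_cancel_right]
    have hc := comm_of_alone ha (e2.symm ▸ hy.2)
    rw [← e2, hc]
    group

/-- The conjugating element making `p` commute with an inner involution without sign change. -/
theorem exists_conj_p_comm [Finite G] (h : T.z ∈ S.H) (hi : S.Inner T.z) (hE : T.z ∉ S.E)
    (hl : LamZero S T) : ∃ f ∈ S.E, f * S.p * f⁻¹ * T.z = T.z * (f * S.p * f⁻¹) := by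
  obtain ⟨e, he, c, hc, hec, hc2⟩ := exists_C_of_sq h hi (by rw [T.z_mul_z]; exact one_mem _)
  have hcH := S.C_le_H hc
  have hcj : S.cj T.z = S.cj c := by rw [hec, cj_mul_E he hcH]
  have hcE : c ∉ S.E := fun hh => hE (hec ▸ mul_mem he hh)
  have horth : S.pr e ∈ S.space.orth (LinearMap.ker (nMap (S.cj c))) := by
    refine S.space.mem_orth'.2 fun v hv => ?_
    obtain ⟨w, hw, rfl⟩ := pr_surj v
    have hfix := mem_ker_nMap.1 hv
    rw [space_B_eq_zero he hw]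
    have h1 : T.z * w = w * T.z := hl w hw (by rw [hcj]; exact hfix)
    have h2 := comm_of_fix hc hw hfix
    rw [hec] at h1
    refine mul_right_cancel (b := c) ?_
    calc e * w * c = e * (w * c) := mul_assoc _ _ _
      _ = e * (c * w) := by rw [h2]
      _ = e * c * w := (mul_assoc _ _ _).symm
      _ = w * (e * c) := h1
      _ = w * e * c := (mul_assoc _ _ _).symm
  rw [← (isIso_cj hcH).orth_range (cj_sq hcH hc2), S.space.orth_orth] at horth
  obtain ⟨a, ea⟩ := horth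
  obtain ⟨f, hf, rfl⟩ := pr_surj a
  have hfH := S.E_le_H hf
  refine ⟨f, hf, ?_⟩
  have hmem : f * c * f⁻¹ * c⁻¹ ∈ S.E := by
    rw [show f * c * f⁻¹ * c⁻¹ = f * (c * f⁻¹ * c⁻¹) by group]
    exact mul_mem hf (S.conj_mem hcH (inv_mem hf))
  have hpr : S.pr (f * c * f⁻¹ * c⁻¹) = S.pr e := by
    rw [← ea, show f * c * f⁻¹ * c⁻¹ = f * (c * f⁻¹ * c⁻¹) by group,
      pr_mul hf (S.conj_mem hcH (inv_mem hf)), ← S.cj_pr hcH (inv_mem hf), pr_inv hf, nMap_apply,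
      add_comm]
  have hpc : Commute (f * S.p * f⁻¹) (f * c * f⁻¹) := by
    show _ = _
    rw [show f * S.p * f⁻¹ * (f * c * f⁻¹) = f * (S.p * c) * f⁻¹ by group, ← (S.mem_C.1 hc).2]
    group
  have hpz : Commute (f * S.p * f⁻¹) S.z :=
    S.mem_H.1 (mul_mem (mul_mem hfH S.p_mem_H) (inv_mem hfH))
  rcases (pr_eq_iff hmem he).1 hpr with e1 | e1
  · have : T.z = f * c * f⁻¹ := by rw [hec, ← e1]; group
    rw [this]
    exact hpc.eq
  · have : T.z = S.z * (f * c * f⁻¹) := by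
      rw [hec, show f * c * f⁻¹ = f * c * f⁻¹ * c⁻¹ * c by group, e1, ← mul_assoc, ← mul_assoc,
        S.z_mul_z, one_mul]
    rw [this]
    exact (hpz.mul_right hpc).eq

/-- Linear image of a subgroup of the centralizer. -/
noncomputable def imgCard (S : Shape G) (Y : Subgroup G) : ℕ := Nat.card (S.cj '' (Y : Set G))

theorem card_le_img_mul [Finite G] {Y : Subgroup G} (hY : Y ≤ S.H) :
    Nat.card Y ≤ S.imgCard Y * Nat.card ↥(Y ⊓ S.E) := by
  let f : ↥Y →* (S.Vec ≃ₗ[ZMod 2] S.Vec) :=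
    MonoidHom.mk' (fun y => S.cj y) fun a b => LinearEquiv.ext fun v => S.cj_mul (hY a.2) (hY b.2) v
  have hk : f.ker ≤ (Y ⊓ S.E).subgroupOf Y := fun y hy =>
    Subgroup.mem_subgroupOf.2 ⟨y.2, mem_E_of_cj (hY y.2) fun v => LinearEquiv.congr_fun hy v⟩
  have h1 := f.ker.index_mul_card
  rw [Subgroup.index_ker] at h1
  rw [← h1]
  refine Nat.mul_le_mul (le_of_eq ?_) ?_
  · unfold imgCard
    refine congrArg (fun s : Set (S.Vec ≃ₗ[ZMod 2] S.Vec) => Nat.card s) ?_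
    ext u
    constructor
    · rintro ⟨y, rfl⟩
      exact ⟨y, y.2, rfl⟩
    · rintro ⟨y, hy, rfl⟩
      exact ⟨⟨y, hy⟩, rfl⟩
  · exact (Subgroup.card_le_of_le hk).trans_eq
      (Nat.card_congr (Subgroup.subgroupOfEquivOfLe inf_le_left).toEquiv)

/-- An element of `E_t ∩ C(z)` moves the vectors of `E ∩ C(t)` into those of `R`. -/
theorem move_meet [Finite G] {y : G} (hy : y ∈ T.cent S) {v : S.Vec}
    (hv : v ∈ S.vecs (S.cent T)) : nMap (S.cj y) v ∈ S.vecs (S.meet T) := by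
  obtain ⟨x, hx, hxE, rfl⟩ := hv
  have h1 : y * x * y⁻¹ * x⁻¹ ∈ S.E := mul_mem (S.conj_mem hy.2 hxE) (inv_mem hxE)
  have h2 : y * x * y⁻¹ * x⁻¹ ∈ T.E := by
    rw [show y * x * y⁻¹ * x⁻¹ = y * (x * y⁻¹ * x⁻¹) by group]
    exact mul_mem hy.1 (T.conj_mem hx.2 (inv_mem hy.1))
  refine ⟨_, ⟨h1, h2⟩, h1, ?_⟩
  rw [pr_mul (S.conj_mem hy.2 hxE) (inv_mem hxE), pr_inv hxE, nMap_apply, S.cj_pr hy.2 hxE]

theorem fix_meet [Finite G] (hs : T.z ∉ S.E) {y : G} (hy : y ∈ T.cent S) :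
    ∀ r ∈ S.vecs (S.meet T), S.cj y r = r := by
  rintro _ ⟨r, hr, hrE, rfl⟩
  rw [S.cj_pr hy.2 hrE,
    mul_inv_eq_iff_eq_mul.2 (cent_comm_meet hs hy (meet_comm (S := S) (T := T) ▸ hr))]

theorem cj_comm_z [Finite G] (h : T.z ∈ S.H) {y : G} (hy : y ∈ T.cent S) (v : S.Vec) :
    S.cj y (S.cj T.z v) = S.cj T.z (S.cj y v) := by
  rw [← S.cj_mul hy.2 h, T.sub.z_comm hy.1, S.cj_mul h hy.2]

theorem two_lt_of_cent [Finite G] {y : G} (hy : y ∈ T.cent S)
    (hl : S.space.Lin (S.cj y)) (hne : S.cj y ≠ LinearEquiv.refl (ZMod 2) S.Vec) :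
    2 < finrank (ZMod 2) (LinearMap.range (nMap (S.cj y))) := by
  obtain ⟨n, hn⟩ := T.isPGroup_E ⟨y, hy.1⟩
  have hp : y ^ 2 ^ n = 1 := congrArg Subtype.val hn
  exact two_lt_rk hy.2 (inner_of_lin hy.2 hl)
    (fun hE => hne (LinearEquiv.ext (S.cj_E hE))) ⟨n, hp ▸ one_mem _⟩

/-- The outer case is impossible. -/
theorem no_outer_pair [Finite G] (h : T.z ∈ S.H) (h' : S.z ∈ T.H) (hs : T.z ∉ S.E)
    (ht : S.z ∉ T.E) (ha : T.Alone) (ho : ¬ S.Inner T.z) : False := by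
  set u0 := S.cj T.z with hu0
  set R := S.vecs (S.meet T) with hR
  have h2 : T.z * T.z ∈ S.E := by rw [T.z_mul_z]; exact one_mem _
  have hsemi : S.space.Semi u0 := semi_of_outer h ho
  have hinv : ∀ v, u0 (u0 v) = v := z_cj_sq h
  have hker := hsemi.ker_eq_range hinv
  have hRle : R ≤ LinearMap.range (nMap u0) :=
    hker ▸ (vecs_meet_le_cent.trans (vecs_cent_le_ker h))
  have hrule : S.space.PairRule u0 R := by
    have := pairRule_of_alone h ht ha
    rwa [inf_eq_left.2 hRle] at this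
  have hcase : LinearMap.ker (nMap u0) ≤ S.vecs (S.cent T) ∨
      (R = ⊥ ∧ 5 ≤ finrank (ZMod 2) (S.vecs (S.cent T))) := by
    by_cases hl : LamZero S T
    · exact Or.inl (vecs_cent_eq_of_lamZero h hl).ge
    · refine Or.inr ⟨?_, ?_⟩
      · have := inf_range_eq_bot h ha hl
        rwa [inf_eq_left.2 hRle] at this
      · have h1 := finrank_cent_ge h
        have h6 := six_le_finrank_ker h
        omega
  have hlinE : ∀ y ∈ T.cent S, S.Inner y → y ∈ S.E := by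
    intro y hy hi
    refine mem_E_of_cj hy.2 fun v => ?_
    rw [Space.outer_trivial (S := S.space) (isIso_cj h) hsemi hinv hrule (isIso_cj hy.2)
      (lin_of_inner hy.2 hi) (fix_meet hs hy) (cj_comm_z h hy) (vecs_cent_le_ker h)
      (fun w hw => move_meet hy hw) hcase (two_lt_of_cent hy (lin_of_inner hy.2 hi))]
    rfl
  have hR4 : Nat.card (S.meet T) ≤ 4 := by
    rw [card_meet ht]
    calc 2 ^ finrank (ZMod 2) R ≤ 2 ^ 2 := Nat.pow_le_pow_right (by norm_num) hrule.finrank_le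
      _ = 4 := rfl
  have hle : Nat.card (T.cent S) ≤ Nat.card (S.meet T) * 2 := by
    let f : ↥(T.cent S) →* MulAut M22g ⧸ Inn M22g :=
      (QuotientGroup.mk' (Inn M22g)).comp
        (MonoidHom.mk' (fun y : ↥(T.cent S) => S.piv y) fun a b => piv_mul a.2.2 b.2.2)
    have hk : f.ker ≤ (S.meet T).subgroupOf (T.cent S) := fun y hy =>
      Subgroup.mem_subgroupOf.2 ⟨hlinE y y.2 ((QuotientGroup.eq_one_iff _).1 hy), y.2.1⟩
    have h1 := f.ker.index_mul_card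
    rw [Subgroup.index_ker] at h1
    rw [← h1, mul_comm]
    refine Nat.mul_le_mul ((Subgroup.card_le_of_le hk).trans_eq (Nat.card_congr
      (Subgroup.subgroupOfEquivOfLe ?_).toEquiv)) ((Finite.card_subtype_le _).trans_eq inn_index)
    rw [meet_comm]
    exact meet_le_cent
  have := sixty_four_le_card_cent (S := T) (T := S) h'
  omega

/-- The inner case with a sign change is impossible. -/
theorem no_inner_sign [Finite G] (h : T.z ∈ S.H) (h' : S.z ∈ T.H) (hs : T.z ∉ S.E)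
    (ht : S.z ∉ T.E) (ha : T.Alone) (hi : S.Inner T.z) (hl : ¬ LamZero S T) : False := by
  set u0 := S.cj T.z with hu0
  set R := S.vecs (S.meet T) with hR
  set X := S.vecs (S.cent T) with hX
  have h2 : T.z * T.z ∈ S.E := by rw [T.z_mul_z]; exact one_mem _
  have hlin : S.space.Lin u0 := lin_of_inner h hi
  have hinv : ∀ v, u0 (u0 v) = v := z_cj_sq h
  have h4 : finrank (ZMod 2) (LinearMap.range (nMap u0)) = 4 := rk_eq_four h hi h2 hs
  have h8 : finrank (ZMod 2) (LinearMap.ker (nMap u0)) = 8 := finrank_ker_inner h hi h2 hs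
  have hXle := vecs_cent_le_ker (S := S) h
  have h7 : finrank (ZMod 2) X = 7 := by
    have h1 := finrank_cent_ge h
    have hlt : X < LinearMap.ker (nMap u0) := by
      refine lt_of_le_of_ne hXle fun e => hl fun w hw hfix => ?_
      obtain ⟨x, hx, hxE, ex⟩ : S.pr w ∈ X := e ▸ mem_ker_nMap.2 hfix
      have hxc := (mem_cent_iff.1 hx).2
      rcases (pr_eq_iff hw hxE).1 ex.symm with e1 | e1
      · rw [e1, hxc]
      · rw [e1, ← mul_assoc, z_comm_z h, mul_assoc, ← hxc, mul_assoc]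
    have := Submodule.finrank_lt_finrank_of_lt hlt
    rw [← hu0, h8, ← hX] at h1
    rw [h8] at this
    omega
  have hrX : LinearMap.range (nMap u0) ≤ X := by
    rintro _ ⟨a, rfl⟩
    obtain ⟨e, he, rfl⟩ := pr_surj a
    obtain ⟨hmem, hpr⟩ := pr_commutator h he
    rw [← hpr]
    refine mem_vecs_of_mem (mem_cent_iff.2 ⟨hmem, ?_⟩) hmem
    have hq : S.space.q (S.pr (T.z * e * T.z⁻¹ * e⁻¹)) = 0 :=
      (isIso_cj h).q_range hlin hinv (hpr ▸ ⟨_, rfl⟩)
    rw [space_q hmem] at hq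
    have hsq := zc_eq_zero hq
    set y := T.z * e * T.z⁻¹ * e⁻¹ with hy
    have hyi : y⁻¹ = y := inv_eq_of_mul_eq_one_right hsq
    have ht1 : T.z * T.z = 1 := T.z_mul_z
    have : T.z * y * T.z⁻¹ = y⁻¹ := by
      rw [hy]
      calc T.z * (T.z * e * T.z⁻¹ * e⁻¹) * T.z⁻¹ = (T.z * T.z) * e * T.z⁻¹ * e⁻¹ * T.z⁻¹ := by group
        _ = e * T.z * e⁻¹ * T.z⁻¹ := by rw [ht1, T.z_inv, one_mul]
        _ = (T.z * e * T.z⁻¹ * e⁻¹)⁻¹ := by group
    rw [hyi, mul_inv_eq_iff_eq_mul] at this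
    exact this.symm
  have hdis : R ⊓ LinearMap.range (nMap u0) = ⊥ := inf_range_eq_bot h ha hl
  have hR1 : finrank (ZMod 2) R ≤ 1 := by
    have hle : R ⊔ LinearMap.range (nMap u0) ≤ S.space.orth X := by
      refine sup_le ?_ ?_
      · rintro _ ⟨r, hr, hrE, rfl⟩
        refine S.space.mem_orth'.2 ?_
        rintro _ ⟨x, hx, hxE, rfl⟩
        exact (space_B_eq_zero hrE hxE).2 (cent_comm_meet ht hx hr).symm
      · rw [← S.space.orth_orth (LinearMap.range (nMap u0)), (isIso_cj h).orth_range hinv]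
        exact S.space.orth_anti hXle
    have h1 := Submodule.finrank_mono hle
    have h3 := Submodule.finrank_sup_add_finrank_inf_eq R (LinearMap.range (nMap u0))
    rw [hdis, finrank_bot, h4] at h3
    have h5 := S.space.finrank_orth X
    omega
  have hK : S.imgCard (T.cent S) ≤ 64 := by
    refine Space.card_le_sixty_four (S := S.space) (isIso_cj h) hlin hinv h4 hrX hXle h7 hR1 hdis _
      ?_ ?_ ?_ ?_ ?_ ?_
    · rintro _ ⟨a, ha', rfl⟩ _ ⟨b, hb, rfl⟩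
      refine ⟨b⁻¹ * a, mul_mem (inv_mem hb) ha', LinearEquiv.ext fun v => ?_⟩
      rw [S.cj_mul (inv_mem hb.2) ha'.2]
      rfl
    · rintro _ ⟨a, ha', rfl⟩
      exact isIso_cj ha'.2
    · rintro _ ⟨a, ha', rfl⟩
      exact lin_or_semi ha'.2
    · rintro _ ⟨a, ha', rfl⟩
      exact cj_comm_z h ha'
    · rintro _ ⟨a, ha', rfl⟩ w hw
      exact move_meet ha' hw
    · rintro _ ⟨a, ha', rfl⟩ hla hne
      exact two_lt_of_cent ha' hla hne
  have hzi : T.Inner S.z := inner_of_seven_le h h7.ge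
  have hbig : 2 ^ 8 ≤ Nat.card (T.cent S) := two_pow_eight_le_card_cent (S := T) (T := S) h' hzi
  have hcard := card_le_img_mul (S := S) (Y := T.cent S) inf_le_right
  have hR2 : Nat.card ↥(T.cent S ⊓ S.E) ≤ 2 := by
    refine le_trans (Subgroup.card_le_of_le (show T.cent S ⊓ S.E ≤ S.meet T from
      fun y hy => ⟨hy.2, hy.1.1⟩)) ?_
    rw [card_meet ht]
    calc 2 ^ finrank (ZMod 2) R ≤ 2 ^ 1 := Nat.pow_le_pow_right (by norm_num) hR1
      _ = 2 := rfl
  have := hcard.trans (Nat.mul_le_mul hK hR2)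
  omega

/-- The inner case without sign change is impossible. -/
theorem no_inner_plain [Finite G] (h : T.z ∈ S.H) (h' : S.z ∈ T.H) (hs : T.z ∉ S.E)
    (ht : S.z ∉ T.E) (ha : T.Alone) (hi : S.Inner T.z) (hl : LamZero S T) : False := by
  set u0 := S.cj T.z with hu0
  set R := S.vecs (S.meet T) with hR
  have h2 : T.z * T.z ∈ S.E := by rw [T.z_mul_z]; exact one_mem _
  have hlin : S.space.Lin u0 := lin_of_inner h hi
  have hinv : ∀ v, u0 (u0 v) = v := z_cj_sq h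
  have h4 : finrank (ZMod 2) (LinearMap.range (nMap u0)) = 4 := rk_eq_four h hi h2 hs
  have h8 : finrank (ZMod 2) (LinearMap.ker (nMap u0)) = 8 := finrank_ker_inner h hi h2 hs
  obtain ⟨f, hf, hfp⟩ := exists_conj_p_comm h hi hs hl
  set p' := f * S.p * f⁻¹ with hp'
  have hfH := S.E_le_H hf
  have hpS : p' ∈ S.H := mul_mem (mul_mem hfH S.p_mem_H) (inv_mem hfH)
  have hpT : p' ∈ T.H := T.mem_H.2 hfp
  have hpcj : ∀ v, S.cj p' v = S.space.om v := fun v => by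
    rw [hp', S.cj_mul (mul_mem hfH S.p_mem_H) (inv_mem hfH), S.cj_E (inv_mem hf),
      S.cj_mul hfH S.p_mem_H, S.cj_E hf, space_om]
  have hRle : R ≤ LinearMap.range (nMap u0) := by
    rw [← S.space.orth_orth (LinearMap.range (nMap u0)), (isIso_cj h).orth_range hinv, ← hu0]
    rintro _ ⟨r, hr, hrE, rfl⟩
    refine S.space.mem_orth'.2 ?_
    rw [← vecs_cent_eq_of_lamZero h hl]
    rintro _ ⟨x, hx, hxE, rfl⟩
    exact (space_B_eq_zero hrE hxE).2 (cent_comm_meet ht hx hr).symm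
  have hrule : S.space.PairRule u0 R := by
    have := pairRule_of_alone h ht ha
    rwa [inf_eq_left.2 hRle] at this
  have hstab : S.space.Stable R := by
    rintro _ ⟨r, hr, hrE, rfl⟩
    refine ⟨p' * r * p'⁻¹, ⟨S.conj_mem hpS hrE, T.conj_mem hpT hr.2⟩, S.conj_mem hpS hrE, ?_⟩
    rw [← S.cj_pr hpS hrE, hpcj]
  have hR1 : finrank (ZMod 2) R ≠ 1 := fun e => by
    have := S.space.even_finrank hstab
    rw [e] at this
    exact absurd this (by decide)
  have hR4 : Nat.card (S.meet T) ≤ 4 := by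
    rw [card_meet ht]
    calc 2 ^ finrank (ZMod 2) R ≤ 2 ^ 2 := Nat.pow_le_pow_right (by norm_num) hrule.finrank_le
      _ = 4 := rfl
  have hcomm : ∀ y ∈ T.cent S, p' * y * p'⁻¹ * y⁻¹ ∈ S.meet T := by
    intro y hy
    have hfix : ∀ v ∈ LinearMap.range (nMap u0), S.cj y v = v := fun v hv =>
      hrule.fix_range hR1 (isIso_cj h) (isIso_cj hy.2) (cj_comm_z h hy) (fix_meet hs hy) hv
        (move_meet hy ((vecs_cent_eq_of_lamZero h hl).symm ▸ Space.range_le_ker hinv hv))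
    have hyl : S.space.Lin (S.cj y) := (lin_or_semi hy.2).resolve_right fun hse => by
      obtain ⟨v, hv, hv0⟩ := Submodule.exists_mem_ne_zero_of_ne_bot
        (fun hb : LinearMap.range (nMap u0) = ⊥ => by rw [hb, finrank_bot] at h4; omega)
      exact hv0 (Space.semi_not_fix hse (hfix v hv) (hfix _ (hlin.stable_range v hv)))
    have hmem : p' * y * p'⁻¹ * y⁻¹ ∈ T.E :=
      mul_mem (T.conj_mem hpT hy.1) (inv_mem hy.1)
    refine ⟨mem_E_of_cj (mul_mem (mul_mem (mul_mem hpS hy.2) (inv_mem hpS)) (inv_mem hy.2))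
      fun v => ?_, hmem⟩
    rw [S.cj_mul (mul_mem (mul_mem hpS hy.2) (inv_mem hpS)) (inv_mem hy.2),
      S.cj_mul (mul_mem hpS hy.2) (inv_mem hpS), S.cj_mul hpS hy.2, hpcj, ← hyl, ← hpcj]
    have e1 : S.cj p' (S.cj p'⁻¹ (S.cj y⁻¹ v)) = S.cj y⁻¹ v := by
      rw [← S.cj_mul hpS (inv_mem hpS), mul_inv_cancel, cj_one]
    rw [e1, ← S.cj_mul hy.2 (inv_mem hy.2), mul_inv_cancel, cj_one]
  let φ : ↥(S.meet T) → ↥(S.meet T) := fun r =>
    ⟨p' * r * p'⁻¹ * (r : G)⁻¹, hcomm r ⟨r.2.2, S.E_le_H r.2.1⟩⟩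
  have hφ : Function.Surjective φ := by
    refine Finite.surjective_of_injective fun r s e => ?_
    have e' : p' * (r : G) * p'⁻¹ * (r : G)⁻¹ = p' * s * p'⁻¹ * (s : G)⁻¹ := congrArg Subtype.val e
    have hrs : (r : G) * (s : G)⁻¹ ∈ S.meet T := mul_mem r.2 (inv_mem s.2)
    have hsr : (s : G)⁻¹ * r = r * (s : G)⁻¹ :=
      cent_comm_meet ht (meet_le_cent (inv_mem s.2)) r.2
    have hfix : p' * ((r : G) * (s : G)⁻¹) * p'⁻¹ = r * (s : G)⁻¹ := by
      have h1 : p' * (r : G) * p'⁻¹ = p' * s * p'⁻¹ * ((s : G)⁻¹ * r) :=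
        (mul_inv_eq_iff_eq_mul.1 e').trans (mul_assoc _ _ _)
      have hc2 : p' * (s : G) * p'⁻¹ * (r * (s : G)⁻¹) = r * (s : G)⁻¹ * (p' * s * p'⁻¹) :=
        cent_comm_meet ht (meet_le_cent ⟨S.conj_mem hpS s.2.1, T.conj_mem hpT s.2.2⟩) hrs
      calc p' * ((r : G) * (s : G)⁻¹) * p'⁻¹ = p' * r * p'⁻¹ * (p' * s * p'⁻¹)⁻¹ := by group
        _ = p' * s * p'⁻¹ * (r * (s : G)⁻¹) * (p' * s * p'⁻¹)⁻¹ := by rw [h1, hsr]
        _ = _ := by rw [hc2]; group
    have hpr : S.pr ((r : G) * (s : G)⁻¹) = 0 := by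
      refine eq_zero_of_cj_p ?_
      rw [← space_om, ← hpcj, S.cj_pr hpS hrs.1, hfix]
    rcases (pr_eq_zero hrs.1).1 hpr with e1 | e1
    · exact Subtype.ext (mul_inv_eq_one.1 e1)
    · exact absurd (e1 ▸ hrs) (z_not_mem_meet ht)
  have hz : 2 ^ 8 ≤ Nat.card (T.cent S) := by
    refine two_pow_eight_le_card_cent (S := T) (T := S) h' (inner_of_seven_le h ?_)
    rw [vecs_cent_eq_of_lamZero h hl, h8]
    norm_num
  have hfac : ∀ y : ↥(T.cent S), ∃ r : ↥(S.meet T),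
      (r : G)⁻¹ * y ∈ T.E ⊓ Subgroup.centralizer ({p'} : Set G) := by
    intro y
    obtain ⟨r, hr⟩ := hφ ⟨_, hcomm y y.2⟩
    have e : p' * (r : G) * p'⁻¹ * (r : G)⁻¹ = p' * y * p'⁻¹ * (y : G)⁻¹ := congrArg Subtype.val hr
    refine ⟨r, T.E.mul_mem (T.E.inv_mem r.2.2) y.2.1, Subgroup.mem_centralizer_singleton_iff.2 ?_⟩
    refine (mul_inv_eq_iff_eq_mul.1 ?_).symm
    calc p' * ((r : G)⁻¹ * y) * p'⁻¹
        = (p' * (r : G) * p'⁻¹ * (r : G)⁻¹ * r)⁻¹ * (p' * y * p'⁻¹) := by group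
      _ = (p' * y * p'⁻¹ * (y : G)⁻¹ * r)⁻¹ * (p' * y * p'⁻¹) := by rw [e]
      _ = (r : G)⁻¹ * y := by group
  choose r hr using hfac
  let ψ : ↥(T.cent S) → ↥(S.meet T) × ↥(T.E ⊓ Subgroup.centralizer ({p'} : Set G)) :=
    fun y => (r y, ⟨_, hr y⟩)
  have hψ : Function.Injective ψ := fun a b e => by
    simp only [ψ, Prod.mk.injEq, Subtype.mk.injEq] at e
    refine Subtype.ext ?_
    have := e.2
    rw [e.1] at this
    exact mul_left_cancel this
  have h3 := T.card_fix_le hpT (by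
    rw [hp', show f * S.p * f⁻¹ = MulAut.conj f S.p from rfl, MulEquiv.orderOf_eq, S.p3])
  have hle := Nat.card_le_card_of_injective ψ hψ
  rw [Nat.card_prod] at hle
  have := hle.trans (Nat.mul_le_mul hR4 h3)
  omega

/-- An involution of a simple group has another conjugate commuting with it. -/
theorem exists_commuting_conj [Finite G] [IsSimpleGroup G] (hG : ¬ IsMulCommutative G) {z : G}
    (hz : orderOf z = 2) : ∃ g : G, g * z * g⁻¹ * z = z * (g * z * g⁻¹) ∧ g * z * g⁻¹ ≠ z := by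
  by_contra hcon
  push Not at hcon
  have hiso : Cfsg.IsIsolatedInvolution z := ⟨hz, fun g hc => hcon g hc.eq.symm⟩
  obtain ⟨N, hN, hodd, hc⟩ := ZStar.exists_oddNormal hiso
  rcases hN.eq_bot_or_eq_top with rfl | rfl
  · have hzc : z ∈ Subgroup.center G := Subgroup.mem_center_iff.2 fun g => by
      have h := Subgroup.mem_bot.1 (hc g)
      rw [mul_inv_eq_one, mul_inv_eq_iff_eq_mul] at h
      exact h.symm
    rcases (inferInstance : (Subgroup.center G).Normal).eq_bot_or_eq_top with h | h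
    · rw [h, Subgroup.mem_bot] at hzc
      rw [hzc, orderOf_one] at hz
      omega
    · exact hG ⟨⟨fun a b => (Subgroup.mem_center_iff.1 (h ▸ Subgroup.mem_top b :
        b ∈ Subgroup.center G) a)⟩⟩
  · rw [Subgroup.card_top] at hodd
    have h2 : 2 ∣ Nat.card G := hz ▸ orderOf_dvd_natCard z
    exact (Nat.not_even_iff_odd.2 hodd) (even_iff_two_dvd.2 h2)

/-- Some other conjugate of the involution lies in its extraspecial subgroup. -/
theorem exists_conj_mem_E [Finite G] [IsSimpleGroup G] (hG : ¬ IsMulCommutative G) (S : Shape G) :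
    ∃ g : G, g * S.z * g⁻¹ ∈ S.E ∧ g * S.z * g⁻¹ ≠ S.z := by
  by_contra hcon
  push Not at hcon
  obtain ⟨g, hgc, hgne⟩ := exists_commuting_conj hG S.sub.two
  have hh : (S.conj g).z ∈ S.H := S.mem_H.2 hgc
  have hh' : S.z ∈ (S.conj g).H := (S.conj g).mem_H.2 hgc.symm
  have hs : (S.conj g).z ∉ S.E := fun he => hgne (hcon g he)
  have hconj : ∀ x : G, x * (S.conj g).z * x⁻¹ = (x * g) * S.z * (x * g)⁻¹ := fun x => by
    rw [conj_z]; group
  have ha : (S.conj g).Alone := fun x hx => by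
    rw [mem_conj_E] at hx
    have e1 : g⁻¹ * (x * (S.conj g).z * x⁻¹) * g = (g⁻¹ * x * g) * S.z * (g⁻¹ * x * g)⁻¹ := by
      rw [conj_z]; group
    rw [e1] at hx
    have e2 := hcon _ hx
    calc x * (S.conj g).z * x⁻¹ = g * ((g⁻¹ * x * g) * S.z * (g⁻¹ * x * g)⁻¹) * g⁻¹ := by
          rw [conj_z]; group
      _ = (S.conj g).z := by rw [e2, conj_z]
  have ht : S.z ∉ (S.conj g).E := fun he => by
    rw [mem_conj_E] at he
    have e2 := hcon g⁻¹ (by simpa using he)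
    refine hgne ?_
    conv_rhs => rw [← show g * (g⁻¹ * S.z * g⁻¹⁻¹) * g⁻¹ = S.z by group, e2]
  by_cases hi : S.Inner (S.conj g).z
  · by_cases hl : LamZero S (S.conj g)
    · exact no_inner_plain hh hh' hs ht ha hi hl
    · exact no_inner_sign hh hh' hs ht ha hi hl
  · exact no_outer_pair hh hh' hs ht ha hi

end Shape

end CfsgLib.JFourType
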