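import Cfsg.Agent.JFourType.Inner
import Cfsg.Agent.Transfer.Abelian

/-!
# Ranks of the elements of the centralizer on `E / Z(E)`
-/

set_option autoImplicit false
set_option linter.style.haveILetI false

namespace CfsgLib.JFourType

open Cfsg CfsgLib.LargeExtraspecial Module

namespace Shape

variable {G : Type*} [Group G] (S : Shape G)

/-- The vectors of the elements of `X ∩ E`. -/
def vecs (X : Subgroup G) : Submodule (ZMod 2) S.Vec where
  carrier := {v | ∃ x ∈ X, x ∈ S.E ∧ S.pr x = v}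
  zero_mem' := ⟨1, one_mem _, one_mem _, pr_one⟩
  add_mem' := by
    rintro _ _ ⟨x, hx, hxE, rfl⟩ ⟨y, hy, hyE, rfl⟩
    exact ⟨x * y, mul_mem hx hy, mul_mem hxE hyE, pr_mul hxE hyE⟩
  smul_mem' := by
    rintro a v ⟨x, hx, hxE, rfl⟩
    rcases zmod2_cases a with rfl | rfl
    · exact ⟨1, one_mem _, one_mem _, by rw [pr_one, zero_smul]⟩
    · exact ⟨x, hx, hxE, by rw [one_smul]⟩

/-- The elements of `E` with vector in `W`. -/
def pre (W : Submodule (ZMod 2) S.Vec) : Subgroup G where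
  carrier := {x | x ∈ S.E ∧ S.pr x ∈ W}
  one_mem' := ⟨one_mem _, by rw [pr_one]; exact zero_mem _⟩
  mul_mem' := by
    rintro x y ⟨hx, hx'⟩ ⟨hy, hy'⟩
    exact ⟨mul_mem hx hy, by rw [pr_mul hx hy]; exact add_mem hx' hy'⟩
  inv_mem' := by
    rintro x ⟨hx, hx'⟩
    exact ⟨inv_mem hx, by rwa [pr_inv hx]⟩

variable {S}

theorem mem_pre {W : Submodule (ZMod 2) S.Vec} {x : G} :
    x ∈ S.pre W ↔ x ∈ S.E ∧ S.pr x ∈ W := Iff.rfl

theorem mem_vecs_of_mem {X : Subgroup G} {x : G} (hx : x ∈ X) (hE : x ∈ S.E) :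
    S.pr x ∈ S.vecs X := ⟨x, hx, hE, rfl⟩

theorem vecs_pre (W : Submodule (ZMod 2) S.Vec) : S.vecs (S.pre W) = W := by
  ext v
  constructor
  · rintro ⟨x, hx, -, rfl⟩
    exact hx.2
  · intro hv
    obtain ⟨x, hx, rfl⟩ := pr_surj v
    exact ⟨x, ⟨hx, hv⟩, hx, rfl⟩

theorem pre_le_E (W : Submodule (ZMod 2) S.Vec) : S.pre W ≤ S.E := fun _ h => h.1

theorem z_mem_pre (W : Submodule (ZMod 2) S.Vec) : S.z ∈ S.pre W :=
  ⟨S.sub.z_mem, by rw [pr_z]; exact zero_mem _⟩

/-- The number of elements of a subgroup of `E` against the dimension of its vectors. -/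
theorem card_mul_eq [Finite G] {X : Subgroup G} (hX : X ≤ S.E) :
    Nat.card X = Nat.card (↥(X ⊓ Subgroup.zpowers S.z)) *
      2 ^ finrank (ZMod 2) (S.vecs X) := by
  let f : ↥X →* Multiplicative ↥(S.vecs X) :=
    MonoidHom.mk' (fun a => Multiplicative.ofAdd ⟨S.pr a, mem_vecs_of_mem a.2 (hX a.2)⟩)
      fun a b => by
        rw [← ofAdd_add]
        exact congrArg Multiplicative.ofAdd (Subtype.ext (pr_mul (hX a.2) (hX b.2)))
  have hf : Function.Surjective f := fun v => by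
    obtain ⟨x, hx, -, e⟩ := (Multiplicative.toAdd v).2
    exact ⟨⟨x, hx⟩, congrArg Multiplicative.ofAdd (Subtype.ext e)⟩
  have hk : f.ker = (X ⊓ Subgroup.zpowers S.z).subgroupOf X := by
    ext a
    rw [MonoidHom.mem_ker, Subgroup.mem_subgroupOf, Subgroup.mem_inf]
    show Multiplicative.ofAdd (⟨_, mem_vecs_of_mem a.2 (hX a.2)⟩ : ↥(S.vecs X)) = 1 ↔ _
    rw [← ofAdd_zero, Multiplicative.ofAdd.apply_eq_iff_eq, Subtype.ext_iff]
    show S.pr (a : G) = 0 ↔ _
    rw [pr_eq_zero (hX a.2)]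
    constructor
    · rintro (e | e)
      · exact ⟨a.2, e ▸ one_mem _⟩
      · exact ⟨a.2, e ▸ Subgroup.mem_zpowers _⟩
    · exact fun h => mem_zpowers_two S.sub.two h.2
  have h3 := Subgroup.card_eq_card_quotient_mul_card_subgroup f.ker
  rw [Nat.card_congr (QuotientGroup.quotientKerEquivOfSurjective f hf).toEquiv,
    Nat.card_congr Multiplicative.toAdd, hk,
    Nat.card_congr (Subgroup.subgroupOfEquivOfLe inf_le_left).toEquiv,
    Module.natCard_eq_pow_finrank (K := ZMod 2) (V := ↥(S.vecs X)), Nat.card_zmod] at h3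
  rw [h3, mul_comm]

theorem card_of_z_mem [Finite G] {X : Subgroup G} (hX : X ≤ S.E) (hz : S.z ∈ X) :
    Nat.card X = 2 * 2 ^ finrank (ZMod 2) (S.vecs X) := by
  rw [card_mul_eq hX, inf_eq_right.2 (Subgroup.zpowers_le.2 hz), Nat.card_zpowers, S.sub.two]

theorem card_of_z_not_mem [Finite G] {X : Subgroup G} (hX : X ≤ S.E) (hz : S.z ∉ X) :
    Nat.card X = 2 ^ finrank (ZMod 2) (S.vecs X) := by
  have h : X ⊓ Subgroup.zpowers S.z = ⊥ := (Subgroup.eq_bot_iff_forall _).2 fun x hx =>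
    (mem_zpowers_two S.sub.two hx.2).resolve_right fun e => hz (e ▸ hx.1)
  rw [card_mul_eq hX, h, Subgroup.card_bot, one_mul]

theorem card_le_of_vecs [Finite G] {X : Subgroup G} (hX : X ≤ S.E) :
    Nat.card X ≤ 2 * 2 ^ finrank (ZMod 2) (S.vecs X) := by
  by_cases hz : S.z ∈ X
  · exact (card_of_z_mem hX hz).le
  · rw [card_of_z_not_mem hX hz]
    omega

theorem card_pre [Finite G] (W : Submodule (ZMod 2) S.Vec) :
    Nat.card (S.pre W) = 2 * 2 ^ finrank (ZMod 2) W := by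
  rw [card_of_z_mem (pre_le_E W) (z_mem_pre W), vecs_pre]

/-! ### Involutions on the module -/

/-- The dimension of the image of `m + 1`. -/
noncomputable def rk (S : Shape G) (m : G) : ℕ :=
  finrank (ZMod 2) (LinearMap.range (nMap (S.cj m)))

theorem rk_conj [Finite G] {g m : G} (hg : g ∈ S.H) (hm : m ∈ S.H) :
    S.rk (g * m * g⁻¹) = S.rk m := by
  have hgm := mul_mem hg hm
  have e : LinearMap.range (nMap (S.cj (g * m * g⁻¹))) =
      (LinearMap.range (nMap (S.cj m))).map (S.cj g).toLinearMap := by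
    refine le_antisymm ?_ ?_
    · rintro _ ⟨x, rfl⟩
      refine ⟨nMap (S.cj m) (S.cj g⁻¹ x), ⟨_, rfl⟩, ?_⟩
      show S.cj g (S.cj m (S.cj g⁻¹ x) + S.cj g⁻¹ x) = _
      rw [map_add, ← S.cj_mul hg hm, ← S.cj_mul hgm (inv_mem hg), ← S.cj_mul hg (inv_mem hg),
        mul_inv_cancel, cj_one]
      rfl
    · rintro _ ⟨_, ⟨x, rfl⟩, rfl⟩
      refine ⟨S.cj g x, ?_⟩
      show S.cj (g * m * g⁻¹) (S.cj g x) + S.cj g x = S.cj g (S.cj m x + x)
      rw [map_add, S.cj_mul hgm (inv_mem hg), S.cj_inv, S.cj_mul hg hm]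
  rw [rk, rk, e]
  exact LinearEquiv.finrank_map_eq (S.cj g) _

theorem rk_mul_E [Finite G] {e n : G} (he : e ∈ S.E) (hn : n ∈ S.H) : S.rk (e * n) = S.rk n := by
  rw [rk, rk, cj_mul_E he hn]

theorem bar_mul_E [Finite G] {e n : G} (he : e ∈ S.E) (hn : n ∈ S.H) (h : S.Inner n) :
    S.bar (e * n) = S.bar n := by
  rw [bar_mul (S.E_le_H he) hn (inner_E he) h, bar_E he, one_mul]

theorem C_bar_ne_one [Finite G] {c : G} (hc : c ∈ S.C) (hc2 : c * c ∈ S.E) (hne : c ∉ S.E) :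
    S.bar c ≠ 1 := fun h => by
  have h1 := eq_of_bar_eq (one_mem S.C) hc (by rw [bar_one, h]) (by simp) hc2
  rcases h1 with rfl | rfl
  · exact hne (one_mem _)
  · exact hne (by rw [mul_one]; exact S.sub.z_mem)

theorem bar_not_mem_E [Finite G] {c : G} (h : S.bar c ≠ 1) : c ∉ S.E := fun he => h (bar_E he)

/-- An inner element with square in `E` is one of `E` times such an element of `C`. -/
theorem exists_C_of_sq [Finite G] {m : G} (hm : m ∈ S.H) (hi : S.Inner m) (h2 : m * m ∈ S.E) :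
    ∃ e ∈ S.E, ∃ c ∈ S.C, m = e * c ∧ c * c ∈ S.E := by
  obtain ⟨e, he, c, hc, rfl⟩ := (inner_iff hm).1 hi
  refine ⟨e, he, c, hc, rfl, ?_⟩
  have hcH := S.C_le_H hc
  rw [show c * c = (c * e⁻¹ * c⁻¹) * (e⁻¹ * (e * c * (e * c))) by group]
  exact mul_mem (S.conj_mem hcH (inv_mem he)) (mul_mem (inv_mem he) h2)

theorem rk_ne_zero [Finite G] {m : G} (hm : m ∈ S.H) (h : m ∉ S.E) : S.rk m ≠ 0 := fun e =>
  cj_ne_refl hm h (Space.nMap_eq_zero_iff.1 (LinearMap.range_eq_bot.1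
    (Submodule.finrank_eq_zero.1 e)))

theorem rk_C_uniform [Finite G] {c d : G} (hc : c ∈ S.C) (hd : d ∈ S.C) (hc2 : c * c ∈ S.E)
    (hd2 : d * d ∈ S.E) (hc1 : S.bar c ≠ 1) (hd1 : S.bar d ≠ 1) : S.rk c = S.rk d := by
  have hord : ∀ x ∈ S.C, x * x ∈ S.E → S.bar x ≠ 1 → orderOf (S.bar x) = 2 := fun x hx h2 h1 => by
    refine orderOf_eq_prime ?_ h1
    rw [pow_two, ← bar_mul (S.C_le_H hx) (S.C_le_H hx) (inner_of_C hx) (inner_of_C hx), bar_E h2]
  obtain ⟨a, ha⟩ := isConj_iff.1 (isConj_involutions (hord c hc hc2 hc1) (hord d hd hd2 hd1))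
  obtain ⟨g, hg, hga⟩ := exists_bar (S := S) a
  have hgH := S.C_le_H hg
  have hc' : g * c * g⁻¹ ∈ S.C := mul_mem (mul_mem hg hc) (inv_mem hg)
  have hsq : g * c * g⁻¹ * (g * c * g⁻¹) ∈ S.E := by
    rw [show g * c * g⁻¹ * (g * c * g⁻¹) = g * (c * c) * g⁻¹ by group]
    exact S.conj_mem hgH hc2
  have hb : S.bar (g * c * g⁻¹) = S.bar d := by
    rw [bar_mul (mul_mem hgH (S.C_le_H hc)) (inv_mem hgH) (inner_of_C (mul_mem hg hc))
      (inner_of_C (inv_mem hg)), bar_mul hgH (S.C_le_H hc) (inner_of_C hg) (inner_of_C hc),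
      bar_inv hg, hga, ha]
  rw [← rk_conj hgH (S.C_le_H hc)]
  rcases eq_of_bar_eq hc' hd hb hsq hd2 with e | e
  · rw [e]
  · rw [e, rk_mul_E S.sub.z_mem (S.C_le_H hc')]

theorem even_rk [Finite G] {m : G} (hm : m ∈ S.H) (hi : S.Inner m) : Even (S.rk m) :=
  S.space.even_finrank (lin_of_inner hm hi).stable_range

theorem range_sq_le [Finite G] {m : G} (hm : m ∈ S.H) :
    LinearMap.range (nMap (S.cj (m * m))) ≤ LinearMap.range (nMap (S.cj m)) := by
  rintro _ ⟨x, rfl⟩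
  refine ⟨nMap (S.cj m) x, ?_⟩
  simp only [nMap_apply, map_add, S.cj_mul hm hm]
  rw [add_assoc, ← add_assoc (S.cj m x) (S.cj m x), v_add_self, zero_add]

/-- An inner involution of the image has rank four. -/
theorem rk_eq_four [Finite G] {m : G} (hm : m ∈ S.H) (hi : S.Inner m) (h2 : m * m ∈ S.E)
    (hne : m ∉ S.E) : S.rk m = 4 := by
  obtain ⟨e, he, c, hc, rfl, hc2⟩ := exists_C_of_sq hm hi h2
  rw [rk_mul_E he (S.C_le_H hc)]
  have hcE : c ∉ S.E := fun h => hne (mul_mem he h)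
  have hc1 := C_bar_ne_one hc hc2 hcE
  have hne0 : S.rk c ≠ 0 := rk_ne_zero (S.C_le_H hc) hcE
  have hne2 : S.rk c ≠ 2 := by
    intro h
    obtain ⟨a, b, ha, hb, hab, ha1, hb1, hab1⟩ := exists_four_group
    obtain ⟨x, hx, hxa, hx2⟩ := exists_lift_sq (S := S) ha
    obtain ⟨y, hy, hyb, hy2⟩ := exists_lift_sq (S := S) hb
    have hxH := S.C_le_H hx
    have hyH := S.C_le_H hy
    have hcxy : ∀ v, S.cj x (S.cj y v) = S.cj y (S.cj x v) := by
      have hsq : (x * y * x⁻¹) * (x * y * x⁻¹) ∈ S.E := by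
        rw [show (x * y * x⁻¹) * (x * y * x⁻¹) = x * (y * y) * x⁻¹ by group]
        exact S.conj_mem hxH hy2
      have hb' : S.bar y = S.bar (x * y * x⁻¹) := by
        rw [bar_mul (mul_mem hxH hyH) (inv_mem hxH) (inner_of_C (mul_mem hx hy))
          (inner_of_C (inv_mem hx)), bar_mul hxH hyH (inner_of_C hx) (inner_of_C hy),
          bar_inv hx, hxa, hyb, hab, mul_inv_cancel_right]
      intro v
      rcases eq_of_bar_eq hy (mul_mem (mul_mem hx hy) (inv_mem hx)) hb' hy2 hsq with e | e <;>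
        rw [← S.cj_mul hxH hyH, mul_inv_eq_iff_eq_mul.1 e]
      · exact S.cj_mul hyH hxH v
      · rw [S.cj_mul (mul_mem S.z_mem_H hyH) hxH, S.cj_mul S.z_mem_H hyH, S.cj_z]
    have hxy2 : x * y * (x * y) ∈ S.E := by
      refine mem_E_of_cj (mul_mem (mul_mem hxH hyH) (mul_mem hxH hyH)) fun v => ?_
      rw [S.cj_mul (mul_mem hxH hyH) (mul_mem hxH hyH), S.cj_mul hxH hyH, S.cj_mul hxH hyH,
        ← hcxy (S.cj y v), cj_sq hxH hx2, cj_sq hyH hy2]
    have hxyb : S.bar (x * y) = a * b := by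
      rw [bar_mul hxH hyH (inner_of_C hx) (inner_of_C hy), hxa, hyb]
    have e1 : S.cj (x * y) = (S.cj y).trans (S.cj x) := LinearEquiv.ext fun v => S.cj_mul hxH hyH v
    have r : ∀ d, d ∈ S.C → d * d ∈ S.E → S.bar d ≠ 1 →
        finrank (ZMod 2) (LinearMap.range (nMap (S.cj d))) = 2 := fun d hd hd2 hd1 =>
      (rk_C_uniform hd hc hd2 hc2 hd1 hc1).trans h
    have := Space.no_transvection_pair (isIso_cj hxH) (isIso_cj hyH) (lin_of_C hx) (lin_of_C hy)
      (cj_sq hxH hx2) (cj_sq hyH hy2) hcxy (r x hx hx2 (hxa ▸ ha1)) (r y hy hy2 (hyb ▸ hb1))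
      (e1 ▸ r (x * y) (mul_mem hx hy) hxy2 (hxyb ▸ hab1))
    have hxy := inv_mul_mem_E_of_cj hxH hyH this
    have : a = b := by
      rw [← hxa, ← hyb]
      have e3 : S.bar (x⁻¹ * y) = 1 := bar_E hxy
      rw [bar_mul (inv_mem hxH) hyH (inner_of_C (inv_mem hx)) (inner_of_C hy), bar_inv hx] at e3
      exact inv_mul_eq_one.1 e3
    exact hab1 (this ▸ hb)
  have hle : S.rk c ≤ 4 := by
    obtain ⟨a, ha⟩ := exists_order_four
    obtain ⟨x, hx, hxa⟩ := exists_bar (S := S) a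
    set w := x ^ 3 with hw
    have hwC : w ∈ S.C := pow_mem hx 3
    have hwa : S.bar w = a ^ 3 := by rw [bar_pow hx, hxa]
    have hw4 : w ^ 4 ∈ S.E := by
      have h1 : S.piv (x ^ 4) = 1 := by
        rw [← bar_eq_one_iff (inner_of_C (pow_mem hx 4)), bar_pow hx, hxa, ← ha, pow_orderOf_eq_one]
      rw [hw, ← pow_mul, mul_comm, pow_mul]
      obtain ⟨k, -, hk | hk⟩ := eq_of_piv_eq_one (pow_mem hx 4) h1 <;> rw [hk]
      · rw [← pow_mul, mul_comm, pow_mul, S.p_pow_three, one_pow]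
        exact one_mem _
      · rw [((show Commute S.p S.z from S.p_comm).symm.pow_right k).mul_pow, ← pow_mul, mul_comm k,
          pow_mul, S.p_pow_three, one_pow, mul_one]
        exact pow_mem S.sub.z_mem 3
    have hwH := S.C_le_H hwC
    have h4 : ∀ v, S.cj w (S.cj w (S.cj w (S.cj w v))) = v := fun v => by
      have := S.cj_pow hwH 4 v
      rw [S.cj_E hw4] at this
      exact this.symm
    have hne : S.bar (w * w) ≠ 1 := by
      rw [← pow_two, bar_pow hwC, hwa, ← pow_mul]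
      intro e
      have := orderOf_dvd_of_pow_eq_one e
      rw [ha] at this
      omega
    have hww : w * w * (w * w) ∈ S.E := by
      rwa [show w * w * (w * w) = w ^ 4 by rw [← pow_two, ← pow_two, ← pow_mul]]
    rw [rk_C_uniform hc (mul_mem hwC hwC) hc2 hww hc1 hne]
    have e : S.cj (w * w) = (S.cj w).trans (S.cj w) := LinearEquiv.ext fun v => S.cj_mul hwH hwH v
    rw [rk, e]
    exact Space.finrank_range_sq_le (lin_of_C hwC) h4
  obtain ⟨k, hk⟩ := even_rk (S.C_le_H hc) (inner_of_C hc)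
  omega

/-- A nontrivial inner 2-element of the image has rank more than two. -/
theorem two_lt_rk [Finite G] {m : G} (hm : m ∈ S.H) (hi : S.Inner m) (hne : m ∉ S.E)
    (h : ∃ k : ℕ, m ^ 2 ^ k ∈ S.E) : 2 < S.rk m := by
  obtain ⟨k, hk⟩ := h
  induction k generalizing m with
  | zero => exact absurd (by simpa using hk) hne
  | succ k ih =>
    by_cases h2 : m * m ∈ S.E
    · rw [rk_eq_four hm hi h2 hne]
      norm_num
    · refine lt_of_lt_of_le (ih (mul_mem hm hm) (inner_mul hm hm hi hi) h2 ?_)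
        (Submodule.finrank_mono (range_sq_le hm))
      rwa [← pow_two, ← pow_mul, ← pow_succ']

/-- An outer element with square in `E` fixes six dimensions. -/
theorem finrank_ker_outer [Finite G] {m : G} (hm : m ∈ S.H) (ho : ¬ S.Inner m) (h2 : m * m ∈ S.E) :
    finrank (ZMod 2) (LinearMap.ker (nMap (S.cj m))) = 6 :=
  (semi_of_outer hm ho).finrank_ker (cj_sq hm h2)

theorem finrank_ker_inner [Finite G] {m : G} (hm : m ∈ S.H) (hi : S.Inner m) (h2 : m * m ∈ S.E)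
    (hne : m ∉ S.E) : finrank (ZMod 2) (LinearMap.ker (nMap (S.cj m))) = 8 := by
  have := (nMap (S.cj m)).finrank_range_add_finrank_ker
  have h4 := rk_eq_four hm hi h2 hne
  rw [rk] at h4
  rw [h4, S.space.dim] at this
  omega

end Shape

end CfsgLib.JFourType
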