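import Cfsg.Agent.JFourType.Rank

/-!
# Elements of order three of the centralizer

The element `p` lies in the derived group of `C`, so by transfer the lifts of two independent
commuting elements of order three of `M22` do not commute; hence an element of order three of
`C(z)` fixes at most `2 ^ 5` elements of `E`.
-/

set_option autoImplicit false
set_option linter.style.haveILetI false

namespace CfsgLib.JFourType

open Cfsg CfsgLib.LargeExtraspecial Module

theorem exists_commuting_three {a : M22g} (ha : orderOf a = 3) :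
    ∃ b : M22g, orderOf b = 3 ∧ b * a = a * b ∧ b ∉ Subgroup.zpowers a := by
  have : Fact (Nat.Prime 3) := ⟨Nat.prime_three⟩
  have hord : ∀ u ∈ threeSylow, u ≠ 1 → orderOf u = 3 := fun u hu h1 =>
    orderOf_eq_prime (threeSylow_elementary hu).1 h1
  obtain ⟨u, hu, hu1⟩ : ∃ u ∈ threeSylow, u ≠ 1 := by
    by_contra hcon
    push Not at hcon
    have h := (Subgroup.eq_bot_iff_forall _).2 hcon
    have := card_threeSylow
    rw [h, Subgroup.card_bot] at this
    omega
  obtain ⟨v, hv, hvu⟩ : ∃ v ∈ threeSylow, v ∉ Subgroup.zpowers u := by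
    by_contra hcon
    push Not at hcon
    have h := Subgroup.card_le_of_le (show threeSylow ≤ Subgroup.zpowers u from hcon)
    rw [card_threeSylow, Nat.card_zpowers, hord u hu hu1] at h
    omega
  obtain ⟨c, hc⟩ := isConj_iff.1 (isConj_three (hord u hu hu1) ha)
  refine ⟨c * v * c⁻¹, ?_, ?_, ?_⟩
  · rw [show c * v * c⁻¹ = MulAut.conj c v from rfl, MulEquiv.orderOf_eq]
    exact hord v hv fun e => hvu (e ▸ one_mem _)
  · rw [← hc, show c * v * c⁻¹ * (c * u * c⁻¹) = c * (v * u) * c⁻¹ by group,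
      show c * u * c⁻¹ * (c * v * c⁻¹) = c * (u * v) * c⁻¹ by group,
      (threeSylow_elementary hu).2 v hv]
  · rintro ⟨k, hk⟩
    refine hvu ⟨k, ?_⟩
    rw [← hc] at hk
    simp only [conj_zpow] at hk
    exact mul_left_cancel (mul_right_cancel hk)

namespace Shape

variable {G : Type*} [Group G] {S : Shape G}

theorem bar_conj [Finite G] {g x : G} (hg : g ∈ S.C) (hx : x ∈ S.C) :
    S.bar (g * x * g⁻¹) = S.bar g * S.bar x * (S.bar g)⁻¹ := by
  rw [bar_mul (S.C_le_H (mul_mem hg hx)) (S.C_le_H (inv_mem hg)) (inner_of_C (mul_mem hg hx))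
    (inner_of_C (inv_mem hg)), bar_mul (S.C_le_H hg) (S.C_le_H hx) (inner_of_C hg) (inner_of_C hx),
    bar_inv hg]

/-- Transfer: lifts of independent elements of order three do not commute. -/
theorem not_commute_of_three [Finite G] {a b : G} (ha : a ∈ S.C) (hb : b ∈ S.C)
    (ha3 : orderOf (S.bar a) = 3) (hb3 : orderOf (S.bar b) = 3)
    (hind : S.bar b ∉ Subgroup.zpowers (S.bar a)) : a * b ≠ b * a := by
  intro hab
  have : Fact (Nat.Prime 3) := ⟨Nat.prime_three⟩
  let a' : ↥S.C := ⟨a, ha⟩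
  let b' : ↥S.C := ⟨b, hb⟩
  let p' : ↥S.C := ⟨S.p, S.p_mem_C⟩
  let z' : ↥S.C := ⟨S.z, S.z_mem_C⟩
  let K : Subgroup ↥S.C := Subgroup.closure {a', b', p', z'}
  haveI hK : IsMulCommutative K := by
    refine Subgroup.isMulCommutative_closure fun x hx y hy => ?_
    have hp : ∀ u : ↥S.C, u * p' = p' * u := fun u => Subtype.ext (S.mem_C.1 u.2).2
    have hz : ∀ u : ↥S.C, u * z' = z' * u := fun u => Subtype.ext (S.mem_C.1 u.2).1
    have hab' : a' * b' = b' * a' := Subtype.ext hab
    rcases hx with rfl | rfl | rfl | rfl <;> rcases hy with rfl | rfl | rfl | rfl <;>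
      first
        | rfl | exact hab' | exact hab'.symm | exact hp _ | exact (hp _).symm | exact hz _
        | exact (hz _).symm
  have hker : S.barC.ker ≤ K := by
    rintro ⟨c, hc⟩ hcK
    obtain ⟨k, -, e | e⟩ := eq_of_piv_eq_one hc ((bar_eq_one_iff (inner_of_C hc)).1 hcK)
    · rw [show (⟨c, hc⟩ : ↥S.C) = p' ^ k from Subtype.ext (by simpa [p'] using e)]
      exact pow_mem (Subgroup.subset_closure (by simp)) k
    · rw [show (⟨c, hc⟩ : ↥S.C) = z' * p' ^ k from Subtype.ext (by simpa [p', z'] using e)]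
      exact mul_mem (Subgroup.subset_closure (by simp))
        (pow_mem (Subgroup.subset_closure (by simp)) k)
  let Q : Subgroup M22g := Subgroup.closure {S.bar a, S.bar b}
  haveI hQ : IsMulCommutative Q := by
    refine Subgroup.isMulCommutative_closure fun x hx y hy => ?_
    have hab' : S.bar a * S.bar b = S.bar b * S.bar a := by
      rw [← bar_mul (S.C_le_H ha) (S.C_le_H hb) (inner_of_C ha) (inner_of_C hb), hab,
        bar_mul (S.C_le_H hb) (S.C_le_H ha) (inner_of_C hb) (inner_of_C ha)]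
    rcases hx with rfl | rfl <;> rcases hy with rfl | rfl <;>
      first | rfl | exact hab' | exact hab'.symm
  have h9 : 9 ∣ Nat.card (K.map S.barC) := by
    have hle : Q ≤ K.map S.barC := by
      refine (Subgroup.closure_le _).2 ?_
      rintro x (rfl | rfl)
      · exact ⟨a', Subgroup.subset_closure (by simp), rfl⟩
      · exact ⟨b', Subgroup.subset_closure (by simp), rfl⟩
    refine dvd_trans ?_ (Subgroup.card_dvd_of_le hle)
    have haQ : S.bar a ∈ Q := Subgroup.subset_closure (by simp)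
    have hbQ : S.bar b ∈ Q := Subgroup.subset_closure (by simp)
    have hlt : Subgroup.zpowers (S.bar a) ≤ Q := Subgroup.zpowers_le.2 haQ
    have h3 : 3 ∣ Nat.card Q := by
      rw [← ha3, ← Nat.card_zpowers]
      exact Subgroup.card_dvd_of_le hlt
    have hP : IsPGroup 3 Q := by
      intro x
      refine ⟨1, Subtype.ext ?_⟩
      have : ∀ y ∈ Q, y ^ 3 = 1 := by
        intro y hy
        induction hy using Subgroup.closure_induction with
        | mem y hy =>
          rcases hy with rfl | rfl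
          · rw [← ha3]; exact pow_orderOf_eq_one _
          · rw [← hb3]; exact pow_orderOf_eq_one _
        | one => simp
        | mul y w hy hw e e' =>
          rw [Commute.mul_pow, e, e', one_mul]
          exact (congrArg Subtype.val (mul_comm' (⟨y, hy⟩ : Q) ⟨w, hw⟩) :)
        | inv y hy e => rw [inv_pow, e, inv_one]
      simpa using this x.1 x.2
    obtain ⟨n, hn⟩ := IsPGroup.iff_card.1 hP
    have hn2 : 2 ≤ n := by
      by_contra hlt2
      have h1 : Nat.card Q ≤ 3 := by
        rw [hn]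
        exact le_trans (Nat.pow_le_pow_right (by norm_num) (show n ≤ 1 by omega)) (le_of_eq (pow_one 3))
      have := Subgroup.eq_of_le_of_card_ge hlt (by rw [Nat.card_zpowers, ha3]; exact h1)
      exact hind (this ▸ hbQ)
    rw [hn]
    exact dvd_trans (by norm_num : 9 ∣ 3 ^ 2) (pow_dvd_pow 3 hn2)
  have hidx : ¬ 3 ∣ K.index := by
    have e : (K.map S.barC).index = K.index :=
      K.index_map_eq (fun y => barC_surj y) hker
    have h := (K.map S.barC).card_mul_index
    rw [Mathieu.card_SporM22] at h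
    rw [← e]
    intro h3
    have := mul_dvd_mul h9 h3
    rw [h] at this
    omega
  have hkey : ∀ (k : ℕ) (g₀ : ↥S.C), g₀⁻¹ * p' ^ k * g₀ ∈ K → g₀⁻¹ * p' ^ k * g₀ = p' ^ k :=
    fun k g₀ _ => by
      have hc : Commute g₀ p' := Subtype.ext (S.mem_C.1 g₀.2).2
      rw [mul_assoc, ← (hc.pow_right k).eq, inv_mul_cancel_left]
  open scoped IsMulCommutative in
  have h1 := MonoidHom.transfer_eq_pow (MonoidHom.id K) p' hkey
  have hder : p' ∈ commutator ↥S.C := by
    have hCeq : S.C = Subgroup.centralizer ({S.z} : Set G) ⊓ Subgroup.centralizer ({S.p} : Set G) := rfl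
    have hd := S.derived
    rw [← hCeq, ← Subgroup.map_subtype_commutator] at hd
    obtain ⟨q, hq, e⟩ := hd
    exact (Subtype.ext e : q = p') ▸ hq
  rw [Abelianization.commutator_subset_ker _ hder] at h1
  have h2 : p' ^ K.index = 1 := (congrArg Subtype.val h1).symm
  have h3 : S.p ^ K.index = 1 := congrArg Subtype.val h2
  have h4 := orderOf_dvd_of_pow_eq_one h3
  rw [S.p3] at h4
  exact hidx h4

/-- Lifts of an element of order three are conjugate modulo `⟨z⟩` to their products with `p`. -/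
theorem exists_conj_mul_p [Finite G] {x : G} (hx : x ∈ S.C) (h3 : orderOf (S.bar x) = 3) :
    ∃ y ∈ S.C, ∃ k : ℕ, (k = 1 ∨ k = 2) ∧
      (y * x * y⁻¹ = x * S.p ^ k ∨ y * x * y⁻¹ = S.z * (x * S.p ^ k)) := by
  obtain ⟨b, hb3, hba, hind⟩ := exists_commuting_three h3
  obtain ⟨y, hy, hyb⟩ := exists_bar (S := S) b
  refine ⟨y, hy, ?_⟩
  have h1 : S.piv (x⁻¹ * (y * x * y⁻¹)) = 1 := by
    rw [← bar_eq_one_iff (inner_of_C (mul_mem (inv_mem hx) (mul_mem (mul_mem hy hx) (inv_mem hy))))]
    rw [bar_mul (S.C_le_H (inv_mem hx)) (S.C_le_H (mul_mem (mul_mem hy hx) (inv_mem hy)))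
      (inner_of_C (inv_mem hx)) (inner_of_C (mul_mem (mul_mem hy hx) (inv_mem hy))), bar_inv hx,
      bar_conj hy hx, hyb, hba, mul_inv_cancel_right, inv_mul_cancel]
  have hxp : Commute x S.p := (S.mem_C.1 hx).2
  have hxz : Commute x S.z := (S.mem_C.1 hx).1
  obtain ⟨k, hk, e⟩ := eq_of_piv_eq_one
    (mul_mem (inv_mem hx) (mul_mem (mul_mem hy hx) (inv_mem hy))) h1
  have e' : y * x * y⁻¹ = x * S.p ^ k ∨ y * x * y⁻¹ = S.z * (x * S.p ^ k) :=
    e.imp (fun e => inv_mul_eq_iff_eq_mul.1 e) fun e => by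
      rw [inv_mul_eq_iff_eq_mul.1 e, ← mul_assoc, hxz.eq, mul_assoc]
  refine ⟨k, ?_, e'⟩
  by_contra hk0
  obtain rfl : k = 0 := by omega
  simp only [pow_zero, mul_one] at e'
  have hxx : x * x * y = y * (x * x) := by
    have hc : y * (x * x) * y⁻¹ = x * x := by
      rw [show y * (x * x) * y⁻¹ = (y * x * y⁻¹) * (y * x * y⁻¹) by group]
      rcases e' with e' | e' <;> rw [e']
      rw [show S.z * x * (S.z * x) = S.z * (x * S.z) * x by group, hxz.eq, ← mul_assoc, S.z_mul_z,
        one_mul]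
    exact (mul_inv_eq_iff_eq_mul.1 hc).symm
  refine not_commute_of_three (mul_mem hx hx) hy ?_ (hyb ▸ hb3) ?_ hxx
  · rw [← pow_two, bar_pow hx, Nat.Coprime.orderOf_pow (by rw [h3]; norm_num), h3]
  · rw [← pow_two, bar_pow hx, hyb]
    intro h
    exact hind (Subgroup.zpowers_le.2 (pow_mem (Subgroup.mem_zpowers _) 2) h)

/-- The vectors fixed by a lift of an element of order three. -/
theorem finrank_fix_le [Finite G] {x : G} (hx : x ∈ S.C) (h3 : orderOf (S.bar x) = 3) :
    finrank (ZMod 2) (LinearMap.ker (nMap (S.cj x))) ≤ 4 := by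
  obtain ⟨y, hy, k, hk, hyx⟩ := exists_conj_mul_p hx h3
  have hxH := S.C_le_H hx
  have hyH := S.C_le_H hy
  have hact : ∀ v, S.cj (y * x * y⁻¹) v = S.cj x (S.cj (S.p ^ k) v) := fun v => by
    rcases hyx with e | e <;> rw [e]
    · exact S.cj_mul hxH (S.p_pow_mem k) v
    · rw [S.cj_mul S.z_mem_H (mul_mem hxH (S.p_pow_mem k)), S.cj_z]
      exact S.cj_mul hxH (S.p_pow_mem k) v
  let T : ℕ → S.Vec ≃ₗ[ZMod 2] S.Vec := fun j => S.cj (x * S.p ^ j)
  have hT : ∀ j v, T j v = S.cj x (S.cj (S.p ^ j) v) := fun j v =>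
    S.cj_mul hxH (S.p_pow_mem j) v
  have hmap : ∀ j, (LinearMap.ker (nMap (T j))).map (S.cj y).toLinearMap =
      LinearMap.ker (nMap (T (j + k))) := by
    intro j
    have hconj : ∀ v, T (j + k) (S.cj y v) = S.cj y (T j v) := fun v => by
      have hyp : y * S.p ^ j = S.p ^ j * y :=
        ((show Commute y S.p from (S.mem_C.1 hy).2).pow_right j).eq
      rw [hT, hT, add_comm j k, pow_add, S.cj_mul (S.p_pow_mem k) (S.p_pow_mem j), ← hact,
        ← S.cj_mul (S.p_pow_mem j) hyH, ← hyp, S.cj_mul hyH (S.p_pow_mem j),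
        ← S.cj_mul hyH hxH, ← S.cj_mul (mul_mem (mul_mem hyH hxH) (inv_mem hyH)) hyH,
        inv_mul_cancel_right]
    refine le_antisymm ?_ fun w hw => ?_
    · rintro _ ⟨v, hv, rfl⟩
      rw [SetLike.mem_coe, mem_ker_nMap] at hv
      rw [mem_ker_nMap]
      exact (hconj v).trans (congrArg _ hv)
    · refine ⟨(S.cj y).symm w, ?_, (S.cj y).apply_symm_apply w⟩
      rw [mem_ker_nMap] at hw
      rw [SetLike.mem_coe, mem_ker_nMap]
      refine (S.cj y).injective ?_
      rw [← hconj, LinearEquiv.apply_symm_apply, hw]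
  have hT3 : ∀ j v, T (j + 3) v = T j v := fun j v => by
    rw [hT, hT, pow_add, S.p_pow_three, mul_one]
  have hdim : ∀ j, finrank (ZMod 2) (LinearMap.ker (nMap (T (j + k)))) =
      finrank (ZMod 2) (LinearMap.ker (nMap (T j))) := fun j => by
    rw [← hmap]
    exact LinearEquiv.finrank_map_eq (S.cj y) _
  have hT4 : T 4 = T 1 := LinearEquiv.ext (hT3 1)
  have d1 : finrank (ZMod 2) (LinearMap.ker (nMap (T 1))) =
      finrank (ZMod 2) (LinearMap.ker (nMap (T 0))) ∧
      finrank (ZMod 2) (LinearMap.ker (nMap (T 2))) =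
      finrank (ZMod 2) (LinearMap.ker (nMap (T 0))) := by
    rcases hk with rfl | rfl
    · exact ⟨hdim 0, (hdim 1).trans (hdim 0)⟩
    · refine ⟨?_, hdim 0⟩
      have := hdim 2
      rw [show (2 : ℕ) + 2 = 4 from rfl, hT4] at this
      exact this.trans (hdim 0)
  have hx0 : S.cj x = T 0 := LinearEquiv.ext fun v => by rw [hT, pow_zero, cj_one]
  rw [hx0]
  set F0 := LinearMap.ker (nMap (T 0)) with hF0
  set F1 := LinearMap.ker (nMap (T 1)) with hF1
  set F2 := LinearMap.ker (nMap (T 2)) with hF2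
  have m0 : ∀ v, v ∈ F0 ↔ S.cj x v = v := fun v => by
    rw [hF0, mem_ker_nMap, ← hx0]
  have hcom := cj_commute_p hx
  have m1 : ∀ v, v ∈ F1 ↔ S.space.om (S.cj x v) = v := fun v => by
    rw [hF1, mem_ker_nMap, hT, pow_one, ← space_om, hcom]
  have m2 : ∀ v, v ∈ F2 ↔ S.space.om (S.space.om (S.cj x v)) = v := fun v => by
    rw [hF2, mem_ker_nMap, hT, pow_two, S.cj_mul S.p_mem_H S.p_mem_H, ← space_om, ← space_om,
      hcom, hcom]
  have h12 : F1 ⊓ F2 = ⊥ := (Submodule.eq_bot_iff _).2 fun v ⟨a, b⟩ => by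
    rw [SetLike.mem_coe, m1] at a
    rw [SetLike.mem_coe, m2, a] at b
    by_contra hv
    exact S.space.om_ne hv b
  have h012 : F0 ⊓ (F1 ⊔ F2) = ⊥ := (Submodule.eq_bot_iff _).2 fun v ⟨a, b⟩ => by
    obtain ⟨u, hu, w, hw, rfl⟩ := Submodule.mem_sup.1 b
    rw [SetLike.mem_coe, m0, map_add] at a
    rw [m1] at hu
    rw [m2] at hw
    have xu : S.cj x u = S.space.om (S.space.om u) := by
      conv_rhs => rw [← hu, S.space.om_cube]
    have xw : S.cj x w = S.space.om w := by
      conv_rhs => rw [← hw, S.space.om_cube]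
    have hv : S.cj x (u + w) = u + w := by rw [map_add]; exact a
    rw [xu, xw, S.space.om_om] at a
    have e : S.space.om (u + w) = w := by
      rw [map_add]
      refine add_left_cancel (a := u) ?_
      rw [← a]
      abel
    have hw1 : S.cj x w = w := by rw [← e, hcom, hv]
    rw [xw] at hw1
    have hw0 : w = 0 := by
      by_contra hne
      exact S.space.om_ne hne hw1
    rw [hw0] at e ⊢
    exact S.space.om.map_eq_zero_iff.1 e
  have s1 := Submodule.finrank_sup_add_finrank_inf_eq F1 F2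
  rw [h12, finrank_bot] at s1
  have s2 := Submodule.finrank_sup_add_finrank_inf_eq F0 (F1 ⊔ F2)
  rw [h012, finrank_bot] at s2
  have hle := (F0 ⊔ (F1 ⊔ F2)).finrank_le
  rw [S.space.dim] at hle
  omega

/-- An element of order three fixes at most `2 ^ 5` elements of `E`. -/
theorem card_fix_le [Finite G] {m : G} (hm : m ∈ S.H) (h3 : orderOf m = 3) :
    Nat.card ↥(S.E ⊓ Subgroup.centralizer ({m} : Set G)) ≤ 32 := by
  refine (card_le_of_vecs inf_le_left).trans ?_
  suffices h : finrank (ZMod 2) (S.vecs (S.E ⊓ Subgroup.centralizer ({m} : Set G))) ≤ 4 by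
    calc 2 * 2 ^ _ ≤ 2 * 2 ^ 4 := Nat.mul_le_mul_left _ (Nat.pow_le_pow_right (by norm_num) h)
      _ = 32 := by norm_num
  have hi : S.Inner m := inner_of_odd hm (by rw [h3]; decide)
  have hsub : S.vecs (S.E ⊓ Subgroup.centralizer ({m} : Set G)) ≤
      LinearMap.ker (nMap (S.cj m)) := by
    rintro _ ⟨x, hx, hxE, rfl⟩
    rw [mem_ker_nMap, S.cj_pr hm hxE]
    rw [mul_inv_eq_iff_eq_mul.2 (Subgroup.mem_centralizer_singleton_iff.1 hx.2).symm]
  refine (Submodule.finrank_mono hsub).trans ?_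
  obtain ⟨e, he, c, hc, rfl⟩ := (inner_iff hm).1 hi
  rw [cj_mul_E he (S.C_le_H hc)]
  have hb3 : S.bar c ^ 3 = 1 := by
    rw [← bar_mul_E he (S.C_le_H hc) (inner_of_C hc)]
    refine conj_injective_M22g ?_
    rw [map_pow, conj_bar hi, ← piv_pow hm, ← h3, pow_orderOf_eq_one, piv_one, map_one]
  by_cases h1 : S.bar c = 1
  · obtain ⟨k, hk, hck⟩ := eq_of_piv_eq_one hc ((bar_eq_one_iff (inner_of_C hc)).1 h1)
    have hcj : ∀ v, S.cj c v = S.cj (S.p ^ k) v := fun v => by
      rcases hck with e1 | e1 <;> rw [e1]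
      rw [S.cj_mul S.z_mem_H (S.p_pow_mem k), S.cj_z]
    have hk0 : k ≠ 0 := by
      rintro rfl
      have hcE : c ∈ S.E := mem_E_of_cj (S.C_le_H hc) fun v => by rw [hcj, pow_zero, cj_one]
      have hmE : e * c ∈ S.E := mul_mem he hcE
      obtain ⟨n, hn⟩ := S.isPGroup_E ⟨_, hmE⟩
      have hpow : (e * c) ^ 2 ^ n = 1 := congrArg Subtype.val hn
      have := orderOf_dvd_of_pow_eq_one hpow
      rw [h3] at this
      exact absurd ((Nat.prime_three.dvd_of_dvd_pow this)) (by norm_num)
    have hbot : LinearMap.ker (nMap (S.cj c)) = ⊥ := (Submodule.eq_bot_iff _).2 fun v hv => by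
      rw [mem_ker_nMap, hcj] at hv
      refine eq_zero_of_cj_p ?_
      rcases (by omega : k = 1 ∨ k = 2) with rfl | rfl
      · rwa [pow_one] at hv
      · conv_rhs => rw [← hv, ← hv, ← S.cj_mul (S.p_pow_mem 2) (S.p_pow_mem 2), ← pow_add,
          S.p_pow_mod, pow_one]
    rw [hbot, finrank_bot]
    exact Nat.zero_le _
  · have : Fact (Nat.Prime 3) := ⟨Nat.prime_three⟩
    exact finrank_fix_le hc (orderOf_eq_prime hb3 h1)

end Shape

end CfsgLib.JFourType
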