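import Cfsg.Agent.JFourType.PhaseOne
import Cfsg.Agent.JFourType.Frame

/-!
# Two conjugate involutions each in the extraspecial subgroup of the other

`Twin S T` gives a frame on `E / Z(E)`: the vectors of `E ∩ E_t` form a maximal isotropic subspace,
and the inner elements of `E_t ∩ C(z)` induce the linear involutions.
-/

set_option autoImplicit false
set_option linter.style.haveILetI false
set_option linter.unusedVariables false

namespace CfsgLib.JFourType

open Cfsg CfsgLib.LargeExtraspecial Module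

namespace Shape

variable {G : Type*} [Group G]

/-- Each involution lies in the extraspecial subgroup of the other. -/
structure Twin (S T : Shape G) : Prop where
  mem : T.z ∈ S.E
  mem' : S.z ∈ T.E
  ne : T.z ≠ S.z

variable {S T : Shape G}

theorem Twin.symm (h : Twin S T) : Twin T S := ⟨h.mem', h.mem, Ne.symm h.ne⟩

theorem Twin.z_mem_meet (h : Twin S T) : S.z ∈ S.meet T := ⟨S.sub.z_mem, h.mem'⟩

theorem Twin.t_mem_meet (h : Twin S T) : T.z ∈ S.meet T := ⟨h.mem, T.sub.z_mem⟩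

theorem Twin.eq_one (h : Twin S T) {a : G} (h1 : a = 1 ∨ a = S.z) (h2 : a = 1 ∨ a = T.z) :
    a = 1 := by
  rcases h1 with e | e
  · exact e
  · rcases h2 with e' | e'
    · exact e'
    · exact absurd (e'.symm.trans e) h.ne

theorem Twin.meet_comm_elts (h : Twin S T) {x y : G} (hx : x ∈ S.meet T) (hy : y ∈ S.meet T) :
    x * y = y * x :=
  mul_inv_eq_iff_eq_mul.1 (mul_inv_eq_one.1
    (h.eq_one (S.sub.comm_eq hx.1 hy.1) (T.sub.comm_eq hx.2 hy.2)))

theorem Twin.meet_mul_self (h : Twin S T) {x : G} (hx : x ∈ S.meet T) : x * x = 1 :=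
  h.eq_one (S.sub.sq_eq hx.1) (T.sub.sq_eq hx.2)

theorem Twin.pr_t_ne (h : Twin S T) : S.pr T.z ≠ 0 := fun e => by
  rcases (pr_eq_zero h.mem).1 e with e | e
  · exact T.sub.ne_one e
  · exact h.ne e

theorem Twin.iso (h : Twin S T) [Finite G] :
    ∀ x ∈ S.vecs (S.meet T), ∀ y ∈ S.vecs (S.meet T), S.space.B x y = 0 := by
  rintro _ ⟨x, hx, hxE, rfl⟩ _ ⟨y, hy, hyE, rfl⟩
  exact (space_B_eq_zero hxE hyE).2 (h.meet_comm_elts hx hy)

/-- An element of `E` with the vector of one of `E ∩ E_t` lies there. -/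
theorem Twin.mem_meet_of_pr (h : Twin S T) {x : G} (hx : x ∈ S.E)
    (hv : S.pr x ∈ S.vecs (S.meet T)) : x ∈ S.meet T := by
  obtain ⟨r, hr, hrE, e⟩ := hv
  rcases (pr_eq_iff hrE hx).1 e with e | e
  · exact e ▸ hr
  · have e' : x = S.z * r := by rw [e, ← mul_assoc, S.z_mul_z, one_mul]
    exact e' ▸ mul_mem h.z_mem_meet hr

theorem Twin.cent_eq_pre [Finite G] (h : Twin S T) :
    S.cent T = S.pre (S.space.orth (Submodule.span (ZMod 2) {S.pr T.z})) := by
  ext x
  rw [mem_cent_iff, mem_pre]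
  refine and_congr_right fun hx => ?_
  rw [S.space.mem_orth']
  constructor
  · intro hc w hw
    rcases Space.span_singleton_cases hw with e | e <;> rw [e]
    · simp
    · exact (space_B_eq_zero hx h.mem).2 hc
  · exact fun hc =>
      (space_B_eq_zero hx h.mem).1 (hc _ (Submodule.mem_span_singleton_self _))

theorem Twin.finrank_orth_t [Finite G] (h : Twin S T) :
    finrank (ZMod 2) (S.space.orth (Submodule.span (ZMod 2) {S.pr T.z})) = 11 := by
  have h1 := S.space.finrank_orth (Submodule.span (ZMod 2) {S.pr T.z})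
  rw [finrank_span_singleton h.pr_t_ne] at h1
  omega

theorem Twin.card_cent [Finite G] (h : Twin S T) : Nat.card (S.cent T) = 4096 := by
  rw [h.cent_eq_pre, card_pre, h.finrank_orth_t]
  norm_num

theorem Twin.card_meet_le [Finite G] (h : Twin S T) : Nat.card (S.meet T) ≤ 128 := by
  have hd : finrank (ZMod 2) (S.vecs (S.meet T)) ≤ 6 := by
    have h1 := Submodule.finrank_mono
      (show S.vecs (S.meet T) ≤ S.space.orth (S.vecs (S.meet T)) from
        fun x hx => S.space.mem_orth'.2 fun y hy => h.iso x hx y hy)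
    have h2 := S.space.finrank_orth (S.vecs (S.meet T))
    omega
  rw [card_of_z_mem (show S.meet T ≤ S.E from inf_le_left) h.z_mem_meet]
  calc 2 * 2 ^ _ ≤ 2 * 2 ^ 6 := Nat.mul_le_mul_left _ (Nat.pow_le_pow_right (by norm_num) hd)
    _ = 128 := by norm_num

/-- The inner elements of the centralizer, as a subgroup. -/
def innerH (S : Shape G) : Subgroup G where
  carrier := {x | x ∈ S.H ∧ S.Inner x}
  one_mem' := ⟨one_mem _, inner_E (one_mem _)⟩
  mul_mem' := fun ha hb => ⟨mul_mem ha.1 hb.1, inner_mul ha.1 hb.1 ha.2 hb.2⟩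
  inv_mem' := fun ha => ⟨inv_mem ha.1, inner_inv ha.1 ha.2⟩

/-- The action, as a homomorphism on the centralizer. -/
noncomputable def cjHom (S : Shape G) : ↥S.H →* (S.Vec ≃ₗ[ZMod 2] S.Vec) :=
  MonoidHom.mk' (fun x => S.cj x) fun a b => LinearEquiv.ext fun v => S.cj_mul a.2 b.2 v

/-- The inner elements of `E_t ∩ C(z)`. -/
def innerPart (S T : Shape G) : Subgroup G := T.cent S ⊓ S.innerH

/-- The linear involutions of the frame. -/
noncomputable def linPart (S T : Shape G) : Subgroup (S.Vec ≃ₗ[ZMod 2] S.Vec) :=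
  ((S.innerPart T).subgroupOf S.H).map S.cjHom

theorem mem_linPart {v : S.Vec ≃ₗ[ZMod 2] S.Vec} :
    v ∈ S.linPart T ↔ ∃ y ∈ S.innerPart T, S.cj y = v := by
  constructor
  · rintro ⟨y, hy, rfl⟩
    exact ⟨y, hy, rfl⟩
  · rintro ⟨y, hy, rfl⟩
    exact ⟨⟨y, hy.2.1⟩, hy, rfl⟩

theorem innerPart_le_H : S.innerPart T ≤ S.H := fun _ hy => hy.2.1

theorem Twin.sq_mem_E (h : Twin S T) {y : G} (hy : y ∈ T.E) : y * y ∈ S.E := by
  rcases T.sub.sq_eq hy with e | e <;> rw [e]
  · exact one_mem _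
  · exact h.mem

/-- An element with square in `E` and trivial image lies in `E`. -/
theorem mem_E_of_piv [Finite G] {y : G} (hy : y ∈ S.H) (h2 : y * y ∈ S.E) (h1 : S.piv y = 1) :
    y ∈ S.E := by
  have hi : S.Inner y := by show S.piv y ∈ _; rw [h1]; exact one_mem _
  obtain ⟨e, he, c, hc, rfl, hc2⟩ := exists_C_of_sq hy hi h2
  refine mul_mem he ?_
  by_contra hcE
  refine C_bar_ne_one hc hc2 hcE ((bar_eq_one_iff (inner_of_C hc)).2 ?_)
  rw [piv_mul (S.E_le_H he) (S.C_le_H hc), piv_E he, one_mul] at h1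
  exact h1

/-- The image of an elementary group of inner elements. -/
theorem card_innerPart_le [Finite G] (h : Twin S T) :
    Nat.card (S.innerPart T) ≤ 16 * Nat.card (S.meet T) := by
  let f : ↥(S.innerPart T) →* M22g := MonoidHom.mk' (fun y => S.bar y) fun a b =>
    bar_mul (innerPart_le_H a.2) (innerPart_le_H b.2) a.2.2.2 b.2.2.2
  have hk : f.ker ≤ (S.meet T).subgroupOf (S.innerPart T) := fun y hy =>
    Subgroup.mem_subgroupOf.2 ⟨mem_E_of_piv (innerPart_le_H y.2) (h.sq_mem_E y.2.1.1)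
      ((bar_eq_one_iff y.2.2.2).1 hy), y.2.1.1⟩
  have hel : ∀ a ∈ f.range, a * a = 1 := by
    rintro _ ⟨y, rfl⟩
    rw [← map_mul]
    exact bar_E (h.sq_mem_E y.2.1.1)
  have h1 := f.ker.index_mul_card
  rw [Subgroup.index_ker] at h1
  rw [← h1]
  refine Nat.mul_le_mul (card_elementary_le hel) ((Subgroup.card_le_of_le hk).trans_eq
    (Nat.card_congr (Subgroup.subgroupOfEquivOfLe ?_).toEquiv))
  exact fun r hr => ⟨⟨hr.2, S.E_le_H hr.1⟩, S.E_le_H hr.1, inner_E hr.1⟩

theorem card_cent_le_two_mul [Finite G] (h : Twin S T) :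
    Nat.card (T.cent S) ≤ 2 * Nat.card (S.innerPart T) := by
  let f : ↥(T.cent S) →* MulAut M22g ⧸ Inn M22g :=
    (QuotientGroup.mk' (Inn M22g)).comp
      (MonoidHom.mk' (fun y : ↥(T.cent S) => S.piv y) fun a b => piv_mul a.2.2 b.2.2)
  have hk : f.ker ≤ (S.innerPart T).subgroupOf (T.cent S) := fun y hy =>
    Subgroup.mem_subgroupOf.2 ⟨y.2, y.2.2, (QuotientGroup.eq_one_iff _).1 hy⟩
  have h1 := f.ker.index_mul_card
  rw [Subgroup.index_ker] at h1
  rw [← h1]
  exact Nat.mul_le_mul ((Finite.card_subtype_le _).trans_eq inn_index)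
    ((Subgroup.card_le_of_le hk).trans_eq
      (Nat.card_congr (Subgroup.subgroupOfEquivOfLe inf_le_left).toEquiv))

theorem Twin.card_meet [Finite G] (h : Twin S T) : Nat.card (S.meet T) = 128 := by
  have h1 := card_cent_le_two_mul h
  have h2 := card_innerPart_le h
  have h3 := h.card_meet_le
  have h4 := h.symm.card_cent
  omega

theorem Twin.card_innerPart [Finite G] (h : Twin S T) : Nat.card (S.innerPart T) = 2048 := by
  have h1 := card_cent_le_two_mul h
  have h2 := card_innerPart_le h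
  have h3 := h.card_meet
  have h4 := h.symm.card_cent
  omega

theorem Twin.exists_outer [Finite G] (h : Twin S T) : ∃ y ∈ T.cent S, ¬ S.Inner y := by
  by_contra hcon
  push Not at hcon
  have h1 := h.card_innerPart
  have h2 := h.symm.card_cent
  have := Subgroup.card_le_of_le (show T.cent S ≤ S.innerPart T from
    fun y hy => ⟨hy, hy.2, hcon y hy⟩)
  omega

theorem Twin.finrank_vecs [Finite G] (h : Twin S T) :
    finrank (ZMod 2) (S.vecs (S.meet T)) = 6 := by
  have h1 := h.card_meet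
  rw [card_of_z_mem (show S.meet T ≤ S.E from inf_le_left) h.z_mem_meet] at h1
  exact Nat.pow_right_injective le_rfl (Nat.eq_of_mul_eq_mul_left two_pos
    (h1.trans (by norm_num : (128 : ℕ) = 2 * 2 ^ 6)))

theorem Twin.move [Finite G] (h : Twin S T) {y : G} (hy : y ∈ T.cent S) :
    ∀ m ∈ S.vecs (S.meet T), nMap (S.cj y) m ∈ Submodule.span (ZMod 2) {S.pr T.z} := by
  rintro _ ⟨r, hr, hrE, rfl⟩
  have e1 : nMap (S.cj y) (S.pr r) = S.pr (y * r * y⁻¹ * r⁻¹) := by
    rw [pr_mul (S.conj_mem hy.2 hrE) (inv_mem hrE), pr_inv hrE, nMap_apply, S.cj_pr hy.2 hrE]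
  rw [e1]
  rcases T.sub.comm_eq hy.1 hr.2 with e | e <;> rw [e]
  · rw [pr_one]; exact zero_mem _
  · exact Submodule.mem_span_singleton_self _

theorem Twin.fix_t [Finite G] (h : Twin S T) {y : G} (hy : y ∈ T.cent S) :
    S.cj y (S.pr T.z) = S.pr T.z := by
  rw [S.cj_pr hy.2 h.mem, mul_inv_eq_iff_eq_mul.2 (T.sub.z_comm hy.1)]

theorem Twin.card_linPart [Finite G] (h : Twin S T) : Nat.card (S.linPart T) = 16 := by
  let f : ↥(S.innerPart T) →* (S.Vec ≃ₗ[ZMod 2] S.Vec) :=
    S.cjHom.comp (Subgroup.inclusion innerPart_le_H)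
  have hr : f.range = S.linPart T := by
    ext v
    rw [mem_linPart]
    exact ⟨fun ⟨y, e⟩ => ⟨y, y.2, e⟩, fun ⟨y, hy, e⟩ => ⟨⟨y, hy⟩, e⟩⟩
  have hk : f.ker = (S.meet T).subgroupOf (S.innerPart T) := by
    ext y
    rw [MonoidHom.mem_ker, Subgroup.mem_subgroupOf]
    constructor
    · intro hy
      exact ⟨mem_E_of_cj (innerPart_le_H y.2) fun v => LinearEquiv.congr_fun hy v, y.2.1.1⟩
    · exact fun hy => LinearEquiv.ext fun v => S.cj_E hy.1 v
  have h1 := f.ker.index_mul_card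
  rw [Subgroup.index_ker, hr, hk, Nat.card_congr (Subgroup.subgroupOfEquivOfLe (show
    S.meet T ≤ S.innerPart T from fun r hr => ⟨⟨hr.2, S.E_le_H hr.1⟩, S.E_le_H hr.1,
      inner_E hr.1⟩)).toEquiv, h.card_meet, h.card_innerPart] at h1
  omega

/-- The frame of a twin. -/
noncomputable def Twin.frame [Finite G] (h : Twin S T) : Space.Frame S.space where
  M := S.vecs (S.meet T)
  t := S.pr T.z
  A := S.linPart T
  u0 := S.cj (Classical.choose h.exists_outer)
  M6 := h.finrank_vecs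
  iso := h.iso
  tM := mem_vecs_of_mem h.t_mem_meet h.mem
  t0 := h.pr_t_ne
  card_A := h.card_linPart
  isIso v hv := by
    obtain ⟨y, hy, rfl⟩ := mem_linPart.1 hv
    exact isIso_cj hy.2.1
  lin v hv := by
    obtain ⟨y, hy, rfl⟩ := mem_linPart.1 hv
    exact lin_of_inner hy.2.1 hy.2.2
  invol v hv := by
    obtain ⟨y, hy, rfl⟩ := mem_linPart.1 hv
    exact cj_sq hy.2.1 (h.sq_mem_E hy.1.1)
  fix_t v hv := by
    obtain ⟨y, hy, rfl⟩ := mem_linPart.1 hv
    exact h.fix_t hy.1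
  move v hv := by
    obtain ⟨y, hy, rfl⟩ := mem_linPart.1 hv
    exact h.move hy.1
  rank v hv hne := by
    obtain ⟨y, hy, rfl⟩ := mem_linPart.1 hv
    refine two_lt_rk hy.2.1 hy.2.2 (fun he => hne (LinearEquiv.ext fun v => S.cj_E he v))
      ⟨1, ?_⟩
    rw [pow_one, pow_two]
    exact h.sq_mem_E hy.1.1
  u0_semi := by
    obtain ⟨hy, ho⟩ := Classical.choose_spec h.exists_outer
    exact semi_of_outer hy.2 ho
  u0_invol := by
    obtain ⟨hy, ho⟩ := Classical.choose_spec h.exists_outer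
    exact cj_sq hy.2 (h.sq_mem_E hy.1)
  u0_move := by
    obtain ⟨hy, ho⟩ := Classical.choose_spec h.exists_outer
    exact h.move hy

@[simp] theorem Twin.frame_t [Finite G] (h : Twin S T) : h.frame.t = S.pr T.z := rfl

@[simp] theorem Twin.frame_M [Finite G] (h : Twin S T) : h.frame.M = S.vecs (S.meet T) := rfl

@[simp] theorem Twin.frame_A [Finite G] (h : Twin S T) : h.frame.A = S.linPart T := rfl

/-- The image of the inner part in `M22`. -/
def pentadImage (S T : Shape G) : Set M22g := {a | ∃ y ∈ S.innerPart T, S.bar y = a}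

theorem Twin.exists_pentad [Finite G] (h : Twin S T) :
    ∃ B : Subgroup M22g, IsPentad B ∧ ∀ a, a ∈ B ↔ ∃ y ∈ S.innerPart T, S.bar y = a := by
  let f : ↥(S.innerPart T) →* M22g := MonoidHom.mk' (fun y => S.bar y) fun a b =>
    bar_mul (innerPart_le_H a.2) (innerPart_le_H b.2) a.2.2.2 b.2.2.2
  refine ⟨f.range, ⟨?_, ?_, ?_⟩, fun a => ⟨fun ⟨y, e⟩ => ⟨y, y.2, e⟩,
    fun ⟨y, hy, e⟩ => ⟨⟨y, hy⟩, e⟩⟩⟩
  · rintro _ ⟨y, rfl⟩
    rw [← map_mul]
    exact bar_E (h.sq_mem_E y.2.1.1)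
  · have hel : ∀ a ∈ f.range, a * a = 1 := by
      rintro _ ⟨y, rfl⟩
      rw [← map_mul]
      exact bar_E (h.sq_mem_E y.2.1.1)
    refine le_antisymm (card_elementary_le hel) ?_
    have hk : f.ker ≤ (S.meet T).subgroupOf (S.innerPart T) := fun y hy =>
      Subgroup.mem_subgroupOf.2 ⟨mem_E_of_piv (innerPart_le_H y.2) (h.sq_mem_E y.2.1.1)
        ((bar_eq_one_iff y.2.2.2).1 hy), y.2.1.1⟩
    have h1 := f.ker.index_mul_card
    rw [Subgroup.index_ker, h.card_innerPart] at h1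
    have h2 : Nat.card f.ker ≤ 128 := by
      refine ((Subgroup.card_le_of_le hk).trans_eq ?_)
      rw [Nat.card_congr (Subgroup.subgroupOfEquivOfLe (show S.meet T ≤ S.innerPart T from
        fun r hr => ⟨⟨hr.2, S.E_le_H hr.1⟩, S.E_le_H hr.1, inner_E hr.1⟩)).toEquiv]
      exact h.card_meet
    have h3 : 2048 ≤ Nat.card f.range * 128 := h1 ▸ Nat.mul_le_mul_left _ h2
    omega
  · obtain ⟨u, hu, ho⟩ := h.exists_outer
    refine ⟨S.piv u, ho, ?_⟩
    rintro _ ⟨y, rfl⟩
    refine conj_injective_M22g ?_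
    have e : MulAut.conj (S.piv u (f y)) = S.piv u * MulAut.conj (f y) * (S.piv u)⁻¹ := by
      refine MulEquiv.ext fun x => ?_
      show S.piv u (f y) * x * (S.piv u (f y))⁻¹ = S.piv u (f y * (S.piv u).symm x * (f y)⁻¹)
      rw [map_mul, map_mul, map_inv, MulEquiv.apply_symm_apply]
    rw [e, show MulAut.conj (f y) = S.piv y from conj_bar y.2.2.2]
    have hcomm : u * y * u⁻¹ * (y : G)⁻¹ ∈ S.E := by
      rcases T.sub.comm_eq hu.1 y.2.1.1 with e | e <;> rw [e]
      · exact one_mem _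
      · exact h.mem
    have h1 := piv_E hcomm
    have hyH := innerPart_le_H y.2
    rw [piv_mul (mul_mem (mul_mem hu.2 hyH) (inv_mem hu.2)) (inv_mem hyH),
      piv_mul (mul_mem hu.2 hyH) (inv_mem hu.2), piv_mul hu.2 hyH, piv_inv hu.2, piv_inv hyH,
      mul_inv_eq_one] at h1
    exact h1

end Shape

end CfsgLib.JFourType
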