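import Cfsg.Agent.JFourType.Twin

/-!
# The lifts in `C` of the linear part of a frame

For a twin whose involution `t` satisfies `t t^p t^{p²} = 1`, the subgroup `X` of `C` acting as
the linear part of the frame lies in `E_t`; the elements of odd order of `C` that centralize `t`
and normalise `X` are transitive on it modulo `⟨z⟩`.
-/

set_option autoImplicit false
set_option linter.style.haveILetI false
set_option linter.unusedVariables false
set_option linter.unusedSectionVars false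
set_option linter.overlappingInstances false
set_option linter.unnecessarySimpa false

namespace CfsgLib.JFourType

open Cfsg CfsgLib.LargeExtraspecial Module

namespace Shape

variable {G : Type*} [Group G] {S T : Shape G}

/-- The product of the `p`-orbit of `t` is trivial. -/
def Normed (S T : Shape G) : Prop :=
  T.z * (S.p * T.z * S.p⁻¹) * (S.p ^ 2 * T.z * (S.p ^ 2)⁻¹) = 1

/-- The elements of `C` acting as the linear part. -/
noncomputable def lifts [Finite G] (h : Twin S T) : Subgroup G where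
  carrier := {c | c ∈ S.C ∧ S.cj c ∈ S.linPart T}
  one_mem' := ⟨one_mem _, by
    rw [show S.cj 1 = 1 from LinearEquiv.ext S.cj_one]; exact one_mem _⟩
  mul_mem' := fun {a b} ha hb => ⟨mul_mem ha.1 hb.1, by
    rw [show S.cj (a * b) = S.cj a * S.cj b from
      LinearEquiv.ext fun v => S.cj_mul (S.C_le_H ha.1) (S.C_le_H hb.1) v]
    exact mul_mem ha.2 hb.2⟩
  inv_mem' := fun {a} ha => ⟨inv_mem ha.1, by
    rw [show S.cj a⁻¹ = (S.cj a)⁻¹ from S.cj_inv_eq_symm a]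
    exact inv_mem ha.2⟩

variable [Finite G]

theorem mem_lifts {h : Twin S T} {c : G} :
    c ∈ lifts h ↔ c ∈ S.C ∧ S.cj c ∈ S.linPart T := Iff.rfl

/-- The preimage of the line of `t`. -/
noncomputable def lineSub [Finite G] (S : Shape G) (x : G) : Subgroup G :=
  S.pre (S.space.line (S.pr x))

theorem Twin.lineSub_le_meet (h : Twin S T) : S.lineSub T.z ≤ S.meet T :=
  fun x hx => h.mem_meet_of_pr hx.1 (h.frame.L_le_M hx.2)

theorem Twin.t_mem_lineSub (h : Twin S T) : T.z ∈ S.lineSub T.z :=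
  ⟨h.mem, S.space.self_mem_line _⟩

theorem Twin.conj_p_mem_lineSub (h : Twin S T) (k : ℕ) {x : G} (hx : x ∈ S.lineSub T.z) :
    S.p ^ k * x * (S.p ^ k)⁻¹ ∈ S.lineSub T.z := by
  refine ⟨S.conj_mem (S.p_pow_mem k) hx.1, ?_⟩
  rw [← S.cj_pr (S.p_pow_mem k) hx.1]
  induction k with
  | zero => rw [pow_zero, cj_one]; exact hx.2
  | succ k ih =>
    rw [pow_succ', S.cj_mul S.p_mem_H (S.p_pow_mem k), ← space_om]
    exact S.space.stable_line _ _ ih

theorem lifts_le_C (h : Twin S T) : lifts h ≤ S.C := fun _ hc => hc.1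

theorem lifts_sq (h : Twin S T) {c : G} (hc : c ∈ lifts h) : c * c ∈ S.E :=
  mem_E_of_cj (mul_mem (S.C_le_H hc.1) (S.C_le_H hc.1)) fun v => by
    rw [S.cj_mul (S.C_le_H hc.1) (S.C_le_H hc.1)]
    exact h.frame.invol _ hc.2 v

theorem z_mem_lifts (h : Twin S T) : S.z ∈ lifts h :=
  ⟨S.z_mem_C, by rw [show S.cj S.z = 1 from LinearEquiv.ext S.cj_z]; exact one_mem _⟩

theorem lifts_comm_line (h : Twin S T) {c x : G} (hc : c ∈ lifts h) (hx : x ∈ S.lineSub T.z) :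
    c * x = x * c :=
  comm_of_fix hc.1 hx.1 (h.frame.fix_L hc.2 hx.2)

theorem lifts_le_TH (h : Twin S T) : lifts h ≤ T.H := fun _ hc =>
  T.mem_H.2 (lifts_comm_line h hc h.t_mem_lineSub)

theorem Twin.ptp_ne (h : Twin S T) (hn : Normed S T) {a : G}
    (ha : a = S.z ∨ a = S.z * T.z) :
    a * (S.p * a * S.p⁻¹) * (S.p ^ 2 * a * (S.p ^ 2)⁻¹) ≠ 1 := by
  have hpz : ∀ k : ℕ, Commute (S.p ^ k) S.z := fun k =>
    (show Commute S.p S.z from S.p_comm).pow_left k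
  have hz1 : S.p * S.z * S.p⁻¹ = S.z := mul_inv_eq_iff_eq_mul.2 S.p_comm
  have hz2 : S.p ^ 2 * S.z * (S.p ^ 2)⁻¹ = S.z := mul_inv_eq_iff_eq_mul.2 (hpz 2).eq
  rcases ha with rfl | rfl
  · rw [hz1, hz2, S.z_mul_z, one_mul]
    exact S.sub.ne_one
  · have ez : ∀ k : ℕ, S.p ^ k * (S.z * T.z) * (S.p ^ k)⁻¹ =
        S.z * (S.p ^ k * T.z * (S.p ^ k)⁻¹) := fun k => by
      rw [← mul_assoc (S.p ^ k), (hpz k).eq]
      group
    have e1 := ez 1
    rw [pow_one] at e1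
    have hy := S.conj_mem S.p_mem_H h.mem
    have hw := S.conj_mem (S.p_pow_mem 2) h.mem
    rw [e1, ez 2]
    intro e
    refine S.sub.ne_one ?_
    calc S.z = S.z * (T.z * (S.p * T.z * S.p⁻¹) * (S.p ^ 2 * T.z * (S.p ^ 2)⁻¹)) := by
          rw [hn, mul_one]
      _ = S.z * (T.z * (S.p * T.z * S.p⁻¹)) * (S.p ^ 2 * T.z * (S.p ^ 2)⁻¹) :=
          (mul_assoc _ _ _).symm
      _ = S.z * T.z * (S.p * T.z * S.p⁻¹) * (S.z * S.z) * (S.p ^ 2 * T.z * (S.p ^ 2)⁻¹) := by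
          rw [S.z_mul_z, mul_one, ← mul_assoc S.z]
      _ = S.z * T.z * ((S.p * T.z * S.p⁻¹) * S.z) * (S.z * (S.p ^ 2 * T.z * (S.p ^ 2)⁻¹)) := by
          group
      _ = S.z * T.z * (S.z * (S.p * T.z * S.p⁻¹)) * (S.z * (S.p ^ 2 * T.z * (S.p ^ 2)⁻¹)) := by
          rw [S.sub.z_comm hy]
      _ = 1 := e

/-- A lift moves `E ∩ E_t` exactly into `⟨t⟩`. -/
theorem lifts_comm_meet (h : Twin S T) (hn : Normed S T) {c x : G} (hc : c ∈ lifts h)
    (hx : x ∈ S.meet T) : c * x * c⁻¹ * x⁻¹ = 1 ∨ c * x * c⁻¹ * x⁻¹ = T.z := by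
  have hcH := S.C_le_H hc.1
  have hxE : x ∈ S.E := hx.1
  set a := c * x * c⁻¹ * x⁻¹ with ha
  have haE : a ∈ S.E := mul_mem (S.conj_mem hcH hxE) (inv_mem hxE)
  have hpr : S.pr a ∈ Submodule.span (ZMod 2) ({S.pr T.z} : Set S.Vec) := by
    have e : S.pr a = nMap (S.cj c) (S.pr x) := by
      rw [ha, pr_mul (S.conj_mem hcH hxE) (inv_mem hxE), pr_inv hxE, nMap_apply, S.cj_pr hcH hxE]
    rw [e]
    exact h.frame.move _ hc.2 _ (mem_vecs_of_mem hx hxE)
  have hcases : a = 1 ∨ a = T.z ∨ a = S.z ∨ a = S.z * T.z := by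
    rcases Space.span_singleton_cases hpr with e | e
    · rcases (pr_eq_zero haE).1 e with e | e
      · exact Or.inl e
      · exact Or.inr (Or.inr (Or.inl e))
    · rcases (pr_eq_iff haE h.mem).1 e with e | e
      · exact Or.inr (Or.inl e)
      · exact Or.inr (Or.inr (Or.inr e))
  by_contra hcon
  push Not at hcon
  have ha2 : a = S.z ∨ a = S.z * T.z := by
    rcases hcases with e | e | e | e
    · exact absurd e hcon.1
    · exact absurd e hcon.2
    · exact Or.inl e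
    · exact Or.inr e
  have haL : a ∈ S.lineSub T.z := ⟨haE, by
    rcases Space.span_singleton_cases hpr with e | e <;> rw [e]
    · exact zero_mem _
    · exact S.space.self_mem_line _⟩
  set a1 := S.p * a * S.p⁻¹ with ha1
  set a2 := S.p ^ 2 * a * (S.p ^ 2)⁻¹ with ha2'
  set y := S.p * x * S.p⁻¹ with hy
  set w := S.p ^ 2 * x * (S.p ^ 2)⁻¹ with hw
  have hyE : y ∈ S.E := S.conj_mem S.p_mem_H hxE
  have hwE : w ∈ S.E := S.conj_mem (S.p_pow_mem 2) hxE
  have ha1L : a1 ∈ S.lineSub T.z := by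
    have := h.conj_p_mem_lineSub 1 haL
    rwa [pow_one] at this
  have ha2L : a2 ∈ S.lineSub T.z := h.conj_p_mem_lineSub 2 haL
  have hcp : Commute c S.p := (S.mem_C.1 hc.1).2
  have hcy : c * y * c⁻¹ = a1 * y := by
    calc c * y * c⁻¹ = (c * S.p) * x * (c * S.p)⁻¹ := by rw [hy]; group
      _ = (S.p * c) * x * (S.p * c)⁻¹ := by rw [hcp.eq]
      _ = a1 * y := by rw [ha1, hy, ha]; group
  have hcw : c * w * c⁻¹ = a2 * w := by
    calc c * w * c⁻¹ = (c * S.p ^ 2) * x * (c * S.p ^ 2)⁻¹ := by rw [hw]; group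
      _ = (S.p ^ 2 * c) * x * (S.p ^ 2 * c)⁻¹ := by rw [(hcp.pow_right 2).eq]
      _ = a2 * w := by rw [ha2', hw, ha]; group
  have hax : ∀ b ∈ S.lineSub T.z, x * b = b * x := fun b hb =>
    h.meet_comm_elts hx (h.lineSub_le_meet hb)
  have hay : ∀ b ∈ S.lineSub T.z, y * b = b * y := fun b hb => by
    have hb' := h.conj_p_mem_lineSub 2 hb
    have e := hax _ hb'
    calc y * b = S.p * (x * (S.p⁻¹ * b * S.p)) * S.p⁻¹ := by rw [hy]; group
      _ = S.p * (x * (S.p ^ 2 * b * (S.p ^ 2)⁻¹)) * S.p⁻¹ := by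
          rw [← S.p_inv, inv_inv]
      _ = S.p * ((S.p ^ 2 * b * (S.p ^ 2)⁻¹) * x) * S.p⁻¹ := by rw [e]
      _ = b * y := by rw [← S.p_inv, inv_inv, hy]; group
  have hsum : x * y * w = 1 ∨ x * y * w = S.z := by
    rw [← pr_eq_zero (mul_mem (mul_mem hxE hyE) hwE), pr_mul (mul_mem hxE hyE) hwE,
      pr_mul hxE hyE, hy, hw, ← S.cj_pr S.p_mem_H hxE, ← S.cj_pr (S.p_pow_mem 2) hxE, pow_two,
      S.cj_mul S.p_mem_H S.p_mem_H, ← space_om, ← space_om, ← S.space.om_sum (S.pr x)]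
    abel
  have hfix : c * (x * y * w) * c⁻¹ = x * y * w := by
    rcases hsum with e | e <;> rw [e]
    · simp
    · exact mul_inv_eq_iff_eq_mul.2 (S.mem_C.1 hc.1).1
  have h3 : c * (x * y * w) * c⁻¹ = a * a1 * a2 * (x * y * w) := by
    calc c * (x * y * w) * c⁻¹ = (c * x * c⁻¹) * (c * y * c⁻¹) * (c * w * c⁻¹) := by group
      _ = (a * x) * (a1 * y) * (a2 * w) := by rw [hcy, hcw, ha]; group
      _ = a * (x * a1) * (y * a2) * w := by group
      _ = a * (a1 * x) * (a2 * y) * w := by rw [hax a1 ha1L, hay a2 ha2L]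
      _ = a * a1 * (x * a2) * y * w := by group
      _ = a * a1 * (a2 * x) * y * w := by rw [hax a2 ha2L]
      _ = _ := by group
  rw [hfix] at h3
  exact h.ptp_ne hn ha2 (mul_eq_right.1 h3.symm)

/-- The lifts lie in `E_t`. -/
theorem lifts_le_TE (h : Twin S T) (hn : Normed S T) : lifts h ≤ T.E := by
  intro c hc
  obtain ⟨w, hw, hwc⟩ := mem_linPart.1 hc.2
  have hcH := S.C_le_H hc.1
  have hwH := innerPart_le_H hw
  have he := inv_mul_mem_E_of_cj hwH hcH hwc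
  set e := w⁻¹ * c with hedef
  have hc' : c = w * e := by rw [hedef, mul_inv_cancel_left]
  suffices h' : e ∈ S.meet T from hc' ▸ mul_mem hw.1.1 h'.2
  refine h.mem_meet_of_pr he ?_
  show S.pr e ∈ h.frame.M
  rw [← h.frame.orth_M]
  refine S.space.mem_orth'.2 ?_
  rintro _ ⟨r, hr, hrE, rfl⟩
  rw [space_B_eq_zero he hrE]
  set u := e * r * e⁻¹ * r⁻¹ with hu
  have hu1 : u = 1 ∨ u = S.z := S.sub.comm_eq he hrE
  have huw : w * u * w⁻¹ = u := by
    rcases hu1 with e1 | e1 <;> rw [e1]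
    · simp
    · exact mul_inv_eq_iff_eq_mul.2 (S.mem_H.1 hwH)
  have hk : c * r * c⁻¹ * r⁻¹ = u * (w * r * w⁻¹ * r⁻¹) := by
    calc c * r * c⁻¹ * r⁻¹ = (w * u * w⁻¹) * (w * r * w⁻¹ * r⁻¹) := by rw [hu, hc']; group
      _ = _ := by rw [huw]
  have hu2 : u = 1 ∨ u = T.z := by
    have e2 : u = (c * r * c⁻¹ * r⁻¹) * (w * r * w⁻¹ * r⁻¹)⁻¹ := eq_mul_inv_iff_mul_eq.2 hk.symm
    rw [e2]
    rcases lifts_comm_meet h hn hc hr with a | a <;>
      rcases T.sub.comm_eq hw.1.1 hr.2 with b | b <;> rw [a, b]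
    · exact Or.inl (by simp)
    · exact Or.inr (by rw [one_mul, T.z_inv])
    · exact Or.inr (by simp)
    · exact Or.inl (mul_inv_cancel _)
  exact mul_inv_eq_iff_eq_mul.1 (mul_inv_eq_one.1 (h.eq_one hu1 hu2))

theorem lifts_mul_self (h : Twin S T) (hn : Normed S T) {c : G} (hc : c ∈ lifts h) : c * c = 1 :=
  h.eq_one (C_sq hc.1 (lifts_sq h hc)) (T.sub.sq_eq (lifts_le_TE h hn hc))

theorem t_not_mem_C (h : Twin S T) : T.z ∉ S.C := fun hc => by
  rcases E_inf_C h.mem hc with e | e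
  · exact T.sub.ne_one e
  · exact h.ne e

theorem lifts_comm (h : Twin S T) (hn : Normed S T) {c d : G} (hc : c ∈ lifts h)
    (hd : d ∈ lifts h) : c * d = d * c := by
  rcases T.sub.comm_eq (lifts_le_TE h hn hc) (lifts_le_TE h hn hd) with e | e
  · exact mul_inv_eq_iff_eq_mul.1 (mul_inv_eq_one.1 e)
  · exact absurd (e ▸ mul_mem (mul_mem (mul_mem hc.1 hd.1) (inv_mem hc.1)) (inv_mem hd.1))
      (t_not_mem_C h)

theorem exists_lifts (h : Twin S T) {v : S.Vec ≃ₗ[ZMod 2] S.Vec} (hv : v ∈ S.linPart T) :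
    ∃ c ∈ lifts h, S.cj c = v := by
  obtain ⟨y, hy, rfl⟩ := mem_linPart.1 hv
  obtain ⟨e, he, c, hc, rfl, -⟩ := exists_C_of_sq hy.2.1 hy.2.2 (h.sq_mem_E hy.1.1)
  have hcj : S.cj c = S.cj (e * c) := (cj_mul_E he (S.C_le_H hc)).symm
  exact ⟨c, ⟨hc, hcj ▸ hv⟩, hcj⟩

/-- Two lifts with the same action differ by a power of `z`. -/
theorem lifts_eq_of_cj (h : Twin S T) {c d : G} (hc : c ∈ lifts h) (hd : d ∈ lifts h)
    (e : S.cj c = S.cj d) : d = c ∨ d = c * S.z := by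
  rcases E_inf_C (inv_mul_mem_E_of_cj (S.C_le_H hc.1) (S.C_le_H hd.1) e)
    (mul_mem (inv_mem hc.1) hd.1) with e1 | e1
  · exact Or.inl (inv_mul_eq_one.1 e1).symm
  · exact Or.inr (inv_mul_eq_iff_eq_mul.1 e1)

theorem card_lifts (h : Twin S T) : Nat.card (lifts h) = 32 := by
  let f : ↥(lifts h) →* ↥(S.linPart T) :=
    MonoidHom.mk' (fun c => ⟨S.cj c, c.2.2⟩) fun a b => Subtype.ext (LinearEquiv.ext fun v =>
      S.cj_mul (S.C_le_H a.2.1) (S.C_le_H b.2.1) v)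
  have hsur : Function.Surjective f := fun v => by
    obtain ⟨c, hc, e⟩ := exists_lifts h v.2
    exact ⟨⟨c, hc⟩, Subtype.ext e⟩
  have hk : f.ker = (Subgroup.zpowers S.z).subgroupOf (lifts h) := by
    ext c
    rw [MonoidHom.mem_ker, Subgroup.mem_subgroupOf]
    constructor
    · intro hc
      rcases lifts_eq_of_cj h (one_mem _) c.2
        ((LinearEquiv.ext S.cj_one : S.cj 1 = 1).trans (congrArg Subtype.val hc).symm) with e | e
      · rw [e]; exact one_mem _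
      · rw [e, one_mul]; exact Subgroup.mem_zpowers _
    · intro hc
      refine Subtype.ext (LinearEquiv.ext fun v => ?_)
      show S.cj (c : G) v = v
      rcases mem_zpowers_two S.sub.two hc with e | e <;> rw [e]
      · exact S.cj_one v
      · exact S.cj_z v
  have h1 := f.ker.index_mul_card
  rw [Subgroup.index_ker, MonoidHom.range_eq_top.2 hsur, Nat.card_congr Subgroup.topEquiv.toEquiv,
    h.card_linPart, hk,
    Nat.card_congr (Subgroup.subgroupOfEquivOfLe (Subgroup.zpowers_le.2 (z_mem_lifts h))).toEquiv,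
    Nat.card_zpowers, S.sub.two] at h1
  omega

/-! ### The elements of odd order normalising the lifts -/

/-- Elements of odd order of `C` centralizing `t` and normalising the lifts. -/
def mover (h : Twin S T) : Set G :=
  {g | g ∈ S.C ∧ Odd (orderOf g) ∧ g * T.z = T.z * g ∧ ∀ c ∈ lifts h, g * c * g⁻¹ ∈ lifts h}

theorem bar_lifts_iff (h : Twin S T) (a : M22g) :
    (∃ y ∈ S.innerPart T, S.bar y = a) ↔ ∃ c ∈ lifts h, S.bar c = a := by
  constructor
  · rintro ⟨y, hy, rfl⟩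
    obtain ⟨e, he, c, hc, rfl, -⟩ := exists_C_of_sq hy.2.1 hy.2.2 (h.sq_mem_E hy.1.1)
    exact ⟨c, ⟨hc, mem_linPart.2 ⟨_, hy, cj_mul_E he (S.C_le_H hc)⟩⟩,
      (bar_mul_E he (S.C_le_H hc) (inner_of_C hc)).symm⟩
  · rintro ⟨c, hc, rfl⟩
    obtain ⟨w, hw, hwc⟩ := mem_linPart.1 hc.2
    have he := inv_mul_mem_E_of_cj (innerPart_le_H hw) (S.C_le_H hc.1) hwc
    refine ⟨w, hw, ?_⟩
    have e := bar_mul (innerPart_le_H hw) (S.E_le_H he) hw.2.2 (inner_E he)
    rw [mul_inv_cancel_left, bar_E he, mul_one] at e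
    exact e.symm

theorem lifts_bar_eq (h : Twin S T) {c : G} (hc : c ∈ S.C) (h2 : c * c ∈ S.E)
    (hb : ∃ d ∈ lifts h, S.bar d = S.bar c) : c ∈ lifts h := by
  obtain ⟨d, hd, e⟩ := hb
  rcases eq_of_bar_eq hd.1 hc e (lifts_sq h hd) h2 with r | r
  · exact r ▸ hd
  · exact r ▸ mul_mem (z_mem_lifts h) hd

/-- Odd elements of `M22` normalising the image lift to movers. -/
theorem exists_mover (h : Twin S T) {a : M22g} (hodd : Odd (orderOf a))
    (hn : ∀ c ∈ lifts h, ∃ d ∈ lifts h, S.bar d = a * S.bar c * a⁻¹) :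
    ∃ g ∈ mover h, S.bar g = a := by
  obtain ⟨c, hc, hca⟩ := exists_bar (S := S) a
  set n := orderOf a with hndef
  have hk : c ^ (6 * n) = 1 := by
    have h1 : S.piv (c ^ n) = 1 := by
      rw [← bar_eq_one_iff (inner_of_C (pow_mem hc n)), bar_pow hc, hca, hndef, pow_orderOf_eq_one]
    obtain ⟨k, -, hk | hk⟩ := eq_of_piv_eq_one (pow_mem hc n) h1 <;>
      rw [mul_comm, pow_mul, hk]
    · rw [← pow_mul, show k * 6 = 3 * (2 * k) by ring, pow_mul, S.p_pow_three, one_pow]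
    · rw [((show Commute S.p S.z from S.p_comm).symm.pow_right k).mul_pow, ← pow_mul,
        show k * 6 = 3 * (2 * k) by ring, pow_mul S.p, S.p_pow_three, one_pow, mul_one,
        show (6 : ℕ) = 2 * 3 by norm_num, pow_mul, pow_two, S.z_mul_z, one_pow]
  set c' := c ^ (n + 1) with hc'def
  have hc' : c' ∈ S.C := pow_mem hc _
  have hc'a : S.bar c' = a := by
    rw [hc'def, bar_pow hc, hca, pow_succ, hndef, pow_orderOf_eq_one, one_mul]
  have hc'3 : c' ^ (3 * n) = 1 := by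
    obtain ⟨q, hq⟩ := hodd
    rw [hc'def, ← pow_mul, show (n + 1) * (3 * n) = 6 * n * (q + 1) by rw [hq]; ring, pow_mul, hk,
      one_pow]
  have hc'odd : ∀ x : G, x ^ (3 * n) = 1 → Odd (orderOf x) := fun x hx =>
    ((show Odd 3 by decide).mul hodd).of_dvd_nat (orderOf_dvd_of_pow_eq_one hx)
  have hnorm : ∀ g ∈ S.C, S.bar g = a → ∀ d ∈ lifts h, g * d * g⁻¹ ∈ lifts h := by
    intro g hg hga d hd
    refine lifts_bar_eq h (mul_mem (mul_mem hg hd.1) (inv_mem hg)) ?_ ?_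
    · rw [show g * d * g⁻¹ * (g * d * g⁻¹) = g * (d * d) * g⁻¹ by group]
      exact S.conj_mem (S.C_le_H hg) (lifts_sq h hd)
    · obtain ⟨d', hd', e⟩ := hn d hd
      exact ⟨d', hd', by rw [e, bar_conj hg hd.1, hga]⟩
  have hc'H := S.C_le_H hc'
  have hL : ∀ y ∈ h.frame.L, S.cj c' y ∈ h.frame.L := by
    intro y hy
    refine h.frame.mem_L_of_fixed fun v hv => ?_
    obtain ⟨d, hd, rfl⟩ := exists_lifts h hv
    have hinv : c'⁻¹ * d * c' ∈ lifts h := by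
      haveI : Finite ↥(lifts h) := inferInstance
      obtain ⟨r, hr⟩ := Finite.surjective_of_injective
        (f := fun r : ↥(lifts h) => (⟨_, hnorm c' hc' hc'a r r.2⟩ : ↥(lifts h)))
        (fun r s e => Subtype.ext (mul_left_cancel (mul_right_cancel (congrArg Subtype.val e))))
        ⟨d, hd⟩
      have e : c' * (r : G) * c'⁻¹ = d := congrArg Subtype.val hr
      rw [← e]
      simpa [mul_assoc] using r.2
    have e := h.frame.fix_L hinv.2 hy
    rw [S.cj_mul (mul_mem (inv_mem hc'H) (S.C_le_H hd.1)) hc'H,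
      S.cj_mul (inv_mem hc'H) (S.C_le_H hd.1)] at e
    calc S.cj d (S.cj c' y) = S.cj c' (S.cj c'⁻¹ (S.cj d (S.cj c' y))) := by
          rw [← S.cj_mul hc'H (inv_mem hc'H), mul_inv_cancel, cj_one]
      _ = S.cj c' y := by rw [e]
  obtain ⟨j, hj⟩ : ∃ j : ℕ, S.cj (c' * S.p ^ j) (S.pr T.z) = S.pr T.z := by
    have e0 : ∀ j : ℕ, S.cj (c' * S.p ^ j) (S.pr T.z) =
        S.cj (S.p ^ j) (S.cj c' (S.pr T.z)) := fun j => by
      rw [← S.cj_mul (S.p_pow_mem j) hc'H,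
        ((show Commute c' S.p from (S.mem_C.1 hc').2).pow_right j).eq]
    rcases span_pair_eq (hL _ h.frame.t_mem_L) with e | e | e | e
    · exact absurd ((S.cj c').map_eq_zero_iff.1 e) h.pr_t_ne
    · exact ⟨0, by rw [e0, pow_zero, cj_one]; exact e⟩
    · refine ⟨2, ?_⟩
      rw [e0, show S.cj c' (S.pr T.z) = S.space.om (S.pr T.z) from e, pow_two,
        S.cj_mul S.p_mem_H S.p_mem_H, ← space_om, ← space_om, S.space.om_cube]
    · refine ⟨1, ?_⟩
      rw [e0, show S.cj c' (S.pr T.z) = S.pr T.z + S.space.om (S.pr T.z) from e, pow_one,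
        ← space_om, map_add, S.space.om_om, v_add_cancel]
  have hgC : c' * S.p ^ j ∈ S.C := mul_mem hc' (pow_mem S.p_mem_C j)
  have hga : S.bar (c' * S.p ^ j) = a := by
    rw [bar_mul hc'H (S.p_pow_mem j) (inner_of_C hc') (inner_of_C (pow_mem S.p_mem_C j)), hc'a,
      (bar_eq_one_iff (inner_of_C (pow_mem S.p_mem_C j))).2 (piv_p_pow j), mul_one]
  refine ⟨c' * S.p ^ j, ⟨hgC, hc'odd _ ?_, comm_of_fix hgC h.mem hj, hnorm _ hgC hga⟩, hga⟩
  rw [((show Commute c' S.p from (S.mem_C.1 hc').2).pow_right j).mul_pow, hc'3, one_mul, ← pow_mul,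
    show j * (3 * n) = 3 * (j * n) by ring, pow_mul, S.p_pow_three, one_pow]

theorem mover_frame (h : Twin S T) {g : G} (hg : g ∈ mover h) :
    S.space.IsIso (S.cj g) ∧ S.space.Lin (S.cj g) ∧ S.cj g h.frame.t = h.frame.t ∧
      ∀ v ∈ h.frame.A, S.cj g * v * (S.cj g)⁻¹ ∈ h.frame.A := by
  obtain ⟨hgC, -, hgt, hgn⟩ := hg
  have hgH := S.C_le_H hgC
  refine ⟨isIso_cj hgH, lin_of_C hgC, ?_, fun v hv => ?_⟩
  · show S.cj g (S.pr T.z) = S.pr T.z
    rw [S.cj_pr hgH h.mem, mul_inv_eq_iff_eq_mul.2 hgt]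
  · obtain ⟨d, hd, rfl⟩ := exists_lifts h hv
    have e : S.cj g * S.cj d * (S.cj g)⁻¹ = S.cj (g * d * g⁻¹) := LinearEquiv.ext fun v => by
      rw [S.cj_mul (mul_mem hgH (S.C_le_H hd.1)) (inv_mem hgH), S.cj_mul hgH (S.C_le_H hd.1)]
      rfl
    rw [e]
    exact (hgn d hd).2

theorem mover_trans (h : Twin S T) (U : Set (S.Vec ≃ₗ[ZMod 2] S.Vec)) (hne : U.Nonempty)
    (hU : ∀ v ∈ U, v ∈ h.frame.A ∧ v ≠ 1)
    (hinv : ∀ u ∈ S.cj '' mover h, ∀ v ∈ U, u * v * u⁻¹ ∈ U) :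
    ∀ v ∈ h.frame.A, v ≠ 1 → v ∈ U := by
  obtain ⟨B, hB, hBmem⟩ := h.exists_pentad
  have key : ∀ c ∈ lifts h, ∀ d ∈ lifts h, S.bar c = S.bar d → S.cj d = S.cj c := by
    intro c hc d hd e
    rcases eq_of_bar_eq hc.1 hd.1 e (lifts_sq h hc) (lifts_sq h hd) with r | r <;> rw [r]
    exact LinearEquiv.ext fun v => by rw [S.cj_mul S.z_mem_H (S.C_le_H hc.1), S.cj_z]
  let U' : Set M22g := {a | ∃ c ∈ lifts h, S.cj c ∈ U ∧ S.bar c = a}
  have hcj1 : ∀ c ∈ lifts h, S.bar c = 1 → S.cj c = 1 := fun c hc e =>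
    (key 1 (one_mem _) c hc (by rw [bar_one, e])).trans (LinearEquiv.ext S.cj_one)
  have h1 : U'.Nonempty := by
    obtain ⟨v, hv⟩ := hne
    obtain ⟨c, hc, rfl⟩ := exists_lifts h (hU v hv).1
    exact ⟨_, c, hc, hv, rfl⟩
  have h2 : ∀ a ∈ U', a ∈ B ∧ a ≠ 1 := by
    rintro _ ⟨c, hc, hcU, rfl⟩
    exact ⟨(hBmem _).2 ((bar_lifts_iff h _).2 ⟨c, hc, rfl⟩),
      fun e => (hU _ hcU).2 (hcj1 c hc e)⟩
  have h3 : ∀ a : M22g, Odd (orderOf a) → (∀ b ∈ B, a * b * a⁻¹ ∈ B) →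
      ∀ b ∈ U', a * b * a⁻¹ ∈ U' := by
    rintro a hodd hn _ ⟨c, hc, hcU, rfl⟩
    obtain ⟨g, hg, rfl⟩ := exists_mover h hodd fun d hd =>
      (bar_lifts_iff h _).1 ((hBmem _).1 (hn _ ((hBmem _).2 ((bar_lifts_iff h _).2 ⟨d, hd, rfl⟩))))
    refine ⟨g * c * g⁻¹, hg.2.2.2 c hc, ?_, bar_conj hg.1 hc.1⟩
    have e : S.cj (g * c * g⁻¹) = S.cj g * S.cj c * (S.cj g)⁻¹ := LinearEquiv.ext fun v => by
      rw [S.cj_mul (mul_mem (S.C_le_H hg.1) (S.C_le_H hc.1)) (inv_mem (S.C_le_H hg.1)),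
        S.cj_mul (S.C_le_H hg.1) (S.C_le_H hc.1)]
      rfl
    rw [e]
    exact hinv _ ⟨g, hg, rfl⟩ _ hcU
  intro v hv hv1
  obtain ⟨c, hc, rfl⟩ := exists_lifts h hv
  have hb1 : S.bar c ≠ 1 := fun e => hv1 (hcj1 c hc e)
  obtain ⟨d, hd, hdU, e⟩ :=
    hB.trans U' h1 h2 h3 ((hBmem _).2 ((bar_lifts_iff h _).2 ⟨c, hc, rfl⟩)) hb1
  rw [key d hd c hc e]
  exact hdU

end Shape

end CfsgLib.JFourType
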